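import Mathlib

/-!
Transfer to a quotient of order two of a Sylow two-subgroup, recording that the element lies outside the normal
subgroup obtained.
-/

set_option autoImplicit false
set_option linter.unusedSectionVars false

namespace Cfsg.Agent.Perm.TwoStab

open MulAction

variable {G : Type*} [Group G] [Finite G]

/-- If all conjugates in `T` of `u` avoid `D` while those of the even two-power powers lie in `D`,
then the group has a normal subgroup of index two. -/
theorem exists_index_two_notMem (T : Sylow 2 G) (D : Subgroup G) (hDi : D.relIndex (T : Subgroup G) = 2)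
    (u : G) (hu : u ∈ (T : Subgroup G))
    (h1 : ∀ g : G, g⁻¹ * u * g ∈ (T : Subgroup G) → g⁻¹ * u * g ∉ D)
    (h2 : ∀ (g : G) (i : ℕ), 1 ≤ i → g⁻¹ * u ^ (2 ^ i) * g ∈ (T : Subgroup G) →
      g⁻¹ * u ^ (2 ^ i) * g ∈ D) :
    ∃ N : Subgroup G, N.Normal ∧ N.index = 2 ∧ u ∉ N := by
  classical
  haveI : Fact (Nat.Prime 2) := ⟨Nat.prime_two⟩
  have hidx : (D.subgroupOf (T : Subgroup G)).index = 2 := hDi
  let φ : ↥(T : Subgroup G) →* ℤˣ :=
    { toFun := fun x => if x ∈ D.subgroupOf (T : Subgroup G) then 1 else -1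
      map_one' := if_pos (one_mem _)
      map_mul' := fun x y => by
        by_cases hx : x ∈ D.subgroupOf (T : Subgroup G) <;>
          by_cases hy : y ∈ D.subgroupOf (T : Subgroup G) <;>
          simp [Subgroup.mul_mem_iff_of_index_two hidx, hx, hy] }
  haveI : Fintype (Quotient (orbitRel (Subgroup.zpowers u) (G ⧸ (T : Subgroup G)))) := Fintype.ofFinite _
  obtain ⟨n, hn⟩ := IsPGroup.iff_orderOf.1 T.isPGroup' ⟨u, hu⟩
  rw [Subgroup.orderOf_mk] at hn
  -- the periods are powers of two
  have hper : ∀ x : G ⧸ (T : Subgroup G), ∃ i, Function.minimalPeriod (u • ·) x = 2 ^ i := by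
    intro x
    have h : Function.IsPeriodicPt (u • ·) (2 ^ n) x := by
      rw [Function.IsPeriodicPt, Function.IsFixedPt, smul_iterate, ← hn]
      simp [pow_orderOf_eq_one]
    obtain ⟨i, -, hi⟩ := (Nat.dvd_prime_pow Nat.prime_two).1 h.minimalPeriod_dvd
    exact ⟨i, hi⟩
  have hterm : ∀ q : Quotient (orbitRel (Subgroup.zpowers u) (G ⧸ (T : Subgroup G))),
      φ ⟨q.out.out⁻¹ * u ^ Function.minimalPeriod (u • ·) q.out * q.out.out,
        QuotientGroup.out_conj_pow_minimalPeriod_mem (T : Subgroup G) u q.out⟩ =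
      if u • q.out = q.out then -1 else 1 := by
    intro q
    have hmem := QuotientGroup.out_conj_pow_minimalPeriod_mem (T : Subgroup G) u q.out
    obtain ⟨i, hi⟩ := hper q.out
    change (if _ then (1 : ℤˣ) else -1) = _
    rw [Subgroup.mem_subgroupOf]
    by_cases hfix : u • q.out = q.out
    · have hp1 : Function.minimalPeriod (u • ·) q.out = 1 :=
        Function.minimalPeriod_eq_one_iff_isFixedPt.2 hfix
      rw [if_pos hfix, if_neg]
      rw [hp1, pow_one] at hmem
      simp only [hp1, pow_one]
      exact h1 _ hmem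
    · rw [if_neg hfix, if_pos]
      have hi1 : 1 ≤ i := by
        rcases Nat.eq_zero_or_pos i with rfl | h
        · exact absurd (Function.minimalPeriod_eq_one_iff_isFixedPt.1 (by rw [hi, pow_zero])) hfix
        · exact h
      rw [hi] at hmem
      simp only [hi]
      exact h2 _ i hi1 hmem
  have htr : MonoidHom.transfer φ u = -1 := by
    rw [MonoidHom.transfer_eq_prod_quotient_orbitRel_zpowers_quot, Fintype.prod_congr _ _ hterm,
      Finset.prod_ite, Finset.prod_const_one, mul_one, Finset.prod_const]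
    refine Odd.neg_one_pow ?_
    have hfix : ∀ x : G ⧸ (T : Subgroup G), x ∈ fixedPoints (Subgroup.zpowers u) (G ⧸ (T : Subgroup G)) ↔
        u • x = x := by
      intro x
      refine ⟨fun h => h ⟨u, Subgroup.mem_zpowers u⟩, fun h g => ?_⟩
      have : (g : G) ∈ stabilizer G x := Subgroup.zpowers_le.2 (mem_stabilizer_iff.2 h) g.2
      exact mem_stabilizer_iff.1 this
    have hZ : IsPGroup 2 (Subgroup.zpowers u) :=
      T.isPGroup'.to_le (Subgroup.zpowers_le.2 hu)
    have hmod := hZ.card_modEq_card_fixedPoints (G ⧸ (T : Subgroup G))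
    have hodd : Odd (Nat.card (G ⧸ (T : Subgroup G))) :=
      Nat.not_even_iff_odd.1 fun he => T.not_dvd_index he.two_dvd
    have hodd2 : Odd (Nat.card (fixedPoints (Subgroup.zpowers u) (G ⧸ (T : Subgroup G)))) := by
      rw [Nat.odd_iff] at hodd ⊢
      unfold Nat.ModEq at hmod
      omega
    convert hodd2 using 1
    rw [← Fintype.card_subtype, ← Nat.card_eq_fintype_card]
    refine Nat.card_congr
      { toFun := fun q => ⟨q.1.out, (hfix _).2 q.2⟩
        invFun := fun x => ⟨Quotient.mk'' x.1, ?_⟩
        left_inv := fun q => Subtype.ext (Quotient.out_eq' q.1)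
        right_inv := fun x => Subtype.ext ?_ }
    · have h := Quotient.mk_out' (s₁ := orbitRel (Subgroup.zpowers u) (G ⧸ (T : Subgroup G))) x.1
      obtain ⟨g, hg⟩ := orbitRel_apply.1 h
      replace hg := (x.2 g).symm.trans hg
      rw [← hg]
      exact (hfix _).1 x.2
    · have h := Quotient.mk_out' (s₁ := orbitRel (Subgroup.zpowers u) (G ⧸ (T : Subgroup G))) x.1
      obtain ⟨g, hg⟩ := orbitRel_apply.1 h
      replace hg := (x.2 g).symm.trans hg
      exact hg.symm
  refine ⟨(MonoidHom.transfer φ).ker, inferInstance, ?_, fun hm => by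
    rw [MonoidHom.mem_ker, htr] at hm
    exact absurd hm (by decide)⟩
  have hs : Function.Surjective (MonoidHom.transfer φ) := by
    intro z
    rcases Int.units_eq_one_or z with rfl | rfl
    · exact ⟨1, map_one _⟩
    · exact ⟨u, htr⟩
  rw [Subgroup.index_ker, MonoidHom.range_eq_top.2 hs, Subgroup.card_top, Nat.card_eq_fintype_card]
  rfl

end Cfsg.Agent.Perm.TwoStab
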