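import Cfsg.Agent.Lib.Perm.TwoStab.Sixteen
import Cfsg.Agent.Lib.Spor.Cos.FieldFour

/-!
# The affine group of the plane over the field with four elements

A regular normal subgroup of exponent two and an element of order three centralising a point stabiliser and fixing
only that point turn the sixteen points into a plane over the field with four elements.
-/

set_option autoImplicit false
set_option linter.unusedSectionVars false
set_option linter.style.haveILetI false

namespace Cfsg.Agent.Perm.TwoStab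

open MulAction Subgroup
open Cfsg.Agent.Spor.Cos (F4)

universe u₁ u₂

variable {G : Type u₁} [Group G]

/-- The action of a scalar: `z` acts by conjugation as a primitive cube root of unity. -/
def scal (z : G) : F4 → G → G
  | .o, _ => 1
  | .e, r => r
  | .w, r => z * r * z⁻¹
  | .v, r => r * (z * r * z⁻¹)

theorem scal_mem {z : G} {R : Subgroup G} [hR : R.Normal] (c : F4) {r : G} (hr : r ∈ R) : scal z c r ∈ R := by
  cases c
  · exact one_mem _
  · exact hr
  · exact hR.conj_mem _ hr _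
  · exact mul_mem hr (hR.conj_mem _ hr _)

section scalars

variable {z : G} {R : Subgroup G} [R.Normal] (hR2 : ∀ x ∈ R, x * x = 1) (hRc : ∀ x ∈ R, ∀ y ∈ R, x * y = y * x)
  (hquad : ∀ r ∈ R, z * (z * r * z⁻¹) * z⁻¹ = r * (z * r * z⁻¹))
include hR2 hRc hquad

theorem scal_add (c d : F4) {r : G} (hr : r ∈ R) : scal z (c + d) r = scal z c r * scal z d r := by
  have ht : z * r * z⁻¹ ∈ R := (inferInstance : R.Normal).conj_mem _ hr _
  have h1 := hR2 r hr
  have h2 := hR2 _ ht
  have h3 := hRc r hr _ ht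
  generalize hte : z * r * z⁻¹ = t at *
  have h4 : ∀ c, scal z c r = match c with
      | .o => 1 | .e => r | .w => t | .v => r * t := fun c => by cases c <;> simp [scal, hte]
  simp only [h4]
  have h5 : r * (r * t) = t := by rw [← mul_assoc, h1, one_mul]
  have h6 : t * (r * t) = r := by rw [h3, ← mul_assoc, h2, one_mul]
  have h7 : r * t * r = t := by rw [h3, mul_assoc, h1, mul_one]
  have h8 : r * t * t = r := by rw [mul_assoc, h2, mul_one]
  have h9 : r * t * (r * t) = 1 := by rw [mul_assoc, h6, h1]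
  cases c <;> cases d <;>
    first
    | exact (one_mul _).symm
    | exact (mul_one _).symm
    | exact h1.symm
    | exact h2.symm
    | exact rfl
    | exact h3
    | exact h5.symm
    | exact h6.symm
    | exact h7.symm
    | exact h8.symm
    | exact h9.symm

theorem scal_hom (c : F4) {r s : G} (hr : r ∈ R) (hs : s ∈ R) : scal z c (r * s) = scal z c r * scal z c s := by
  have ht : ∀ {x}, x ∈ R → z * x * z⁻¹ ∈ R := fun hx => (inferInstance : R.Normal).conj_mem _ hx _
  cases c <;> simp only [scal]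
  · rw [one_mul]
  · group
  · rw [show z * (r * s) * z⁻¹ = z * r * z⁻¹ * (z * s * z⁻¹) by group, mul_assoc r s,
      ← mul_assoc s (z * r * z⁻¹), hRc s hs _ (ht hr)]
    simp only [mul_assoc]

theorem scal_mul (c d : F4) {r : G} (hr : r ∈ R) : scal z (c * d) r = scal z c (scal z d r) := by
  have ht : z * r * z⁻¹ ∈ R := (inferInstance : R.Normal).conj_mem _ hr _
  have hq := hquad r hr
  have h1 := hR2 r hr
  have h2 := hR2 _ ht
  have h3 := hRc r hr _ ht
  have a2 : z * (r * (z * r * z⁻¹)) * z⁻¹ = r := by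
    rw [show z * (r * (z * r * z⁻¹)) * z⁻¹ = z * r * z⁻¹ * (z * (z * r * z⁻¹) * z⁻¹) by group, hq, h3, ← mul_assoc,
      h2, one_mul]
  have a3 : r * (z * r * z⁻¹) * (z * (r * (z * r * z⁻¹)) * z⁻¹) = z * r * z⁻¹ := by
    rw [a2, h3, mul_assoc, h1, mul_one]
  have a4 : z * r * z⁻¹ * (z * (z * r * z⁻¹) * z⁻¹) = r := by
    rw [hq, h3, ← mul_assoc, h2, one_mul]
  rcases c with _ | _ | _ | _
  · cases d <;> rfl
  · cases d <;> rfl
  · cases d
    · show (1 : G) = z * 1 * z⁻¹
      group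
    · rfl
    · exact hq.symm
    · exact a2.symm
  · cases d
    · show (1 : G) = 1 * (z * 1 * z⁻¹)
      group
    · rfl
    · exact a4.symm
    · exact a3.symm

end scalars

variable {Ω : Type u₂} [MulAction G Ω] {a b : Ω} {u v : G}

/-- The affine group. -/
theorem Four.affine [Finite G] [Finite Ω] (h : Four G a b u v) (hn : Nat.card Ω = 16) {z : G}
    (hz3 : z * z * z = 1) (hza : z • a = a) (hzc : ∀ g : G, g • a = a → g * z = z * g)
    (hzfix : ∀ c : Ω, z • c = c → c = a) {R : Subgroup G} [R.Normal] (hR2 : ∀ x ∈ R, x * x = 1)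
    (hRc : ∀ x ∈ R, ∀ y ∈ R, x * y = y * x) (hRt : ∀ x y : Ω, ∃ r ∈ R, r • x = y)
    (hRf : ∀ r ∈ R, ∀ x : Ω, r • x = x → r = 1) :
    Nonempty (G ≃* ((Fin 2 → F4) ≃ᵃ[F4] (Fin 2 → F4))) := by
  classical
  have hc := h.toCfg
  have ht : ∀ {x}, x ∈ R → z * x * z⁻¹ ∈ R := fun hx => (inferInstance : R.Normal).conj_mem _ hx _
  have hzfree : ∀ r ∈ R, z * r * z⁻¹ = r → r = 1 := fun r hr e => by
    refine hRf r hr a (hzfix _ ?_)
    rw [smul_smul, mul_inv_eq_iff_eq_mul.1 e, mul_smul, hza]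
  -- the quadratic relation
  have hquad : ∀ r ∈ R, z * (z * r * z⁻¹) * z⁻¹ = r * (z * r * z⁻¹) := by
    intro r hr
    set t := z * r * z⁻¹ with hte
    set t' := z * t * z⁻¹ with hte'
    have htm : t ∈ R := ht hr
    have htm' : t' ∈ R := ht htm
    have h1 : z * (r * t * t') * z⁻¹ = r * t * t' := by
      have h2 : z * t' * z⁻¹ = r := by
        rw [hte', hte, show z * (z * (z * r * z⁻¹) * z⁻¹) * z⁻¹ = z * z * z * r * (z * z * z)⁻¹ by group, hz3]
        group
      rw [show z * (r * t * t') * z⁻¹ = z * r * z⁻¹ * (z * t * z⁻¹) * (z * t' * z⁻¹) by group]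
      show t * t' * (z * t' * z⁻¹) = r * t * t'
      rw [h2, hRc _ (mul_mem htm htm') _ hr]
      exact (mul_assoc r t t').symm
    have h3 := hzfree _ (mul_mem (mul_mem hr htm) htm') h1
    calc t' = r * t * (r * t) * t' := by rw [hR2 _ (mul_mem hr htm), one_mul]
      _ = r * t := by rw [mul_assoc, h3, mul_one]
  have hadd := fun c d {r} hr => scal_add (z := z) hR2 hRc hquad c d (r := r) hr
  have hhom := fun c {r s} hr hs => scal_hom (z := z) hR2 hRc hquad c (r := r) (s := s) hr hs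
  have hmul := fun c d {r} hr => scal_mul (z := z) hR2 hRc hquad c d (r := r) hr
  have hone : ∀ c : F4, scal z c 1 = 1 := fun c => by cases c <;> simp [scal]
  have hscinj : ∀ (c : F4) {r}, r ∈ R → c ≠ 0 → scal z c r = 1 → r = 1 := fun c r hr hc0 e => by
    have e1 := hmul c⁻¹ c hr
    rwa [inv_mul_cancel₀ hc0, e, hone] at e1
  -- sixteen elements
  have hRcard : Nat.card ↥R = 16 := by
    rw [← hn]
    refine Nat.card_eq_of_bijective (fun r : ↥R => (r : G) • a) ⟨fun r r' e => ?_, fun x => ?_⟩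
    · have e' : (r : G) • a = (r' : G) • a := e
      refine Subtype.ext (inv_mul_eq_one.1 (hRf _ (mul_mem (inv_mem r.2) r'.2) a ?_))
      rw [mul_smul, inv_smul_eq_iff, e']
    · obtain ⟨r, hr, e⟩ := hRt a x
      exact ⟨⟨r, hr⟩, e⟩
  obtain ⟨r₁, hr₁, hr₁1⟩ : ∃ r₁ ∈ R, r₁ ≠ 1 := by
    by_contra hall
    push Not at hall
    rw [(eq_bot_iff_forall _).2 hall, Subgroup.card_bot] at hRcard
    norm_num at hRcard
  obtain ⟨r₂, hr₂, hr₂1⟩ : ∃ r₂ ∈ R, ∀ c : F4, scal z c r₁ ≠ r₂ := by
    by_contra hall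
    push Not at hall
    have h1 := Nat.card_le_card_of_surjective (fun c : F4 => (⟨scal z c r₁, scal_mem c hr₁⟩ : ↥R)) fun r => by
      obtain ⟨c, hc⟩ := hall r r.2
      exact ⟨c, Subtype.ext hc⟩
    rw [hRcard, Nat.card_eq_fintype_card, F4.card_eq] at h1
    norm_num at h1
  let ψ : (Fin 2 → F4) → ↥R := fun x =>
    ⟨scal z (x 0) r₁ * scal z (x 1) r₂, mul_mem (scal_mem _ hr₁) (scal_mem _ hr₂)⟩
  have hψadd : ∀ x y, ψ (x + y) = ψ x * ψ y := fun x y => Subtype.ext (by
    show scal z (x 0 + y 0) r₁ * scal z (x 1 + y 1) r₂ =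
      scal z (x 0) r₁ * scal z (x 1) r₂ * (scal z (y 0) r₁ * scal z (y 1) r₂)
    rw [hadd _ _ hr₁, hadd _ _ hr₂, mul_assoc (scal z (x 0) r₁) (scal z (y 0) r₁),
      ← mul_assoc (scal z (y 0) r₁), hRc _ (scal_mem _ hr₁) _ (scal_mem _ hr₂)]
    simp only [mul_assoc])
  have hψsmul : ∀ (c : F4) x, ((ψ (c • x) : ↥R) : G) = scal z c (ψ x : G) := fun c x => by
    show scal z (c * x 0) r₁ * scal z (c * x 1) r₂ = scal z c (scal z (x 0) r₁ * scal z (x 1) r₂)
    rw [hhom _ (scal_mem _ hr₁) (scal_mem _ hr₂), hmul _ _ hr₁, hmul _ _ hr₂]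
  have hψ0 : ∀ x, ((ψ x : ↥R) : G) = 1 → x = 0 := by
    intro x hx
    have hx' : scal z (x 0) r₁ * scal z (x 1) r₂ = 1 := hx
    have h1 : x 1 = 0 := by
      by_contra hne
      refine hr₂1 ((x 1)⁻¹ * x 0) ?_
      have e1 := congrArg (scal z (x 1)⁻¹) hx'
      rw [hone, hhom _ (scal_mem _ hr₁) (scal_mem _ hr₂), ← hmul _ _ hr₁, ← hmul _ _ hr₂, inv_mul_cancel₀ hne] at e1
      exact (eq_inv_of_mul_eq_one_left e1).trans (inv_eq_of_mul_eq_one_right (hR2 _ hr₂))
    have h0 : x 0 = 0 := by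
      by_contra hne
      rw [h1] at hx'
      exact hr₁1 (hscinj _ hr₁ hne (by simpa [show scal z (0 : F4) r₂ = 1 from rfl] using hx'))
    funext i
    fin_cases i
    · exact h0
    · exact h1
  let ψ₀ : Multiplicative (Fin 2 → F4) →* ↥R := MonoidHom.mk' (fun x => ψ x.toAdd) fun x y => hψadd _ _
  have hψinj : Function.Injective ψ := fun x y e => by
    have := (injective_iff_map_eq_one ψ₀).2 (fun x hx => hψ0 x.toAdd (congrArg Subtype.val hx))
      (a₁ := Multiplicative.ofAdd x) (a₂ := Multiplicative.ofAdd y) e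
    exact this
  have hψbij : Function.Bijective ψ := (Nat.bijective_iff_injective_and_card ψ).2 ⟨hψinj, by
    rw [hRcard, Nat.card_eq_fintype_card, Fintype.card_fun, Fintype.card_fin, F4.card_eq]; norm_num⟩
  let ψe : (Fin 2 → F4) ≃ ↥R := Equiv.ofBijective ψ hψbij
  -- conjugation commutes with the scalars
  have hconj : ∀ (g : G) (c : F4) {r}, r ∈ R → g * scal z c r * g⁻¹ = scal z c (g * r * g⁻¹) := by
    intro g c r hr
    have hm : g * r * g⁻¹ ∈ R := (inferInstance : R.Normal).conj_mem _ hr _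
    have key : g * (z * r * z⁻¹) * g⁻¹ = z * (g * r * g⁻¹) * z⁻¹ := by
      obtain ⟨s, hs, hsa⟩ := hRt a (g • a)
      set k := s⁻¹ * g with hk
      have hka : k • a = a := by rw [hk, mul_smul, ← hsa, inv_smul_smul]
      have hkz : k * z * (k⁻¹) = z := mul_inv_eq_iff_eq_mul.2 (hzc k hka)
      have hg : g = s * k := by rw [hk, mul_inv_cancel_left]
      have hn1 : ∀ {y}, y ∈ R → g * y * g⁻¹ = k * y * k⁻¹ := fun {y} hy => by
        have hky : k * y * k⁻¹ ∈ R := (inferInstance : R.Normal).conj_mem _ hy _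
        rw [hg, show s * k * y * (s * k)⁻¹ = s * (k * y * k⁻¹) * s⁻¹ by group, hRc _ hs _ hky, mul_inv_cancel_right]
      rw [hn1 (ht hr), hn1 hr,
        show k * (z * r * z⁻¹) * k⁻¹ = k * z * k⁻¹ * (k * r * k⁻¹) * (k * z * k⁻¹)⁻¹ by group, hkz]
    cases c <;> simp only [scal]
    · group
    · exact key
    · rw [← key]; group
  let lin : G → (Fin 2 → F4) → (Fin 2 → F4) := fun g x =>
    ψe.symm ⟨g * (ψe x : G) * g⁻¹, (inferInstance : R.Normal).conj_mem _ (ψe x).2 _⟩
  have hlin : ∀ g x, ((ψe (lin g x) : ↥R) : G) = g * (ψe x : G) * g⁻¹ := fun g x => by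
    simp only [lin, Equiv.apply_symm_apply]
  have hψe : ∀ x, ψe x = ψ x := fun x => rfl
  let L : G → ((Fin 2 → F4) ≃ₗ[F4] (Fin 2 → F4)) := fun g =>
    { toFun := lin g
      invFun := lin g⁻¹
      left_inv := fun x => ψe.injective (Subtype.ext (by rw [hlin, hlin]; group))
      right_inv := fun x => ψe.injective (Subtype.ext (by rw [hlin, hlin]; group))
      map_add' := fun x y => ψe.injective (Subtype.ext (by
        rw [hlin, hψe, hψadd, hψe, hψadd, Subgroup.coe_mul, Subgroup.coe_mul, ← hψe, ← hψe, ← hψe, ← hψe, hlin, hlin]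
        group))
      map_smul' := fun c x => ψe.injective (Subtype.ext (by
        rw [RingHom.id_apply, hlin, hψe, hψsmul, hψe, hψsmul, ← hψe, ← hψe, hlin, hconj g c (ψe x).2])) }
  let ι : (Fin 2 → F4) ≃ Ω := Equiv.ofBijective (fun x => ((ψe x : ↥R) : G) • a) ⟨fun x y e => by
      have e' : (ψe x : G) • a = (ψe y : G) • a := e
      refine ψe.injective (Subtype.ext (inv_mul_eq_one.1 (hRf _ (mul_mem (inv_mem (ψe x).2) (ψe y).2) a ?_)))
      rw [mul_smul, inv_smul_eq_iff, e'],
    fun y => by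
      obtain ⟨r, hr, e⟩ := hRt a y
      exact ⟨ψe.symm ⟨r, hr⟩, by simp only [Equiv.apply_symm_apply]; exact e⟩⟩
  have hι : ∀ x, ι x = ((ψe x : ↥R) : G) • a := fun x => rfl
  let A : G → ((Fin 2 → F4) ≃ᵃ[F4] (Fin 2 → F4)) := fun g =>
    { toEquiv := ι.trans ((MulAction.toPerm g).trans ι.symm)
      linear := L g
      map_vadd' := fun p x => ι.injective (by
        show ι (ι.symm (g • ι (x + p))) = ι (lin g x + ι.symm (g • ι p))
        rw [Equiv.apply_symm_apply, hι (lin g x + _), hψe, hψadd, Subgroup.coe_mul, ← hψe, ← hψe, hlin, mul_smul, ← hι,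
          Equiv.apply_symm_apply, hι (x + p), hψe, hψadd, Subgroup.coe_mul, ← hψe, ← hψe, mul_smul, ← hι, smul_smul,
          smul_smul]
        congr 1
        group) }
  let φ : G →* ((Fin 2 → F4) ≃ᵃ[F4] (Fin 2 → F4)) := MonoidHom.mk' A fun g g' => by
    refine AffineEquiv.ext fun x => ι.injective ?_
    show ι (ι.symm ((g * g') • ι x)) = ι (ι.symm (g • ι (ι.symm (g' • ι x))))
    simp only [Equiv.apply_symm_apply, mul_smul]
  have hφ : Function.Injective φ := (injective_iff_map_eq_one φ).2 fun g hg => h.faithful g fun y => by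
    have h1 := congrArg (fun f : (Fin 2 → F4) ≃ᵃ[F4] (Fin 2 → F4) => ι (f (ι.symm y))) hg
    have h2 : ι (ι.symm (g • ι (ι.symm y))) = ι (ι.symm y) := h1
    simpa only [Equiv.apply_symm_apply] using h2
  -- the affine group is no larger
  have hcard : Nat.card ((Fin 2 → F4) ≃ᵃ[F4] (Fin 2 → F4)) ≤ 2880 := by
    have hGL : Nat.card ((Fin 2 → F4) ≃ₗ[F4] (Fin 2 → F4)) = 180 := by
      rw [← Nat.card_congr ((Matrix.GeneralLinearGroup.toLin (n := Fin 2) (R := F4)).trans
        (LinearMap.GeneralLinearGroup.generalLinearEquiv F4 (Fin 2 → F4))).toEquiv, Matrix.card_GL_field,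
        F4.card_eq, Fin.prod_univ_two]
      rfl
    haveI : Finite ((Fin 2 → F4) ≃ₗ[F4] (Fin 2 → F4)) := Nat.finite_of_card_ne_zero (by rw [hGL]; norm_num)
    refine (Nat.card_le_card_of_injective
      (fun f : (Fin 2 → F4) ≃ᵃ[F4] (Fin 2 → F4) => ((f 0, f.linear) : (Fin 2 → F4) × _)) fun f f' e => ?_).trans ?_
    · refine AffineEquiv.ext fun x => ?_
      obtain ⟨e0, e1⟩ := Prod.ext_iff.1 e
      have h1 := f.map_vadd 0 x
      have h2 := f'.map_vadd 0 x
      simp only [vadd_eq_add, add_zero] at h1 h2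
      rw [h1, h2]
      simp only at e0 e1
      rw [e0, e1]
    · rw [Nat.card_prod, hGL, Nat.card_eq_fintype_card, Fintype.card_fun, Fintype.card_fin, F4.card_eq]
      norm_num
  haveI : Finite ((Fin 2 → F4) ≃ᵃ[F4] (Fin 2 → F4)) :=
    Finite.of_injective (fun f => (f : (Fin 2 → F4) → (Fin 2 → F4))) fun f f' e => AffineEquiv.ext (congrFun e)
  have hG : Nat.card G = 2880 := by rw [hc.card_group, h.card_D, hn]
  refine ⟨MulEquiv.ofBijective φ ⟨hφ, ?_⟩⟩
  have hle := Nat.card_le_card_of_injective φ hφ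
  exact ((Nat.bijective_iff_injective_and_card φ).2 ⟨hφ, by omega⟩).2

end Cfsg.Agent.Perm.TwoStab
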