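import Cfsg.Agent.Lib.Perm.TwoStab.Normal
import Cfsg.Agent.S2119

/-!
# The two-point stabiliser `A₅`: facts on the alternating group and its automorphisms
-/

set_option autoImplicit false
set_option linter.unusedSectionVars false
set_option linter.style.haveILetI false
set_option maxRecDepth 100000

namespace Cfsg.Agent.Perm.TwoStab

open MulAction Subgroup Equiv

universe u₁ u₂

/-- The involution `(01)(23)`. -/
def a5u : ↥(alternatingGroup (Fin 5)) := ⟨swap 0 1 * swap 2 3, Equiv.Perm.mem_alternatingGroup.2 (by decide)⟩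

/-- The involution `(02)(13)`. -/
def a5v : ↥(alternatingGroup (Fin 5)) := ⟨swap 0 2 * swap 1 3, Equiv.Perm.mem_alternatingGroup.2 (by decide)⟩

theorem a5_basic : a5u * a5u = 1 ∧ a5u ≠ 1 ∧ a5v * a5v = 1 ∧ a5v ≠ 1 ∧ a5u * a5v = a5v * a5u ∧ a5u ≠ a5v := by
  decide +kernel

theorem a5_conj : ∀ x : ↥(alternatingGroup (Fin 5)), x * x = 1 → x ≠ 1 →
    ∃ d : ↥(alternatingGroup (Fin 5)), d * x * d⁻¹ = a5u := by
  decide +kernel

theorem a5_cent : ∀ x : ↥(alternatingGroup (Fin 5)), x * a5u = a5u * x →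
    x = 1 ∨ x = a5u ∨ x = a5v ∨ x = a5u * a5v := by
  decide +kernel

theorem a5_noncomm : ∃ x y : ↥(alternatingGroup (Fin 5)), x * y ≠ y * x := by
  decide +kernel

theorem a5_invols : Nat.card {x : ↥(alternatingGroup (Fin 5)) // x * x = 1 ∧ x ≠ 1} = 15 := by
  rw [Nat.card_eq_fintype_card]
  decide +kernel

theorem s5_cent : ∀ σ : Perm (Fin 5), σ * (a5u : Perm (Fin 5)) = (a5u : Perm (Fin 5)) * σ →
    σ * (a5v : Perm (Fin 5)) = (a5v : Perm (Fin 5)) * σ →
    σ = 1 ∨ σ = (a5u : Perm (Fin 5)) ∨ σ = (a5v : Perm (Fin 5)) ∨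
      σ = (a5u : Perm (Fin 5)) * (a5v : Perm (Fin 5)) := by
  decide +kernel

/-- The number of elements of a coset of odd permutations that square to one. -/
theorem s5_odd_swappers : ∀ σ : Perm (Fin 5), σ * σ = 1 → Perm.sign σ = -1 →
    (Finset.univ.filter fun p : Perm (Fin 5) => Perm.sign p = 1 ∧ σ * p * (σ * p) = 1).card = 10 := by
  decide +kernel

/-- An automorphism of `A₅` comes from a permutation. -/
theorem a5_aut (φ : MulAut ↥(alternatingGroup (Fin 5))) :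
    ∃ σ : Perm (Fin 5), ∀ x : ↥(alternatingGroup (Fin 5)),
      ((φ x : ↥(alternatingGroup (Fin 5))) : Perm (Fin 5)) = σ * x * σ⁻¹ := by
  obtain ⟨σ, hσ⟩ := (Cfsg.Agent.S2119.result 5 (by norm_num) (by norm_num)).2 φ
  exact ⟨σ, fun x => by rw [← hσ, MulAut.conjNormal_apply]⟩

theorem a5_aut_unique {σ τ : Perm (Fin 5)}
    (h : ∀ x : ↥(alternatingGroup (Fin 5)), σ * (x : Perm (Fin 5)) * σ⁻¹ = τ * x * τ⁻¹) : σ = τ := by
  refine (Cfsg.Agent.S2119.result 5 (by norm_num) (by norm_num)).1 (MulEquiv.ext fun x => Subtype.ext ?_)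
  rw [MulAut.conjNormal_apply, MulAut.conjNormal_apply]
  exact h x

/-- An automorphism fixing the two involutions is inner by an element of their four group. -/
theorem a5_fixed (φ : MulAut ↥(alternatingGroup (Fin 5))) (hu : φ a5u = a5u) (hv : φ a5v = a5v) :
    ∃ d : ↥(alternatingGroup (Fin 5)), (d = 1 ∨ d = a5u ∨ d = a5v ∨ d = a5u * a5v) ∧ ∀ x, φ x = d * x * d⁻¹ := by
  obtain ⟨σ, hσ⟩ := a5_aut φ
  have h1 : σ * (a5u : Perm (Fin 5)) = (a5u : Perm (Fin 5)) * σ :=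
    mul_inv_eq_iff_eq_mul.1 (by rw [← hσ, hu])
  have h2 : σ * (a5v : Perm (Fin 5)) = (a5v : Perm (Fin 5)) * σ :=
    mul_inv_eq_iff_eq_mul.1 (by rw [← hσ, hv])
  rcases s5_cent σ h1 h2 with e | e | e | e
  · exact ⟨1, Or.inl rfl, fun x => Subtype.ext (by rw [hσ, e]; simp)⟩
  · exact ⟨a5u, Or.inr (Or.inl rfl), fun x => Subtype.ext (by rw [hσ, e]; simp)⟩
  · exact ⟨a5v, Or.inr (Or.inr (Or.inl rfl)), fun x => Subtype.ext (by rw [hσ, e]; simp)⟩
  · exact ⟨a5u * a5v, Or.inr (Or.inr (Or.inr rfl)), fun x => Subtype.ext (by rw [hσ, e]; simp)⟩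

variable {G : Type u₁} [Group G] {Ω : Type u₂} [MulAction G Ω] {a b : Ω}

/-- The chosen involutions of a two-point stabiliser isomorphic to `A₅`. -/
structure Five (G : Type u₁) [Group G] {Ω : Type u₂} [MulAction G Ω] (a b : Ω) (u v : G) : Prop
    extends Cfg G a b u v where
  nr : ∀ N : Subgroup G, N.Normal → IsPretransitive ↥N Ω → (∀ x : Ω, stabilizer ↥N x = ⊥) → False
  iso : ∃ e : ↥(pairStab G a b) ≃* ↥(alternatingGroup (Fin 5)),
    e ⟨u, u_mem⟩ = a5u ∧ e ⟨v, v_mem⟩ = a5v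

theorem exists_five [FaithfulSMul G Ω] (h2 : IsMultiplyPretransitive G Ω 2) (hab : a ≠ b)
    (hnr : ∀ N : Subgroup G, N.Normal → IsPretransitive ↥N Ω → (∀ x : Ω, stabilizer ↥N x = ⊥) → False)
    (e : ↥(stabilizer G a ⊓ stabilizer G b) ≃* ↥(alternatingGroup (Fin 5))) :
    ∃ u v : G, Five G a b u v := by
  obtain ⟨huu, hu1, hvv, hv1, huv, hne⟩ := a5_basic
  have hord : ∀ x : ↥(alternatingGroup (Fin 5)), x * x = 1 → x ≠ 1 → orderOf ((e.symm x : ↥(pairStab G a b)) : G) = 2 :=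
    fun x h1 h3 => by
      rw [Subgroup.orderOf_coe, MulEquiv.orderOf_eq]
      exact orderOf_two_iff.2 ⟨h1, h3⟩
  refine ⟨(e.symm a5u : ↥(pairStab G a b)), (e.symm a5v : ↥(pairStab G a b)), ⟨h2, ?_, hab, (e.symm a5u).2,
    (e.symm a5v).2, hord _ huu hu1, hord _ hvv hv1, ?_, ?_, ?_, ?_⟩, hnr, e, ?_, ?_⟩
  · exact fun g hg => FaithfulSMul.eq_of_smul_eq_smul (α := Ω) fun x => by rw [hg, one_smul]
  · rw [← Subgroup.coe_mul, ← Subgroup.coe_mul, ← map_mul, ← map_mul, huv]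
  · exact fun h => hne (e.symm.injective (Subtype.ext h))
  · intro x hx hx2
    have h1 : e ⟨x, hx⟩ * e ⟨x, hx⟩ = 1 := by
      rw [← map_mul, show (⟨x, hx⟩ : ↥(pairStab G a b)) * ⟨x, hx⟩ = 1 from Subtype.ext (orderOf_two_iff.1 hx2).1,
        map_one]
    have h3 : e ⟨x, hx⟩ ≠ 1 := fun h => (orderOf_two_iff.1 hx2).2
      (congrArg Subtype.val (e.injective (h.trans e.map_one.symm)))
    obtain ⟨d, hd⟩ := a5_conj _ h1 h3
    refine ⟨(e.symm d : ↥(pairStab G a b)), (e.symm d).2, ?_⟩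
    rw [← hd, map_mul, map_mul, map_inv, e.symm_apply_apply]
    simp
  · intro x hx hxu
    have h1 : e ⟨x, hx⟩ * a5u = a5u * e ⟨x, hx⟩ := by
      have h4 := congrArg e (show (⟨x, hx⟩ : ↥(pairStab G a b)) * e.symm a5u = e.symm a5u * ⟨x, hx⟩ from Subtype.ext hxu)
      rwa [map_mul, map_mul, e.apply_symm_apply] at h4
    rcases a5_cent _ h1 with h | h | h | h <;> apply_fun e.symm at h <;>
      rw [e.symm_apply_apply] at h <;>
      simp only [map_one, map_mul, Subtype.ext_iff, Subgroup.coe_one, Subgroup.coe_mul] at h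
    exacts [Or.inl h, Or.inr (Or.inl h), Or.inr (Or.inr (Or.inl h)), Or.inr (Or.inr (Or.inr h))]
  · exact e.apply_symm_apply _
  · exact e.apply_symm_apply _

namespace Five

variable {u v : G} (h : Five G a b u v)
include h

theorem simple : IsSimpleGroup ↥(pairStab G a b) := by
  obtain ⟨e, -, -⟩ := h.iso
  haveI : IsSimpleGroup ↥(alternatingGroup (Fin 5)) := alternatingGroup.isSimpleGroup (by simp)
  exact e.isSimpleGroup

theorem noncomm : ∃ x ∈ pairStab G a b, ∃ y ∈ pairStab G a b, x * y ≠ y * x := by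
  obtain ⟨e, -, -⟩ := h.iso
  obtain ⟨x, y, hxy⟩ := a5_noncomm
  exact ⟨_, (e.symm x).2, _, (e.symm y).2, fun h1 => hxy (e.symm.injective (Subtype.ext (by simpa using h1)))⟩

theorem card_D : Nat.card ↥(pairStab G a b) = 60 := by
  obtain ⟨e, -, -⟩ := h.iso
  rw [Nat.card_congr e.toEquiv, nat_card_alternatingGroup]
  simp [Nat.factorial]

theorem le_of_normal [Finite G] (N : Subgroup G) [N.Normal] (hN : N ≠ ⊥) : pairStab G a b ≤ N :=
  h.toCfg.le_of_normal h.simple h.nr N hN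

theorem centralizer_eq_bot [Finite G] (N : Subgroup G) [N.Normal] (hN : N ≠ ⊥) : centralizer (N : Set G) = ⊥ :=
  h.toCfg.centralizer_eq_bot h.simple h.nr h.noncomm N hN

theorem card_invols : Nat.card {x : ↥(pairStab G a b) // x * x = 1 ∧ x ≠ 1} = 15 := by
  obtain ⟨e, -, -⟩ := h.iso
  rw [← a5_invols]
  refine Nat.card_congr (e.toEquiv.subtypeEquiv fun x => ?_)
  show x * x = 1 ∧ x ≠ 1 ↔ e x * e x = 1 ∧ e x ≠ 1
  rw [← map_mul, MulEquiv.map_eq_one_iff, MulEquiv.map_ne_one_iff]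

/-- An element interchanging the two points normalises their stabiliser. -/
theorem swap_normalizes {s : G} (hsa : s • a = b) (hsb : s • b = a) {d : G} (hd : d ∈ pairStab G a b) :
    s * d * s⁻¹ ∈ pairStab G a b := by
  refine ⟨?_, ?_⟩
  · show (s * d * s⁻¹) • a = a
    rw [mul_smul, mul_smul, show s⁻¹ • a = b from inv_smul_eq_iff.2 hsb.symm, hd.2, hsb]
  · show (s * d * s⁻¹) • b = b
    rw [mul_smul, mul_smul, show s⁻¹ • b = a from inv_smul_eq_iff.2 hsa.symm, hd.1, hsa]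

/-- Conjugation by a swapping element, seen in `A₅`. -/
theorem swap_aut {s : G} (hsa : s • a = b) (hsb : s • b = a) :
    ∃ (e : ↥(pairStab G a b) ≃* ↥(alternatingGroup (Fin 5))) (φ : MulAut ↥(alternatingGroup (Fin 5))),
      e ⟨u, h.u_mem⟩ = a5u ∧ e ⟨v, h.v_mem⟩ = a5v ∧
        ∀ (d : G) (hd : d ∈ pairStab G a b), φ (e ⟨d, hd⟩) = e ⟨s * d * s⁻¹, h.swap_normalizes hsa hsb hd⟩ := by
  obtain ⟨e, e1, e2⟩ := h.iso
  have hs' : s⁻¹ • a = b ∧ s⁻¹ • b = a := ⟨inv_smul_eq_iff.2 hsb.symm, inv_smul_eq_iff.2 hsa.symm⟩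
  let ψ : MulAut ↥(pairStab G a b) :=
    { toFun := fun d => ⟨s * d * s⁻¹, h.swap_normalizes hsa hsb d.2⟩
      invFun := fun d => ⟨s⁻¹ * d * s⁻¹⁻¹, h.swap_normalizes hs'.1 hs'.2 d.2⟩
      left_inv := fun d => Subtype.ext (show s⁻¹ * (s * (d : G) * s⁻¹) * s⁻¹⁻¹ = d by group)
      right_inv := fun d => Subtype.ext (show s * (s⁻¹ * (d : G) * s⁻¹⁻¹) * s⁻¹ = d by group)
      map_mul' := fun d d' => Subtype.ext (show s * ((d : G) * d') * s⁻¹ = s * d * s⁻¹ * (s * d' * s⁻¹) by group) }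
  refine ⟨e, (e.symm.trans ψ).trans e, e1, e2, fun d hd => ?_⟩
  show e (ψ (e.symm (e ⟨d, hd⟩))) = _
  rw [e.symm_apply_apply]
  rfl

/-- If an element centralising the four group interchanges the points, an involution centralising the stabiliser
does. -/
theorem exists_central_swap {s : G} (hsa : s • a = b) (hsb : s • b = a) (hsu : s * u = u * s)
    (hsv : s * v = v * s) :
    ∃ w : G, w * w = 1 ∧ w • a = b ∧ w • b = a ∧ ∀ d ∈ pairStab G a b, w * d = d * w := by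
  obtain ⟨e, φ, e1, e2, hφ⟩ := h.swap_aut hsa hsb
  have hu' : φ a5u = a5u := by
    conv_lhs => rw [← e1, hφ u h.u_mem]
    rw [← e1]; congr 1; exact Subtype.ext (mul_inv_eq_iff_eq_mul.2 hsu)
  have hv' : φ a5v = a5v := by
    conv_lhs => rw [← e2, hφ v h.v_mem]
    rw [← e2]; congr 1; exact Subtype.ext (mul_inv_eq_iff_eq_mul.2 hsv)
  obtain ⟨d₀, -, hd₀⟩ := a5_fixed φ hu' hv'
  set x : G := ((e.symm d₀ : ↥(pairStab G a b)) : G) with hx
  have hxD : x ∈ pairStab G a b := (e.symm d₀).2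
  set w : G := x⁻¹ * s with hw
  have hwd : ∀ d ∈ pairStab G a b, w * d = d * w := by
    intro d hd
    have h1 := hd₀ (e ⟨d, hd⟩)
    rw [hφ d hd] at h1
    apply_fun e.symm at h1
    simp only [map_mul, map_inv, e.symm_apply_apply, Subtype.ext_iff, Subgroup.coe_mul, Subgroup.coe_inv] at h1
    rw [hw, mul_assoc, show s * d = s * d * s⁻¹ * s by group, h1, ← hx]
    group
  have hwa : w • a = b := by
    rw [hw, mul_smul, hsa]; exact inv_smul_eq_iff.2 hxD.2.symm
  have hwb : w • b = a := by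
    rw [hw, mul_smul, hsb]; exact inv_smul_eq_iff.2 hxD.1.symm
  refine ⟨w, ?_, hwa, hwb, hwd⟩
  -- the square lies in the stabiliser and centralises it
  have hm : w * w ∈ pairStab G a b :=
    ⟨show (w * w) • a = a by rw [mul_smul, hwa, hwb], show (w * w) • b = b by rw [mul_smul, hwb, hwa]⟩
  haveI := h.simple
  have hz : (⟨_, hm⟩ : ↥(pairStab G a b)) ∈ center ↥(pairStab G a b) := mem_center_iff.2 fun d => Subtype.ext (by
    show (d : G) * (w * w) = w * w * d
    calc (d : G) * (w * w) = (d : G) * w * w := (mul_assoc _ _ _).symm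
      _ = w * (d : G) * w := by rw [hwd d d.2]
      _ = w * ((d : G) * w) := mul_assoc _ _ _
      _ = w * (w * d) := by rw [hwd d d.2]
      _ = _ := (mul_assoc _ _ _).symm)
  rcases (inferInstance : (center ↥(pairStab G a b)).Normal).eq_bot_or_eq_top with hc | hc
  · rw [hc, mem_bot] at hz
    exact congrArg Subtype.val hz
  · obtain ⟨p, hp, q, hq, hpq⟩ := h.noncomm
    exact absurd (congrArg Subtype.val (mem_center_iff.1 (hc ▸ mem_top (⟨q, hq⟩ : ↥(pairStab G a b))) ⟨p, hp⟩)) hpq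

/-- Without a swapping element centralising the four group the involutions interchanging the points number ten. -/
theorem card_swappers {s : G} (hs : s * s = 1) (hsa : s • a = b)
    (hno : ∀ g : G, g • a = b → g • b = a → g * u = u * g → g * v = v * g → False) :
    Nat.card {d : ↥(pairStab G a b) // s * (d : G) * (s * d) = 1} = 10 := by
  have hsb : s • b = a := smul_swap hs hsa
  obtain ⟨e, φ, e1, e2, hφ⟩ := h.swap_aut hsa hsb
  obtain ⟨σ, hσ⟩ := a5_aut φ
  have hφ' : ∀ d : ↥(pairStab G a b),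
      ((e ⟨s * d * s⁻¹, h.swap_normalizes hsa hsb d.2⟩ : ↥(alternatingGroup (Fin 5))) : Perm (Fin 5)) =
        σ * (e d : Perm (Fin 5)) * σ⁻¹ := fun d => by rw [← hσ, hφ (d : G) d.2]
  have hsinv : s⁻¹ = s := inv_eq_of_mul_eq_one_right hs
  have hσ2 : σ * σ = 1 := a5_aut_unique fun x => by
    obtain ⟨⟨d, hd⟩, rfl⟩ := e.surjective x
    rw [one_mul, inv_one, mul_one, mul_inv_rev, show σ * σ * (e ⟨d, hd⟩ : Perm (Fin 5)) * (σ⁻¹ * σ⁻¹) =
      σ * (σ * (e ⟨d, hd⟩ : Perm (Fin 5)) * σ⁻¹) * σ⁻¹ by group, ← hφ' ⟨d, hd⟩, ← hφ']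
    congr 2
    exact Subtype.ext (show s * (s * d * s⁻¹) * s⁻¹ = d by
      rw [hsinv, show s * (s * d * s) * s = s * s * d * (s * s) by group, hs, one_mul, mul_one])
  have hodd : Perm.sign σ = -1 := by
    rcases Int.units_eq_one_or (Perm.sign σ) with h1 | h1
    · exfalso
      set d₀ := e.symm ⟨σ, h1⟩ with hd₀
      refine hno ((d₀ : G)⁻¹ * s) ?_ ?_ ?_ ?_
      · rw [mul_smul, hsa]; exact inv_smul_eq_iff.2 d₀.2.2.symm
      · rw [mul_smul, hsb]; exact inv_smul_eq_iff.2 d₀.2.1.symm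
      all_goals
        have key : ∀ (d : G) (hd : d ∈ pairStab G a b), (d₀ : G)⁻¹ * s * d = d * ((d₀ : G)⁻¹ * s) := by
          intro d hd
          have h2 : (⟨s * d * s⁻¹, h.swap_normalizes hsa hsb hd⟩ : ↥(pairStab G a b)) = d₀ * ⟨d, hd⟩ * d₀⁻¹ := by
            refine e.injective (Subtype.ext ?_)
            rw [hφ' ⟨d, hd⟩, map_mul, map_mul, map_inv, hd₀, e.apply_symm_apply]
            rfl
          have h3 : s * d * s⁻¹ = (d₀ : G) * d * (d₀ : G)⁻¹ := congrArg Subtype.val h2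
          rw [mul_assoc, show s * d = s * d * s⁻¹ * s by group, h3]
          group
        first | exact key u h.u_mem | exact key v h.v_mem
    · exact h1
  rw [← s5_odd_swappers σ hσ2 hodd, ← Fintype.card_coe, ← Nat.card_eq_fintype_card]
  refine Nat.card_congr (Equiv.trans (e.toEquiv.subtypeEquiv (q := fun p : ↥(alternatingGroup (Fin 5)) => σ * (p : Perm (Fin 5)) * (σ * p) = 1)
    fun d => ?_) (Equiv.trans (Equiv.subtypeSubtypeEquivSubtypeInter (fun p : Perm (Fin 5) => p ∈ alternatingGroup (Fin 5))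
      (fun p => σ * p * (σ * p) = 1)) (Equiv.subtypeEquivRight fun p => by
        simp only [Finset.mem_filter, Finset.mem_univ, true_and, Equiv.Perm.mem_alternatingGroup])))
  -- `(s d)² = 1` iff `d` is inverted by `s`
  have h2 : s * (d : G) * (s * d) = 1 ↔
      (⟨s * (d : G) * s⁻¹, h.swap_normalizes hsa hsb d.2⟩ : ↥(pairStab G a b)) * d = 1 := by
    rw [Subtype.ext_iff, Subgroup.coe_mul, Subgroup.coe_one]
    show _ ↔ s * (d : G) * s⁻¹ * d = 1
    rw [hsinv, mul_assoc (s * (d : G))]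
  have h3 : σ * ((e d : ↥(alternatingGroup (Fin 5))) : Perm (Fin 5)) * (σ * (e d : Perm (Fin 5))) = 1 ↔
      ((e ⟨s * (d : G) * s⁻¹, h.swap_normalizes hsa hsb d.2⟩ : ↥(alternatingGroup (Fin 5))) : Perm (Fin 5)) *
        (e d : Perm (Fin 5)) = 1 := by
    rw [hφ' d, inv_eq_of_mul_eq_one_right hσ2, mul_assoc (σ * (e d : Perm (Fin 5)))]
  rw [h2, show (e.toEquiv d) = e d from rfl, h3, ← Subgroup.coe_mul, ← map_mul, OneMemClass.coe_eq_one,
    MulEquiv.map_eq_one_iff]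

end Five

end Cfsg.Agent.Perm.TwoStab
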