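import Cfsg.Agent.Lib.Perm.TwoStab.QDSetup

/-!
# The group induced on the fixed points of `u`

In the semidihedral case it is doubly transitive, its kernel is `{1, u}`, and it has a regular normal subgroup,
elementary abelian of order a prime power.
-/

set_option autoImplicit false
set_option linter.unusedSectionVars false
set_option linter.style.haveILetI false

namespace Cfsg.Agent.Perm.TwoStab

open MulAction Subgroup Invol

universe u₁ u₂

/-- A non-trivial normal subgroup of a doubly transitive faithful group is transitive. -/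
theorem normal_transitive {H : Type*} [Group H] {Φ : Type*} [MulAction H Φ]
    (h2 : ∀ c d c' d' : Φ, c ≠ d → c' ≠ d' → ∃ g : H, g • c = c' ∧ g • d = d')
    (hfaith : ∀ g : H, (∀ x : Φ, g • x = x) → g = 1) {N : Subgroup H} (hN : N.Normal) (hN1 : N ≠ ⊥) :
    ∀ x y : Φ, ∃ n ∈ N, n • x = y := by
  obtain ⟨⟨n, hn⟩, hn1⟩ := (N.ne_bot_iff_exists_ne_one).1 hN1
  obtain ⟨c, hc⟩ : ∃ c : Φ, n • c ≠ c := by
    by_contra hall
    push Not at hall
    exact hn1 (Subtype.ext (hfaith n hall))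
  intro x y
  by_cases hxy : x = y
  · exact ⟨1, one_mem _, by rw [one_smul, hxy]⟩
  obtain ⟨g, h1, h3⟩ := h2 c (n • c) x y (fun e => hc e.symm) hxy
  refine ⟨g * n * g⁻¹, hN.conj_mem n hn g, ?_⟩
  rw [← h1, mul_smul, mul_smul, inv_smul_smul, h3]

/-- In a regular normal subgroup the elements commuting with an element fixing a point correspond to its fixed
points. -/
theorem card_comm_eq_fixed {H : Type*} [Group H] {Φ : Type*} [MulAction H Φ] (R : Subgroup H) (hR : R.Normal)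
    (htr : ∀ x y : Φ, ∃ n ∈ R, n • x = y) (hreg : ∀ n ∈ R, ∀ x : Φ, n • x = x → n = 1) {g : H} {a : Φ}
    (hg : g • a = a) : Nat.card {r : ↥R // g * (r : H) * g⁻¹ = r} = Nat.card {c : Φ // g • c = c} := by
  refine Nat.card_eq_of_bijective
    (fun r => (⟨((r.1 : ↥R) : H) • a, by
      conv_lhs => rw [← r.2]
      rw [smul_smul, show g * (g * ((r.1 : ↥R) : H) * g⁻¹) = g * g * ((r.1 : ↥R) : H) * g⁻¹ by group]
      have h1 := r.2
      rw [mul_inv_eq_iff_eq_mul] at h1
      rw [mul_assoc g g, h1, ← mul_assoc g, h1, mul_inv_cancel_right, mul_smul, hg]⟩ :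
      {c : Φ // g • c = c})) ⟨fun r r' e => ?_, fun c => ?_⟩
  · have e' : ((r.1 : ↥R) : H) • a = ((r'.1 : ↥R) : H) • a := congrArg Subtype.val e
    refine Subtype.ext (Subtype.ext ?_)
    exact (inv_mul_eq_one.1 (hreg _ (R.mul_mem (R.inv_mem r'.1.2) r.1.2) a (by rw [mul_smul, e', inv_smul_smul]))).symm
  · obtain ⟨r, hr, hrc⟩ := htr a c.1
    refine ⟨⟨⟨r, hr⟩, ?_⟩, Subtype.ext hrc⟩
    have h1 := hreg _ (R.mul_mem (R.inv_mem hr) (hR.conj_mem r hr g)) a (by
      rw [mul_smul, mul_smul, mul_smul, show g⁻¹ • a = a from inv_smul_eq_iff.2 hg.symm, hrc, c.2, ← hrc,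
        inv_smul_smul])
    exact (inv_mul_eq_one.1 h1).symm

variable {G : Type u₁} [Group G] {Ω : Type u₂} [MulAction G Ω] {a b : Ω} {u v : G}

/-- The fixed points of `u` as a set with an action of its centraliser. -/
def fixSub (Ω : Type u₂) [MulAction G Ω] (u : G) : SubMulAction ↥(centralizer ({u} : Set G)) Ω where
  carrier := Fx Ω u
  smul_mem' g c hc := by
    have hg : (g : G) * u = u * (g : G) := mem_centralizer_singleton_iff.1 g.2
    show u • (g : G) • c = (g : G) • c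
    rw [← mul_smul, ← hg, mul_smul, mem_Fx.1 hc]

/-- The representation on the fixed points of `u`. -/
def fixRep (Ω : Type u₂) [MulAction G Ω] (u : G) :
    ↥(centralizer ({u} : Set G)) →* Equiv.Perm ↥(fixSub Ω u) :=
  MulAction.toPermHom _ _

theorem fixRep_apply (g : ↥(centralizer ({u} : Set G))) (c : ↥(fixSub Ω u)) :
    ((fixRep Ω u).rangeRestrict g) • c = g • c := rfl

theorem fixSub_smul (g : ↥(centralizer ({u} : Set G))) (c : ↥(fixSub Ω u)) :
    ((g • c : ↥(fixSub Ω u)) : Ω) = (g : G) • (c : Ω) := rfl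

namespace Cfg

variable (h : Cfg G a b u v)
include h

theorem fix_move (c d c' d' : ↥(fixSub Ω u)) (hcd : c ≠ d) (hcd' : c' ≠ d') :
    ∃ g : ↥(fixRep Ω u).range, g • c = c' ∧ g • d = d' := by
  obtain ⟨g, hg, h1, h2⟩ := h.cent_u_pairs (fun e => hcd (Subtype.ext e)) c.2 d.2
  obtain ⟨g', hg', h1', h2'⟩ := h.cent_u_pairs (fun e => hcd' (Subtype.ext e)) c'.2 d'.2
  refine ⟨(fixRep Ω u).rangeRestrict (⟨g', hg'⟩⁻¹ * ⟨g, hg⟩), Subtype.ext ?_, Subtype.ext ?_⟩
  · rw [fixRep_apply, fixSub_smul]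
    show (g'⁻¹ * g) • (c : Ω) = c'
    rw [mul_smul, h1, inv_smul_eq_iff, h1']
  · rw [fixRep_apply, fixSub_smul]
    show (g'⁻¹ * g) • (d : Ω) = d'
    rw [mul_smul, h2, inv_smul_eq_iff, h2']

omit h in
theorem fix_faithful (g : ↥(fixRep Ω u).range) (hg : ∀ c : ↥(fixSub Ω u), g • c = c) : g = 1 :=
  Subtype.ext (Equiv.ext hg)

theorem fix_card [Finite Ω] : Nat.card ↥(fixSub Ω u) = Nat.card ↥(Fx Ω u) := rfl

/-- The kernel, when `v` moves a fixed point of `u`. -/
theorem fix_kernel (hmv : ∃ c ∈ Fx Ω u, v • c ≠ c) {g : ↥(centralizer ({u} : Set G))}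
    (hg : (fixRep Ω u).rangeRestrict g = 1) : (g : G) = 1 ∨ (g : G) = u := by
  have hfix : ∀ c ∈ Fx Ω u, (g : G) • c = c := fun c hc =>
    congrArg Subtype.val (show g • (⟨c, hc⟩ : ↥(fixSub Ω u)) = ⟨c, hc⟩ by rw [← fixRep_apply, hg, one_smul])
  obtain ⟨c, hc, hvc⟩ := hmv
  rcases h.cent g ⟨hfix a h.u_a, hfix b h.u_b⟩ (mem_centralizer_singleton_iff.1 g.2) with e | e | e | e
  · exact Or.inl e
  · exact Or.inr e
  · exact absurd (e ▸ hfix c hc) hvc
  · refine absurd ?_ hvc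
    have h1 := hfix c hc
    rw [e, mul_smul] at h1
    calc v • c = u • u • v • c := by rw [smul_smul u u, h.uu, one_smul]
      _ = u • c := by rw [h1]
      _ = c := hc

theorem fix_u : (fixRep Ω u).rangeRestrict ⟨u, mem_centralizer_singleton_iff.2 rfl⟩ = 1 :=
  fix_faithful _ fun c => Subtype.ext c.2

/-- A regular normal subgroup of the induced group. -/
theorem exists_fix_regular [Finite G] [Finite Ω] (hmv : ∃ c ∈ Fx Ω u, v • c ≠ c)
    (hbig : 16 ≤ Nat.card ↥(centralizer ({u} : Set G))) (N : Subgroup ↥(centralizer ({u} : Set G))) [N.Normal]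
    (hNi : N.index = 2)
    (hNV : ∀ g : ↥(centralizer ({u} : Set G)), (g : G) ∈ four u v → g ∈ N → (g : G) = 1 ∨ (g : G) = u) :
    ∃ (R : Subgroup ↥(fixRep Ω u).range) (p k : ℕ), R.Normal ∧ p.Prime ∧ 0 < k ∧
      Nat.card ↥(Fx Ω u) = p ^ k ∧ Nat.card ↥R = p ^ k ∧ (∀ r ∈ R, r ^ p = 1) ∧
      (∀ r ∈ R, ∀ s ∈ R, r * s = s * r) ∧ (∀ x y : ↥(fixSub Ω u), ∃ n ∈ R, n • x = y) ∧
      ∀ n ∈ R, ∀ x : ↥(fixSub Ω u), n • x = x → n = 1 := by
  classical
  set ρ := (fixRep Ω u).rangeRestrict with hρ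
  haveI hN' : (N.map ρ).Normal := (inferInstance : N.Normal).map ρ (fixRep Ω u).rangeRestrict_surjective
  have hfix : ∀ n ∈ N.map ρ, n ≠ 1 → ∀ c d : ↥(fixSub Ω u), n • c = c → n • d = d → c = d := by
    rintro _ ⟨g, hg, rfl⟩ hne c d hc hd
    by_contra hcd
    obtain ⟨k, hk, h1, h2⟩ := h.cent_u_pairs (fun e => hcd (Subtype.ext e)) c.2 d.2
    set k' : ↥(centralizer ({u} : Set G)) := ⟨k, hk⟩ with hk'
    have hm : ((k' * g * k'⁻¹ : ↥(centralizer ({u} : Set G))) : G) ∈ four u v := by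
      refine h.mem_four.2 (h.cent _ ⟨?_, ?_⟩ (mem_centralizer_singleton_iff.1 (k' * g * k'⁻¹).2))
      · show (k * (g : G) * k⁻¹) • a = a
        rw [← h1, mul_smul, mul_smul, inv_smul_smul]
        exact congrArg _ (congrArg Subtype.val hc)
      · show (k * (g : G) * k⁻¹) • b = b
        rw [← h2, mul_smul, mul_smul, inv_smul_smul]
        exact congrArg _ (congrArg Subtype.val hd)
    refine hne ?_
    have hρe : ρ (k' * g * k'⁻¹) = 1 := by
      rcases hNV _ hm ((inferInstance : N.Normal).conj_mem g hg k') with e | e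
      · rw [show k' * g * k'⁻¹ = 1 from Subtype.ext e, map_one]
      · rw [show k' * g * k'⁻¹ = ⟨u, mem_centralizer_singleton_iff.2 rfl⟩ from Subtype.ext e]
        exact h.fix_u
    rwa [map_mul, map_mul, map_inv, mul_inv_eq_one, mul_eq_left] at hρe
  have hne : N.map ρ ≠ ⊥ := fun e => by
    have hker : ∀ g ∈ N, (g : G) ∈ ({1, u} : Finset G) := fun g hg => by
      have hg1 : ρ g = 1 := mem_bot.1 (e ▸ mem_map_of_mem ρ hg)
      rcases h.fix_kernel hmv hg1 with e' | e' <;> simp [e']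
    have h1 : Nat.card ↥N ≤ 2 := by
      refine (Nat.card_le_card_of_injective (fun g : ↥N => (⟨((g : ↥(centralizer ({u} : Set G))) : G), hker g g.2⟩ :
        ↥({1, u} : Finset G))) fun g g' e' => Subtype.ext (Subtype.ext
          (congrArg (fun z : ↥({1, u} : Finset G) => (z : G)) e'))).trans ?_
      rw [Nat.card_eq_fintype_card, Fintype.card_coe]
      exact Finset.card_le_two
    have h2 := N.card_mul_index
    rw [hNi] at h2
    omega
  obtain ⟨R, hRn, -, hRt, hRf⟩ := exists_regular_normal (a := (⟨a, h.u_a⟩ : ↥(fixSub Ω u))) (N.map ρ)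
    (normal_transitive h.fix_move fix_faithful hN' hne) hfix
  obtain ⟨p, k, hp, hk, hcard, hRc, hexp, hcomm⟩ := regular_elem h.fix_move
    (a := (⟨a, h.u_a⟩ : ↥(fixSub Ω u))) (b := ⟨b, h.u_b⟩) (fun e => h.ne (congrArg Subtype.val e)) R hRn hRt hRf
  exact ⟨R, p, k, hRn, hp, hk, hcard, hRc, hexp, hcomm, hRt, hRf⟩

end Cfg

end Cfsg.Agent.Perm.TwoStab
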