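import Cfsg.Agent.Lib.Perm.TwoStab.Count
import Cfsg.Agent.Lib.Perm.TwoStab.FixAction

/-!
# An involution centralising the two-point stabiliser interchanges the two points

The involutions interchanging `a` and `b` are `w` and the fifteen conjugates of `w u`.  If `v` moves a fixed point of
`u` then `w u` has two fixed points, and exactly two or four elements of the class of `v` in `C(u)` interchange `a`
and `b`.
-/

set_option autoImplicit false
set_option linter.unusedSectionVars false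
set_option linter.style.haveILetI false

namespace Cfsg.Agent.Perm.TwoStab

open MulAction Subgroup

universe u₁ u₂

open Cfg (cls₂ cls₂_conj)

variable {G : Type u₁} [Group G] {Ω : Type u₂} [MulAction G Ω] {a b : Ω} {u v w : G}

/-- An involution centralising the stabiliser and interchanging the points. -/
structure Swap (a b : Ω) (w : G) : Prop where
  sq : w * w = 1
  mapA : w • a = b
  mapB : w • b = a
  comm : ∀ d ∈ pairStab G a b, w * d = d * w

namespace Swap

variable (hw : Swap a b w)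
include hw

theorem ne_one (h : Cfg G a b u v) : w ≠ 1 := fun e => h.ne (by rw [← hw.mapA, e, one_smul])

theorem ord (h : Cfg G a b u v) : orderOf w = 2 := orderOf_two_iff.2 ⟨hw.sq, hw.ne_one h⟩

theorem mul_sq {d : G} (hd : d ∈ pairStab G a b) : w * d * (w * d) = d * d := by
  rw [hw.comm d hd, show d * w * (d * w) = d * (w * d) * w by group, hw.comm d hd,
    show d * (d * w) * w = d * d * (w * w) by group, hw.sq, mul_one]

theorem mem_of_swap {x : G} (hx : x * x = 1) (hxa : x • a = b) :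
    w * x ∈ pairStab G a b ∧ w * x * (w * x) = 1 := by
  have hxb := smul_swap hx hxa
  have hm : w * x ∈ pairStab G a b :=
    ⟨show (w * x) • a = a by rw [mul_smul, hxa, hw.mapB], show (w * x) • b = b by rw [mul_smul, hxb, hw.mapA]⟩
  refine ⟨hm, ?_⟩
  have h1 := hw.mul_sq hm
  rw [← mul_assoc w w x, hw.sq, one_mul, hx] at h1
  exact h1.symm

theorem mul_mem_cls_iff (h : Cfg G a b u v) {d : G} (hd : d ∈ pairStab G a b) (hd2 : orderOf d = 2) :
    w * d ∈ cls u ↔ w * u ∈ cls u := by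
  obtain ⟨k, hk, e⟩ := h.conj d hd hd2
  rw [← cls_conj_iff k (w * d), show k * (w * d) * k⁻¹ = (k * w) * d * k⁻¹ by group, ← hw.comm k hk, ← e,
    show w * k * d * k⁻¹ = w * (k * d * k⁻¹) by group]

theorem wu_sq (h : Cfg G a b u v) {d : G} (hd : d ∈ four u v) : w * d * (w * d) = 1 := by
  rw [hw.mul_sq (h.four_le hd), h.four_sq hd]

theorem comm_four (h : Cfg G a b u v) {d : G} (hd : d ∈ four u v) : w * d = d * w := hw.comm d (h.four_le hd)

theorem swap_cls_subset (h : Cfg G a b u v) {x : G} (hx : x ∈ cls₂ u v) (hxa : x • a = b) :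
    x = w ∨ x = w * u ∨ x = w * v ∨ x = w * (u * v) := by
  obtain ⟨hxx, hxu, -, -⟩ := h.cls₂_props hx
  obtain ⟨hm, -⟩ := hw.mem_of_swap hxx hxa
  have hc : w * x * u = u * (w * x) := by
    rw [mul_assoc, hxu, ← mul_assoc, hw.comm u h.u_mem, mul_assoc]
  have hx' : x = w * (w * x) := by rw [← mul_assoc, hw.sq, one_mul]
  rcases h.cent _ hm hc with e | e | e | e <;> rw [e] at hx'
  · exact Or.inl (by rw [hx', mul_one])
  · exact Or.inr (Or.inl hx')
  · exact Or.inr (Or.inr (Or.inl hx'))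
  · exact Or.inr (Or.inr (Or.inr hx'))

/-- Some element of the class of `v` in `C(u)` interchanges the points, if `v` moves a fixed point of `u`. -/
theorem exists_swap_cls₂ (h : Cfg G a b u v) (hmv : ∃ c ∈ Fx Ω u, v • c ≠ c) : ∃ x ∈ cls₂ u v, x • a = b := by
  obtain ⟨c, hc, hvc⟩ := hmv
  have hd : u • v • c = v • c := by rw [← mul_smul, h.comm, mul_smul, hc]
  obtain ⟨g, hg, h1, h2⟩ := h.cent_u_pairs (fun e => hvc e.symm) hc hd
  refine ⟨g * v * g⁻¹, cls₂_conj (mem_centralizer_singleton_iff.1 hg) h.v_mem_cls₂, ?_⟩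
  rw [← h1, mul_smul, mul_smul, inv_smul_smul, h2]

theorem wu_mem_cls (h : Cfg G a b u v) (hmv : ∃ c ∈ Fx Ω u, v • c ≠ c) : w * u ∈ cls u := by
  obtain ⟨x, hx, hxa⟩ := hw.exists_swap_cls₂ h hmv
  rcases hw.swap_cls_subset h hx hxa with e | e | e | e
  · have := (h.cls₂_props (h.cls₂_props hx).2.2.2).2.2.1
    rwa [e] at this
  · exact e ▸ (h.cls₂_props hx).2.2.1
  · exact (hw.mul_mem_cls_iff h h.v_mem h.v_ord).1 (e ▸ (h.cls₂_props hx).2.2.1)
  · exact (hw.mul_mem_cls_iff h (mul_mem h.u_mem h.v_mem) (orderOf_two_iff.2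
      ⟨h.four_sq (h.mem_four.2 (by simp)), h.uv_ne⟩)).1 (e ▸ (h.cls₂_props hx).2.2.1)

/-- The swapping elements of the class of `u`. -/
theorem delta_eq (h : Cfg G a b u v) [Finite G] {N : ℕ}
    (hN : Nat.card {x : ↥(pairStab G a b) // x * x = 1 ∧ x ≠ 1} = N) :
    (w ∈ cls u → w * u ∈ cls u → Nat.card {x : ↥(cls u) // (x : G) • a = b} = N + 1) ∧
      (w ∉ cls u → w * u ∈ cls u → Nat.card {x : ↥(cls u) // (x : G) • a = b} = N) := by
  classical
  have hc := h
  constructor
  · intro h1 h2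
    have e : Nat.card {x : ↥(cls u) // (x : G) • a = b} =
        Nat.card (Option {x : ↥(pairStab G a b) // x * x = 1 ∧ x ≠ 1}) := by
      refine Nat.card_congr (Equiv.ofBijective (fun o => o.elim ⟨⟨w, h1⟩, hw.mapA⟩ fun d =>
        ⟨⟨w * (d.1 : G), (hw.mul_mem_cls_iff hc d.1.2 (orderOf_two_iff.2 ⟨congrArg Subtype.val d.2.1,
          fun e => d.2.2 (Subtype.ext e)⟩)).2 h2⟩, by rw [mul_smul, d.1.2.1, hw.mapA]⟩) ⟨?_, ?_⟩).symm
      · rintro (_ | d) (_ | d') e
        · rfl
        · exfalso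
          have e' : w = w * (d'.1 : G) := congrArg (fun z : {x : ↥(cls u) // (x : G) • a = b} => (z.1 : G)) e
          exact d'.2.2 (Subtype.ext (mul_eq_left.1 e'.symm))
        · exfalso
          have e' : w * (d.1 : G) = w := congrArg (fun z : {x : ↥(cls u) // (x : G) • a = b} => (z.1 : G)) e
          exact d.2.2 (Subtype.ext (mul_eq_left.1 e'))
        · exact congrArg some (Subtype.ext (Subtype.ext (mul_left_cancel
            (congrArg (fun z : {x : ↥(cls u) // (x : G) • a = b} => (z.1 : G)) e))))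
      · rintro ⟨⟨x, hx⟩, hxa⟩
        obtain ⟨hm, hsq⟩ := hw.mem_of_swap (hc.cls_sq hx) hxa
        by_cases h0 : w * x = 1
        · refine ⟨none, Subtype.ext (Subtype.ext ?_)⟩
          show w = x
          rw [← inv_eq_of_mul_eq_one_right h0, inv_eq_of_mul_eq_one_right hw.sq]
        · refine ⟨some ⟨⟨_, hm⟩, Subtype.ext hsq, fun e => h0 (congrArg Subtype.val e)⟩, Subtype.ext (Subtype.ext ?_)⟩
          show w * (w * x) = x
          rw [← mul_assoc, hw.sq, one_mul]
    rw [e, Finite.card_option, hN]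
  · intro h1 h2
    rw [← hN]
    refine Nat.card_congr
      { toFun := fun x => ⟨⟨w * (x.1 : G), (hw.mem_of_swap (hc.cls_sq x.1.2) x.2).1⟩,
          Subtype.ext (hw.mem_of_swap (hc.cls_sq x.1.2) x.2).2, fun e => h1 (by
            have e' : w * (x.1 : G) = 1 := congrArg Subtype.val e
            have hxw : (x.1 : G) = w := by
              rw [← inv_eq_of_mul_eq_one_right e', inv_eq_of_mul_eq_one_right hw.sq]
            exact hxw ▸ x.1.2)⟩
        invFun := fun d => ⟨⟨w * (d.1 : G), (hw.mul_mem_cls_iff hc d.1.2 (orderOf_two_iff.2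
          ⟨congrArg Subtype.val d.2.1, fun e => d.2.2 (Subtype.ext e)⟩)).2 h2⟩, by rw [mul_smul, d.1.2.1, hw.mapA]⟩
        left_inv := fun x => Subtype.ext (Subtype.ext (show w * (w * (x.1 : G)) = x.1 by rw [← mul_assoc, hw.sq, one_mul]))
        right_inv := fun d => Subtype.ext (Subtype.ext (show w * (w * (d.1 : G)) = d.1 by rw [← mul_assoc, hw.sq, one_mul])) }

theorem mul_u_mem (h : Cfg G a b u v) {x : G} (hx : x ∈ cls₂ u v) : x * u ∈ cls₂ u v := (h.cls₂_props hx).2.2.2

/-- Two or four elements of the class of `v` in `C(u)` interchange the points. -/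
theorem j_cases (h : Cfg G a b u v) [Finite G] (hmv : ∃ c ∈ Fx Ω u, v • c ≠ c) :
    Nat.card {x : ↥(cls₂ u v) // (x : G) • a = b} = 4 ∨
      (Nat.card {x : ↥(cls₂ u v) // (x : G) • a = b} = 2 ∧
        ((w ∈ cls₂ u v ∧ w * v ∉ cls₂ u v) ∨ (w ∉ cls₂ u v ∧ w * v ∈ cls₂ u v))) := by
  classical
  have huv : w * v * u = w * (u * v) := by rw [mul_assoc, h.comm]
  have hwuu : w * u * u = w := by rw [mul_assoc, h.uu, mul_one]
  have h1 : w ∈ cls₂ u v ↔ w * u ∈ cls₂ u v := ⟨hw.mul_u_mem h, fun hx => hwuu ▸ hw.mul_u_mem h hx⟩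
  have h2 : w * v ∈ cls₂ u v ↔ w * (u * v) ∈ cls₂ u v := by
    refine ⟨fun hx => huv ▸ hw.mul_u_mem h hx, fun hx => ?_⟩
    have h3 := hw.mul_u_mem h hx
    rwa [← huv, mul_assoc (w * v) u u, h.uu, mul_one] at h3
  have hsw : ∀ d ∈ four u v, (w * d) • a = b := fun d hd => by rw [mul_smul, (h.four_le hd).1, hw.mapA]
  have hset : {x : G | x ∈ cls₂ u v ∧ x • a = b} =
      {x : G | x ∈ cls₂ u v ∧ x ∈ ({w, w * u, w * v, w * (u * v)} : Finset G)} := by
    ext x
    simp only [Set.mem_setOf_eq, and_congr_right_iff, Finset.mem_insert, Finset.mem_singleton]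
    intro hx
    refine ⟨hw.swap_cls_subset h hx, ?_⟩
    rintro (rfl | rfl | rfl | rfl)
    exacts [hw.mapA, hsw u (h.mem_four.2 (by simp)), hsw v (h.mem_four.2 (by simp)), hsw _ (h.mem_four.2 (by simp))]
  have hcard : Nat.card {x : ↥(cls₂ u v) // (x : G) • a = b} =
      ((({w, w * u, w * v, w * (u * v)} : Finset G)).filter fun x => x ∈ cls₂ u v).card := by
    rw [← Fintype.card_coe, ← Nat.card_eq_fintype_card]
    refine Nat.card_congr ((Equiv.subtypeSubtypeEquivSubtypeInter (fun x : G => x ∈ cls₂ u v) fun x => x • a = b).trans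
      (Equiv.subtypeEquivRight fun x => ?_))
    rw [show (x ∈ cls₂ u v ∧ x • a = b) ↔ x ∈ {x : G | x ∈ cls₂ u v ∧ x • a = b} from Iff.rfl, hset,
      Finset.mem_filter]
    exact and_comm
  have hd1 : w ≠ w * u := fun e => h.u_ne (mul_eq_left.1 e.symm)
  have hd2 : w ≠ w * v := fun e => h.v_ne (mul_eq_left.1 e.symm)
  have hd3 : w ≠ w * (u * v) := fun e => h.uv_ne (mul_eq_left.1 e.symm)
  have hd4 : w * u ≠ w * v := fun e => h.ne_uv (mul_left_cancel e)
  have hd5 : w * u ≠ w * (u * v) := fun e => h.v_ne (mul_eq_left.1 (mul_left_cancel e).symm)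
  have hd6 : w * v ≠ w * (u * v) := fun e => h.u_ne (mul_eq_right.1 (mul_left_cancel e).symm)
  rw [hcard]
  by_cases hA : w ∈ cls₂ u v <;> by_cases hB : w * v ∈ cls₂ u v
  · left
    rw [Finset.filter_true_of_mem fun x hx => by
      simp only [Finset.mem_insert, Finset.mem_singleton] at hx
      rcases hx with rfl | rfl | rfl | rfl
      exacts [hA, h1.1 hA, hB, h2.1 hB]]
    simp [hd1, hd2, hd3, hd4, hd5, hd6]
  · right
    refine ⟨?_, Or.inl ⟨hA, hB⟩⟩
    simp [Finset.filter_insert, Finset.filter_singleton, hA, hB, h1.1 hA, mt h2.2 hB, hd1]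
  · right
    refine ⟨?_, Or.inr ⟨hA, hB⟩⟩
    simp [Finset.filter_insert, Finset.filter_singleton, hA, hB, h2.1 hB, mt h1.2 hA, hd6]
  · exfalso
    obtain ⟨x, hx, hxa⟩ := hw.exists_swap_cls₂ h hmv
    rcases hw.swap_cls_subset h hx hxa with rfl | rfl | rfl | rfl
    exacts [hA hx, hA (h1.2 hx), hB hx, hB (h2.2 hx)]

end Swap

/-- The class `cls₂` lies in the class of `u`; if `w` does not, it interchanges through `w v`. -/
theorem Swap.j_eq_two (hw : Swap a b w) (h : Cfg G a b u v) [Finite G] (hmv : ∃ c ∈ Fx Ω u, v • c ≠ c)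
    (hwc : w ∉ cls u) : Nat.card {x : ↥(cls₂ u v) // (x : G) • a = b} = 2 := by
  classical
  rcases hw.j_cases h hmv with e | ⟨e, -⟩
  · exfalso
    have hmem : ∀ x : {x : ↥(cls₂ u v) // (x : G) • a = b},
        (x.1 : G) ∈ ({w * u, w * v, w * (u * v)} : Finset G) := fun x => by
      rcases hw.swap_cls_subset h x.1.2 x.2 with e' | e' | e' | e'
      · exact absurd (e' ▸ (h.cls₂_props x.1.2).2.2.1) hwc
      all_goals simp [e']
    have h4 : Nat.card {x : ↥(cls₂ u v) // (x : G) • a = b} ≤ 3 := by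
      refine (Nat.card_le_card_of_injective (fun x => (⟨(x.1 : G), hmem x⟩ : ↥({w * u, w * v, w * (u * v)} : Finset G)))
        fun x y e' => Subtype.ext (Subtype.ext (congrArg (fun z : ↥({w * u, w * v, w * (u * v)} : Finset G) => (z : G)) e'))).trans ?_
      rw [Nat.card_eq_fintype_card, Fintype.card_coe]
      exact Finset.card_le_three
    omega
  · exact e

end Cfsg.Agent.Perm.TwoStab
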