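import Cfsg.Agent.Lib.Perm.TwoStab.Stab
import Cfsg.Agent.Lib.Perm.TwoStab.TypeW

/-!
# The two-point stabiliser `A₄`

Its involutions form one class with centraliser the four group.  An automorphism is conjugation by a permutation of
four letters, so an element interchanging the points either can be corrected to an involution centralising the
stabiliser, or acts as an odd permutation.
-/

set_option autoImplicit false
set_option linter.unusedSectionVars false
set_option linter.style.haveILetI false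
set_option maxRecDepth 100000

namespace Cfsg.Agent.Perm.TwoStab

open MulAction Subgroup Equiv

universe u₁ u₂

/-- The involution `(01)(23)`. -/
def a4u : ↥(alternatingGroup (Fin 4)) := ⟨swap 0 1 * swap 2 3, Equiv.Perm.mem_alternatingGroup.2 (by decide)⟩

/-- The involution `(02)(13)`. -/
def a4v : ↥(alternatingGroup (Fin 4)) := ⟨swap 0 2 * swap 1 3, Equiv.Perm.mem_alternatingGroup.2 (by decide)⟩

/-- A three-cycle. -/
def a4c : ↥(alternatingGroup (Fin 4)) := ⟨swap 0 1 * swap 1 2, Equiv.Perm.mem_alternatingGroup.2 (by decide)⟩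

theorem a4_basic : a4u * a4u = 1 ∧ a4u ≠ 1 ∧ a4v * a4v = 1 ∧ a4v ≠ 1 ∧ a4u * a4v = a4v * a4u ∧ a4u ≠ a4v := by
  decide +kernel

theorem a4_c : a4c * a4c * a4c = 1 ∧ a4c ≠ 1 := by decide +kernel

theorem a4_conj : ∀ x : ↥(alternatingGroup (Fin 4)), x * x = 1 → x ≠ 1 →
    ∃ d : ↥(alternatingGroup (Fin 4)), d * x * d⁻¹ = a4u := by
  decide +kernel

theorem a4_cent : ∀ x : ↥(alternatingGroup (Fin 4)), x * a4u = a4u * x →
    x = 1 ∨ x = a4u ∨ x = a4v ∨ x = a4u * a4v := by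
  decide +kernel

theorem a4_center : ∀ x : ↥(alternatingGroup (Fin 4)), (∀ y, y * x = x * y) → x = 1 := by
  decide +kernel

theorem a4_squares : ∀ x : ↥(alternatingGroup (Fin 4)), ∃ y z : ↥(alternatingGroup (Fin 4)),
    x = y * y * (z * z) := by
  decide +kernel

theorem a4_normal : ∀ x : ↥(alternatingGroup (Fin 4)), x ≠ 1 → ∃ d e : ↥(alternatingGroup (Fin 4)),
    e * (d * x * d⁻¹ * x⁻¹) * e⁻¹ = a4u ∨ e * x * e⁻¹ = a4u := by
  decide +kernel

theorem a4_invols : Nat.card {x : ↥(alternatingGroup (Fin 4)) // x * x = 1 ∧ x ≠ 1} = 3 := by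
  rw [Nat.card_eq_fintype_card]
  decide +kernel

theorem a4_gen : ∀ x : ↥(alternatingGroup (Fin 4)), ∃ i j : Fin 3, ∃ k : Fin 2,
    x = a4c ^ (i : ℕ) * a4u ^ (k : ℕ) * a4c ^ (j : ℕ) := by
  decide +kernel

set_option synthInstance.maxSize 4000 in
theorem a4_realised : ∀ U C : ↥(alternatingGroup (Fin 4)), U * U = 1 → U ≠ 1 → C * C * C = 1 → C ≠ 1 →
    ∃ σ : Perm (Fin 4), σ * (a4u : Perm (Fin 4)) * σ⁻¹ = U ∧ σ * (a4c : Perm (Fin 4)) * σ⁻¹ = C := by
  decide +kernel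

theorem s4_centre : ∀ σ : Perm (Fin 4), σ * (a4u : Perm (Fin 4)) = (a4u : Perm (Fin 4)) * σ →
    σ * (a4c : Perm (Fin 4)) = (a4c : Perm (Fin 4)) * σ → σ = 1 := by
  decide +kernel

theorem s4_cent : ∀ σ : Perm (Fin 4), σ * (a4u : Perm (Fin 4)) = (a4u : Perm (Fin 4)) * σ →
    σ * (a4v : Perm (Fin 4)) = (a4v : Perm (Fin 4)) * σ →
    σ = 1 ∨ σ = (a4u : Perm (Fin 4)) ∨ σ = (a4v : Perm (Fin 4)) ∨
      σ = (a4u : Perm (Fin 4)) * (a4v : Perm (Fin 4)) := by
  decide +kernel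

/-- The number of elements of a coset of odd permutations that square to one. -/
theorem s4_odd_swappers : ∀ σ : Perm (Fin 4), σ * σ = 1 → Perm.sign σ = -1 →
    (Finset.univ.filter fun p : Perm (Fin 4) => Perm.sign p = 1 ∧ σ * p * (σ * p) = 1).card = 6 := by
  decide +kernel

/-- Those commuting with a fixed involution. -/
theorem s4_odd_commuting : ∀ σ : Perm (Fin 4), σ * σ = 1 → Perm.sign σ = -1 →
    (Finset.univ.filter fun p : Perm (Fin 4) => Perm.sign p = 1 ∧ σ * p * (σ * p) = 1 ∧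
      σ * p * (a4u : Perm (Fin 4)) = (a4u : Perm (Fin 4)) * (σ * p)).card ≤ 2 := by
  decide +kernel

theorem s4_odd_conj : ∀ σ : Perm (Fin 4), σ * σ = 1 → Perm.sign σ = -1 →
    ∀ p q : ↥(alternatingGroup (Fin 4)), σ * p * (σ * p) = 1 → σ * q * (σ * q) = 1 →
      ∃ e : ↥(alternatingGroup (Fin 4)), (e : Perm (Fin 4)) * (σ * p) * (e : Perm (Fin 4))⁻¹ = σ * q := by
  decide +kernel

variable {G : Type u₁} [Group G] {Ω : Type u₂} [MulAction G Ω] {a b : Ω}

/-- The chosen involutions of a two-point stabiliser isomorphic to `A₄`. -/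
structure Four (G : Type u₁) [Group G] {Ω : Type u₂} [MulAction G Ω] (a b : Ω) (u v : G) : Prop
    extends Cfg G a b u v where
  iso : ∃ e : ↥(pairStab G a b) ≃* ↥(alternatingGroup (Fin 4)),
    e ⟨u, u_mem⟩ = a4u ∧ e ⟨v, v_mem⟩ = a4v

theorem exists_four [FaithfulSMul G Ω] (h2 : IsMultiplyPretransitive G Ω 2) (hab : a ≠ b)
    (e : ↥(stabilizer G a ⊓ stabilizer G b) ≃* ↥(alternatingGroup (Fin 4))) :
    ∃ u v : G, Four G a b u v := by
  obtain ⟨huu, hu1, hvv, hv1, huv, hne⟩ := a4_basic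
  have hord : ∀ x : ↥(alternatingGroup (Fin 4)), x * x = 1 → x ≠ 1 → orderOf ((e.symm x : ↥(pairStab G a b)) : G) = 2 :=
    fun x h1 h3 => by
      rw [Subgroup.orderOf_coe, MulEquiv.orderOf_eq]
      exact orderOf_two_iff.2 ⟨h1, h3⟩
  refine ⟨(e.symm a4u : ↥(pairStab G a b)), (e.symm a4v : ↥(pairStab G a b)), ⟨h2, ?_, hab, (e.symm a4u).2,
    (e.symm a4v).2, hord _ huu hu1, hord _ hvv hv1, ?_, ?_, ?_, ?_⟩, e, ?_, ?_⟩
  · exact fun g hg => FaithfulSMul.eq_of_smul_eq_smul (α := Ω) fun x => by rw [hg, one_smul]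
  · rw [← Subgroup.coe_mul, ← Subgroup.coe_mul, ← map_mul, ← map_mul, huv]
  · exact fun h => hne (e.symm.injective (Subtype.ext h))
  · intro x hx hx2
    have h1 : e ⟨x, hx⟩ * e ⟨x, hx⟩ = 1 := by
      rw [← map_mul, show (⟨x, hx⟩ : ↥(pairStab G a b)) * ⟨x, hx⟩ = 1 from Subtype.ext (orderOf_two_iff.1 hx2).1,
        map_one]
    have h3 : e ⟨x, hx⟩ ≠ 1 := fun h => (orderOf_two_iff.1 hx2).2
      (congrArg Subtype.val (e.injective (h.trans e.map_one.symm)))
    obtain ⟨d, hd⟩ := a4_conj _ h1 h3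
    refine ⟨(e.symm d : ↥(pairStab G a b)), (e.symm d).2, ?_⟩
    rw [← hd, map_mul, map_mul, map_inv, e.symm_apply_apply]
    simp
  · intro x hx hxu
    have h1 : e ⟨x, hx⟩ * a4u = a4u * e ⟨x, hx⟩ := by
      have h4 := congrArg e (show (⟨x, hx⟩ : ↥(pairStab G a b)) * e.symm a4u = e.symm a4u * ⟨x, hx⟩ from Subtype.ext hxu)
      rwa [map_mul, map_mul, e.apply_symm_apply] at h4
    rcases a4_cent _ h1 with h | h | h | h <;> apply_fun e.symm at h <;>
      rw [e.symm_apply_apply] at h <;>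
      simp only [map_one, map_mul, Subtype.ext_iff, Subgroup.coe_one, Subgroup.coe_mul] at h
    exacts [Or.inl h, Or.inr (Or.inl h), Or.inr (Or.inr (Or.inl h)), Or.inr (Or.inr (Or.inr h))]
  · exact e.apply_symm_apply _
  · exact e.apply_symm_apply _

namespace Four

variable {u v : G} (h : Four G a b u v)
include h

theorem card_D : Nat.card ↥(pairStab G a b) = 12 := by
  obtain ⟨e, -, -⟩ := h.iso
  rw [Nat.card_congr e.toEquiv, nat_card_alternatingGroup, Nat.card_eq_fintype_card, Fintype.card_fin]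
  decide

theorem card_invols : Nat.card {x : ↥(pairStab G a b) // x * x = 1 ∧ x ≠ 1} = 3 := by
  obtain ⟨e, -, -⟩ := h.iso
  rw [← a4_invols]
  refine Nat.card_congr (e.toEquiv.subtypeEquiv fun x => ?_)
  show x * x = 1 ∧ x ≠ 1 ↔ e x * e x = 1 ∧ e x ≠ 1
  rw [← map_mul, MulEquiv.map_eq_one_iff, MulEquiv.map_ne_one_iff]

theorem toStab : Stab G a b u v := by
  obtain ⟨e, e1, -⟩ := h.iso
  refine ⟨h.toCfg, fun d hd hcomm => ?_, fun χ d => ?_, fun N hN hN1 => ?_⟩
  · have h1 : e ⟨d, hd⟩ = 1 := a4_center _ fun y => by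
      obtain ⟨⟨y, hy⟩, rfl⟩ := e.surjective y
      rw [← map_mul, ← map_mul]
      exact congrArg e (Subtype.ext (hcomm y hy))
    exact congrArg Subtype.val (e.injective (h1.trans e.map_one.symm))
  · obtain ⟨y, z, hyz⟩ := a4_squares (e d)
    have h1 := congrArg e.symm hyz
    rw [e.symm_apply_apply, map_mul, map_mul, map_mul] at h1
    rw [h1, map_mul, map_mul, map_mul, Int.units_mul_self, Int.units_mul_self, one_mul]
  · obtain ⟨⟨x, hx⟩, hx1⟩ := (N.ne_bot_iff_exists_ne_one).1 hN1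
    have hx1' : e x ≠ 1 := fun e' => hx1 (Subtype.ext (e.injective (e'.trans e.map_one.symm)))
    obtain ⟨d, k, hdk⟩ := a4_normal _ hx1'
    have hu : (⟨u, h.u_mem⟩ : ↥(pairStab G a b)) = e.symm a4u := by rw [← e1, e.symm_apply_apply]
    rw [hu]
    rcases hdk with hdk | hdk <;> rw [← hdk] <;> simp only [map_mul, map_inv, e.symm_apply_apply]
    · exact hN.conj_mem _ (N.mul_mem (hN.conj_mem _ hx _) (N.inv_mem hx)) _
    · exact hN.conj_mem _ hx _

/-- Conjugation by an element interchanging the points is conjugation by a permutation of the four letters. -/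
theorem swap_perm {s : G} (hsa : s • a = b) (hsb : s • b = a) :
    ∃ (e : ↥(pairStab G a b) ≃* ↥(alternatingGroup (Fin 4))) (σ : Perm (Fin 4)),
      e ⟨u, h.u_mem⟩ = a4u ∧ e ⟨v, h.v_mem⟩ = a4v ∧
        ∀ (d : G) (hd : d ∈ pairStab G a b), ∃ hd' : s * d * s⁻¹ ∈ pairStab G a b,
          (e ⟨s * d * s⁻¹, hd'⟩ : Perm (Fin 4)) = σ * (e ⟨d, hd⟩ : Perm (Fin 4)) * σ⁻¹ := by
  obtain ⟨e, e1, e2⟩ := h.iso
  have hnorm : ∀ d ∈ pairStab G a b, s * d * s⁻¹ ∈ pairStab G a b := fun d hd => by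
    refine ⟨?_, ?_⟩
    · show (s * d * s⁻¹) • a = a
      rw [mul_smul, mul_smul, show s⁻¹ • a = b from inv_smul_eq_iff.2 hsb.symm, hd.2, hsb]
    · show (s * d * s⁻¹) • b = b
      rw [mul_smul, mul_smul, show s⁻¹ • b = a from inv_smul_eq_iff.2 hsa.symm, hd.1, hsa]
  let θ : ↥(alternatingGroup (Fin 4)) →* ↥(alternatingGroup (Fin 4)) :=
    e.toMonoidHom.comp ((MonoidHom.mk' (fun d : ↥(pairStab G a b) =>
      (⟨s * d * s⁻¹, hnorm d d.2⟩ : ↥(pairStab G a b))) fun d d' =>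
        Subtype.ext (show s * ((d : G) * d') * s⁻¹ = s * d * s⁻¹ * (s * d' * s⁻¹) by group)).comp e.symm.toMonoidHom)
  have hθinj : Function.Injective θ := fun x y hxy => by
    refine e.symm.injective (Subtype.ext ?_)
    have h1 : s * ((e.symm x : ↥(pairStab G a b)) : G) * s⁻¹ = s * ((e.symm y : ↥(pairStab G a b)) : G) * s⁻¹ :=
      congrArg Subtype.val (e.injective hxy)
    exact mul_left_cancel (mul_right_cancel h1)
  have hθ1 : ∀ x, θ x = 1 → x = 1 := fun x hx => hθinj (hx.trans θ.map_one.symm)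
  obtain ⟨σ, hσu, hσc⟩ := a4_realised (θ a4u) (θ a4c) (by rw [← map_mul, a4_basic.1, map_one])
    (fun e' => a4_basic.2.1 (hθ1 _ e')) (by rw [← map_mul, ← map_mul, a4_c.1, map_one])
    (fun e' => a4_c.2 (hθ1 _ e'))
  have hall : ∀ x, (θ x : Perm (Fin 4)) = σ * (x : Perm (Fin 4)) * σ⁻¹ := fun x => by
    obtain ⟨i, j, k, hx⟩ := a4_gen x
    rw [hx]
    simp only [map_mul, map_pow, Subgroup.coe_mul, Subgroup.coe_pow, ← hσu, ← hσc, conj_pow]
    group
  refine ⟨e, σ, e1, e2, fun d hd => ⟨hnorm d hd, ?_⟩⟩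
  rw [← hall (e ⟨d, hd⟩)]
  show _ = ((e _ : ↥(alternatingGroup (Fin 4))) : Perm (Fin 4))
  congr 2
  refine Subtype.ext ?_
  show s * d * s⁻¹ = s * ((e.symm (e ⟨d, hd⟩) : ↥(pairStab G a b)) : G) * s⁻¹
  rw [e.symm_apply_apply]

/-- If an element centralising the four group interchanges the points, an involution centralising the stabiliser
does. -/
theorem exists_central_swap {s : G} (hsa : s • a = b) (hsb : s • b = a) (hsu : s * u = u * s)
    (hsv : s * v = v * s) : ∃ w : G, Swap a b w := by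
  obtain ⟨e, σ, e1, e2, hσ⟩ := h.swap_perm hsa hsb
  have key : ∀ (d : G) (hd : d ∈ pairStab G a b), s * d = d * s →
      σ * (e ⟨d, hd⟩ : Perm (Fin 4)) = (e ⟨d, hd⟩ : Perm (Fin 4)) * σ := fun d hd hsd => by
    obtain ⟨hd', h1⟩ := hσ d hd
    rw [show (⟨s * d * s⁻¹, hd'⟩ : ↥(pairStab G a b)) = ⟨d, hd⟩ from Subtype.ext (mul_inv_eq_iff_eq_mul.2 hsd)] at h1
    exact (mul_inv_eq_iff_eq_mul.1 h1.symm)
  obtain ⟨d₀, hd₀⟩ : ∃ d₀ : ↥(alternatingGroup (Fin 4)), σ = (d₀ : Perm (Fin 4)) := by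
    have hu' := key u h.u_mem hsu
    have hv' := key v h.v_mem hsv
    rw [e1] at hu'
    rw [e2] at hv'
    rcases s4_cent σ hu' hv' with e' | e' | e' | e'
    · exact ⟨1, e'⟩
    · exact ⟨a4u, e'⟩
    · exact ⟨a4v, e'⟩
    · exact ⟨a4u * a4v, e'⟩
  set x : G := ((e.symm d₀ : ↥(pairStab G a b)) : G) with hx
  have hxD : x ∈ pairStab G a b := (e.symm d₀).2
  set w : G := x⁻¹ * s with hw
  have hwd : ∀ d ∈ pairStab G a b, w * d = d * w := by
    intro d hd
    obtain ⟨hd', h1⟩ := hσ d hd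
    rw [hd₀, ← Subgroup.coe_inv, ← Subgroup.coe_mul, ← Subgroup.coe_mul] at h1
    have h2 := congrArg e.symm (Subtype.ext h1)
    simp only [map_mul, map_inv, e.symm_apply_apply, Subtype.ext_iff, Subgroup.coe_mul, Subgroup.coe_inv] at h2
    rw [hw, mul_assoc, show s * d = s * d * s⁻¹ * s by group, h2, ← hx]
    group
  have hwa : w • a = b := by
    rw [hw, mul_smul, hsa]; exact inv_smul_eq_iff.2 hxD.2.symm
  have hwb : w • b = a := by
    rw [hw, mul_smul, hsb]; exact inv_smul_eq_iff.2 hxD.1.symm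
  refine ⟨w, ?_, hwa, hwb, hwd⟩
  have hm : w * w ∈ pairStab G a b :=
    ⟨show (w * w) • a = a by rw [mul_smul, hwa, hwb], show (w * w) • b = b by rw [mul_smul, hwb, hwa]⟩
  refine h.toStab.center_triv _ hm fun d hd => ?_
  rw [← mul_assoc, ← hwd d hd, mul_assoc w d w, ← hwd d hd, ← mul_assoc]

/-- The involutions interchanging the points, without an element centralising the four group among them. -/
theorem swappers [Finite G] {s : G} (hs : s * s = 1) (hsa : s • a = b)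
    (hno : ∀ g : G, g • a = b → g • b = a → g * u = u * g → g * v = v * g → False) :
    Nat.card {d : ↥(pairStab G a b) // s * (d : G) * (s * d) = 1} = 6 ∧
      Nat.card {d : ↥(pairStab G a b) // s * (d : G) * (s * d) = 1 ∧ s * (d : G) * u = u * (s * d)} ≤ 2 ∧
      ∀ d d' : ↥(pairStab G a b), s * (d : G) * (s * d) = 1 → s * (d' : G) * (s * d') = 1 →
        ∃ g ∈ pairStab G a b, g * (s * d) * g⁻¹ = s * d' := by
  classical
  have hsb : s • b = a := smul_swap hs hsa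
  obtain ⟨e, σ, e1, e2, hσ⟩ := h.swap_perm hsa hsb
  have hsinv : s⁻¹ = s := inv_eq_of_mul_eq_one_right hs
  have hmem : ∀ d ∈ pairStab G a b, s * d * s⁻¹ ∈ pairStab G a b := fun d hd => (hσ d hd).1
  have hσ' : ∀ d : ↥(pairStab G a b), (e ⟨s * d * s⁻¹, hmem d d.2⟩ : Perm (Fin 4)) = σ * (e d : Perm (Fin 4)) * σ⁻¹ :=
    fun d => (hσ d d.2).2
  have hσ2 : σ * σ = 1 := by
    have key : ∀ x : ↥(alternatingGroup (Fin 4)), σ * σ * (x : Perm (Fin 4)) = (x : Perm (Fin 4)) * (σ * σ) := fun x => by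
      obtain ⟨⟨d, hd⟩, rfl⟩ := e.surjective x
      rw [← mul_inv_eq_iff_eq_mul, show σ * σ * (e ⟨d, hd⟩ : Perm (Fin 4)) * (σ * σ)⁻¹ =
        σ * (σ * (e ⟨d, hd⟩ : Perm (Fin 4)) * σ⁻¹) * σ⁻¹ by group, ← hσ' ⟨d, hd⟩, ← hσ']
      congr 2
      exact Subtype.ext (show s * (s * d * s⁻¹) * s⁻¹ = d by
        rw [hsinv, show s * (s * d * s) * s = s * s * d * (s * s) by group, hs, one_mul, mul_one])
    exact s4_centre _ (key a4u) (key a4c)
  have hodd : Perm.sign σ = -1 := by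
    rcases Int.units_eq_one_or (Perm.sign σ) with h1 | h1
    · exfalso
      set d₀ := e.symm ⟨σ, h1⟩ with hd₀
      have hed₀ : (e d₀ : Perm (Fin 4)) = σ := by rw [hd₀, e.apply_symm_apply]
      refine hno ((d₀ : G)⁻¹ * s) ?_ ?_ ?_ ?_
      · rw [mul_smul, hsa]; exact inv_smul_eq_iff.2 d₀.2.2.symm
      · rw [mul_smul, hsb]; exact inv_smul_eq_iff.2 d₀.2.1.symm
      all_goals
        have key : ∀ (d : G) (hd : d ∈ pairStab G a b), (d₀ : G)⁻¹ * s * d = d * ((d₀ : G)⁻¹ * s) := by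
          intro d hd
          have h2 : (⟨s * d * s⁻¹, hmem d hd⟩ : ↥(pairStab G a b)) = d₀ * ⟨d, hd⟩ * d₀⁻¹ := by
            refine e.injective (Subtype.ext ?_)
            rw [hσ' ⟨d, hd⟩, map_mul, map_mul, map_inv, Subgroup.coe_mul, Subgroup.coe_mul, Subgroup.coe_inv, hed₀]
          have h3 : s * d * s⁻¹ = (d₀ : G) * d * (d₀ : G)⁻¹ := congrArg Subtype.val h2
          rw [mul_assoc, show s * d = s * d * s⁻¹ * s by group, h3]
          group
        first | exact key u h.u_mem | exact key v h.v_mem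
    · exact h1
  have hσinv : σ⁻¹ = σ := inv_eq_of_mul_eq_one_right hσ2
  have hsq : ∀ d : ↥(pairStab G a b), s * (d : G) * (s * d) = 1 ↔
      σ * (e d : Perm (Fin 4)) * (σ * (e d : Perm (Fin 4))) = 1 := fun d => by
    have h1 : s * (d : G) * (s * d) = 1 ↔ (⟨s * (d : G) * s⁻¹, hmem d d.2⟩ : ↥(pairStab G a b)) * d = 1 := by
      rw [Subtype.ext_iff, Subgroup.coe_mul, Subgroup.coe_one]
      show _ ↔ s * (d : G) * s⁻¹ * d = 1
      rw [hsinv, mul_assoc (s * (d : G))]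
    rw [h1, show σ * (e d : Perm (Fin 4)) * (σ * (e d : Perm (Fin 4))) =
      σ * (e d : Perm (Fin 4)) * σ⁻¹ * (e d : Perm (Fin 4)) by rw [hσinv, mul_assoc (σ * _)], ← hσ' d,
      ← Subgroup.coe_mul, ← map_mul, OneMemClass.coe_eq_one, MulEquiv.map_eq_one_iff]
  have hcomm : ∀ d : ↥(pairStab G a b), s * (d : G) * u = u * (s * d) ↔
      σ * (e d : Perm (Fin 4)) * (a4u : Perm (Fin 4)) = (a4u : Perm (Fin 4)) * (σ * (e d : Perm (Fin 4))) := fun d => by
    have h1 : s * (d : G) * u = u * (s * d) ↔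
        (⟨s * (((d * ⟨u, h.u_mem⟩ * d⁻¹ : ↥(pairStab G a b))) : G) * s⁻¹, hmem _ (d * ⟨u, h.u_mem⟩ * d⁻¹).2⟩ :
          ↥(pairStab G a b)) = ⟨u, h.u_mem⟩ := by
      rw [Subtype.ext_iff]
      show _ ↔ s * ((d : G) * u * (d : G)⁻¹) * s⁻¹ = u
      rw [show s * ((d : G) * u * (d : G)⁻¹) * s⁻¹ = s * d * u * (s * d)⁻¹ by group, mul_inv_eq_iff_eq_mul]
    rw [h1, ← e.injective.eq_iff, Subtype.ext_iff, hσ', map_mul, map_mul, map_inv, e1, Subgroup.coe_mul,
      Subgroup.coe_mul, Subgroup.coe_inv, mul_inv_eq_iff_eq_mul]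
    constructor <;> intro h2
    · calc σ * (e d : Perm (Fin 4)) * (a4u : Perm (Fin 4))
          = σ * ((e d : Perm (Fin 4)) * (a4u : Perm (Fin 4)) * (e d : Perm (Fin 4))⁻¹) * (e d : Perm (Fin 4)) := by group
        _ = _ := by rw [h2, mul_assoc]
    · calc σ * ((e d : Perm (Fin 4)) * (a4u : Perm (Fin 4)) * (e d : Perm (Fin 4))⁻¹)
          = σ * (e d : Perm (Fin 4)) * (a4u : Perm (Fin 4)) * (e d : Perm (Fin 4))⁻¹ := by group
        _ = _ := by rw [h2]; group
  refine ⟨?_, ?_, fun d d' hd hd' => ?_⟩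
  · rw [← s4_odd_swappers σ hσ2 hodd, ← Fintype.card_coe, ← Nat.card_eq_fintype_card]
    exact Nat.card_congr (Equiv.trans (e.toEquiv.subtypeEquiv (q := fun p : ↥(alternatingGroup (Fin 4)) =>
      σ * (p : Perm (Fin 4)) * (σ * p) = 1) hsq) (Equiv.trans (Equiv.subtypeSubtypeEquivSubtypeInter
        (fun p : Perm (Fin 4) => p ∈ alternatingGroup (Fin 4)) (fun p => σ * p * (σ * p) = 1))
        (Equiv.subtypeEquivRight fun p => by
          simp only [Finset.mem_filter, Finset.mem_univ, true_and, Equiv.Perm.mem_alternatingGroup])))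
  · refine le_trans (le_of_eq ?_) (s4_odd_commuting σ hσ2 hodd)
    rw [← Fintype.card_coe, ← Nat.card_eq_fintype_card]
    exact Nat.card_congr (Equiv.trans (e.toEquiv.subtypeEquiv (q := fun p : ↥(alternatingGroup (Fin 4)) =>
      σ * (p : Perm (Fin 4)) * (σ * p) = 1 ∧
        σ * (p : Perm (Fin 4)) * (a4u : Perm (Fin 4)) = (a4u : Perm (Fin 4)) * (σ * p)) fun d =>
          and_congr (hsq d) (hcomm d)) (Equiv.trans (Equiv.subtypeSubtypeEquivSubtypeInter
        (fun p : Perm (Fin 4) => p ∈ alternatingGroup (Fin 4)) (fun p => σ * p * (σ * p) = 1 ∧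
          σ * p * (a4u : Perm (Fin 4)) = (a4u : Perm (Fin 4)) * (σ * p)))
        (Equiv.subtypeEquivRight fun p => by
          simp only [Finset.mem_filter, Finset.mem_univ, true_and, Equiv.Perm.mem_alternatingGroup])))
  · obtain ⟨k, hk⟩ := s4_odd_conj σ hσ2 hodd (e d) (e d') ((hsq d).1 hd) ((hsq d').1 hd')
    obtain ⟨g, rfl⟩ := e.surjective k
    refine ⟨g, g.2, ?_⟩
    have h1 : (⟨s * (g : G) * s⁻¹, hmem g g.2⟩ : ↥(pairStab G a b)) * d * g⁻¹ = d' := by
      refine e.injective (Subtype.ext ?_)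
      rw [map_mul, map_mul, map_inv, Subgroup.coe_mul, Subgroup.coe_mul, Subgroup.coe_inv, hσ' g]
      calc σ * (e g : Perm (Fin 4)) * σ⁻¹ * (e d : Perm (Fin 4)) * (e g : Perm (Fin 4))⁻¹
          = σ * ((e g : Perm (Fin 4)) * (σ * (e d : Perm (Fin 4))) * (e g : Perm (Fin 4))⁻¹) := by rw [hσinv]; group
        _ = σ * σ * (e d' : Perm (Fin 4)) := by rw [hk, mul_assoc]
        _ = _ := by rw [hσ2, one_mul]
    have h2 : s * (g : G) * s⁻¹ * (d : G) * (g : G)⁻¹ = d' := congrArg Subtype.val h1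
    calc (g : G) * (s * d) * (g : G)⁻¹ = s * s * ((g : G) * (s * d) * (g : G)⁻¹) := by rw [hs, one_mul]
      _ = s * (s * (g : G) * s⁻¹ * d * (g : G)⁻¹) := by rw [hsinv]; group
      _ = _ := by rw [h2]

end Four

end Cfsg.Agent.Perm.TwoStab
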