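import Mathlib

/-!
# Doubly transitive groups with a two-point stabiliser of prescribed involution structure

The two-point stabiliser has one class of involutions and the centraliser of an involution `u` in it is a four
group `{1, u, v, u v}`.  Then the centraliser of `u` is transitive on the pairs of fixed points of `u`, the
normaliser of the four group on those of the four group, and counting pairs relates the numbers of fixed points.
-/

set_option autoImplicit false
set_option linter.unusedSectionVars false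
set_option linter.style.haveILetI false

namespace Cfsg.Agent.Perm.TwoStab

open MulAction Subgroup

universe u₁ u₂

variable {G : Type u₁} [Group G] {Ω : Type u₂} [MulAction G Ω]

/-- The stabiliser of two points. -/
abbrev pairStab (G : Type u₁) [Group G] {Ω : Type u₂} [MulAction G Ω] (a b : Ω) : Subgroup G :=
  stabilizer G a ⊓ stabilizer G b

theorem mem_pairStab {a b : Ω} {g : G} : g ∈ pairStab G a b ↔ g • a = a ∧ g • b = b := Iff.rfl

/-- The fixed points of an element. -/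
def Fx (Ω : Type u₂) [MulAction G Ω] (x : G) : Set Ω := {c | x • c = c}

theorem mem_Fx {x : G} {c : Ω} : c ∈ Fx Ω x ↔ x • c = c := Iff.rfl

/-- The ordered pairs of distinct points of a set. -/
def offPairs (P : Set Ω) : Set (Ω × Ω) := {p | p.1 ≠ p.2 ∧ p.1 ∈ P ∧ p.2 ∈ P}

theorem card_offPairs [Finite Ω] (P : Set Ω) : Nat.card ↥(offPairs P) = Nat.card ↥P * (Nat.card ↥P - 1) := by
  classical
  haveI := Fintype.ofFinite ↥P
  let e : ↥(offPairs P) ≃ (Finset.univ : Finset ↥P).offDiag :=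
    { toFun := fun p => ⟨(⟨p.1.1, p.2.2.1⟩, ⟨p.1.2, p.2.2.2⟩), by
        simp only [Finset.mem_offDiag, Finset.mem_univ, true_and]
        exact fun e => p.2.1 (congrArg Subtype.val e)⟩
      invFun := fun q => ⟨(q.1.1.1, q.1.2.1), fun e => (Finset.mem_offDiag.1 q.2).2.2 (Subtype.ext e), q.1.1.2, q.1.2.2⟩
      left_inv := fun p => rfl
      right_inv := fun q => rfl }
  rw [Nat.card_congr e, Nat.card_eq_fintype_card, Fintype.card_coe, Finset.offDiag_card, Finset.card_univ,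
    Nat.card_eq_fintype_card, Nat.mul_sub_one]

/-- A subgroup transitive on a set of pairs. -/
theorem card_eq_pairs [Finite G] [Finite Ω] (H : Subgroup G) {a b : Ω} (S : Set (Ω × Ω)) (hab : (a, b) ∈ S)
    (hinv : ∀ h ∈ H, (h • a, h • b) ∈ S) (htr : ∀ p ∈ S, ∃ h ∈ H, (h • a, h • b) = p) :
    Nat.card ↥H = Nat.card ↥S * Nat.card ↥(H ⊓ pairStab G a b : Subgroup G) := by
  have hsurj : Function.Surjective (fun h : ↥H => (⟨((h : G) • a, (h : G) • b), hinv h h.2⟩ : ↥S)) := fun p => by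
    obtain ⟨h, hh, e⟩ := htr p p.2
    exact ⟨⟨h, hh⟩, Subtype.ext e⟩
  classical
  haveI := Fintype.ofFinite ↥S
  rw [← Nat.card_congr (Equiv.sigmaFiberEquiv fun h : ↥H => (⟨((h : G) • a, (h : G) • b), hinv h h.2⟩ : ↥S)),
    Nat.card_sigma]
  have hfib : ∀ p : ↥S, Nat.card {h : ↥H // (⟨((h : G) • a, (h : G) • b), hinv h h.2⟩ : ↥S) = p} =
      Nat.card ↥(H ⊓ pairStab G a b : Subgroup G) := fun p => by
    obtain ⟨⟨h₀, hh₀⟩, e₀⟩ := hsurj p
    have e1 : ((h₀ • a, h₀ • b) : Ω × Ω) = (p : Ω × Ω) := congrArg Subtype.val e₀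
    refine Nat.card_congr
      { toFun := fun h => ⟨h₀⁻¹ * (h.1 : G), ⟨H.mul_mem (H.inv_mem hh₀) h.1.2, ?_⟩⟩
        invFun := fun k => ⟨⟨h₀ * (k : G), H.mul_mem hh₀ k.2.1⟩, ?_⟩
        left_inv := fun h => Subtype.ext (Subtype.ext (mul_inv_cancel_left h₀ (h.1 : G)))
        right_inv := fun k => Subtype.ext (inv_mul_cancel_left h₀ (k : G)) }
    · have e2 := (congrArg Subtype.val h.2).trans e1.symm
      simp only [Prod.mk.injEq] at e2
      constructor
      · show (h₀⁻¹ * (h.1 : G)) • a = a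
        rw [mul_smul, e2.1, inv_smul_smul]
      · show (h₀⁻¹ * (h.1 : G)) • b = b
        rw [mul_smul, e2.2, inv_smul_smul]
    · refine Subtype.ext ?_
      show ((h₀ * (k : G)) • a, (h₀ * (k : G)) • b) = _
      rw [mul_smul, mul_smul, (mem_pairStab.1 k.2.2).1, (mem_pairStab.1 k.2.2).2, e1]
  simp_rw [hfib, Finset.sum_const, smul_eq_mul, Finset.card_univ, ← Nat.card_eq_fintype_card]

/-- Counting incidences between a class of elements and the pairs in an orbit. -/
theorem incidence [Finite G] [Finite Ω] (H : Subgroup G) {a b : Ω} (S : Set (Ω × Ω))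
    (hinv : ∀ h ∈ H, ∀ p ∈ S, (h • p.1, h • p.2) ∈ S) (htr : ∀ p ∈ S, ∃ h ∈ H, (h • a, h • b) = p)
    (X : Set G) (hX : ∀ h ∈ H, ∀ x ∈ X, h * x * h⁻¹ ∈ X) (R : G → Ω → Ω → Prop)
    (hR : ∀ h ∈ H, ∀ x c d, R x c d → R (h * x * h⁻¹) (h • c) (h • d))
    (m : ℕ) (hm : ∀ x ∈ X, Nat.card {p : ↥S // R x (p : Ω × Ω).1 (p : Ω × Ω).2} = m) :
    Nat.card ↥X * m = Nat.card ↥S * Nat.card {x : ↥X // R x a b} := by
  classical
  haveI := Fintype.ofFinite ↥S
  haveI := Fintype.ofFinite ↥X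
  have h1 : Nat.card (Σ x : ↥X, {p : ↥S // R x (p : Ω × Ω).1 (p : Ω × Ω).2}) = Nat.card ↥X * m := by
    rw [Nat.card_sigma, Finset.sum_congr rfl (fun (x : ↥X) _ => hm x x.2), Finset.sum_const, smul_eq_mul, Finset.card_univ,
      ← Nat.card_eq_fintype_card]
  have h2 : Nat.card (Σ p : ↥S, {x : ↥X // R x (p : Ω × Ω).1 (p : Ω × Ω).2}) =
      Nat.card ↥S * Nat.card {x : ↥X // R x a b} := by
    rw [Nat.card_sigma, Finset.sum_congr rfl (fun (p : ↥S) _ => ?_), Finset.sum_const, smul_eq_mul, Finset.card_univ,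
      ← Nat.card_eq_fintype_card]
    obtain ⟨h, hh, e⟩ := htr p p.2
    rw [← e]
    refine Nat.card_congr
      { toFun := fun x => ⟨⟨h⁻¹ * (x.1 : G) * h, by simpa using hX h⁻¹ (H.inv_mem hh) x.1 x.1.2⟩, by
          simpa using hR h⁻¹ (H.inv_mem hh) x.1 _ _ x.2⟩
        invFun := fun x => ⟨⟨h * (x.1 : G) * h⁻¹, hX h hh x.1 x.1.2⟩, hR h hh x.1 _ _ x.2⟩
        left_inv := fun x => Subtype.ext (Subtype.ext (show h * (h⁻¹ * (x.1 : G) * h) * h⁻¹ = x.1 by group))
        right_inv := fun x => Subtype.ext (Subtype.ext (show h⁻¹ * (h * (x.1 : G) * h⁻¹) * h = x.1 by group)) }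
  rw [← h1, ← h2]
  exact Nat.card_congr
    { toFun := fun q => ⟨q.2.1, q.1, q.2.2⟩
      invFun := fun q => ⟨q.2.1, q.1, q.2.2⟩
      left_inv := fun q => rfl
      right_inv := fun q => rfl }

/-- The pairs interchanged by an involution inside an invariant set correspond to the points it moves. -/
theorem card_swapped [Finite Ω] {x : G} (hx : x * x = 1) (P : Set Ω) (hP : ∀ c ∈ P, x • c ∈ P) :
    Nat.card {p : ↥(offPairs P) // x • (p : Ω × Ω).1 = (p : Ω × Ω).2} =
      Nat.card ↥P - Nat.card ↥(P ∩ Fx Ω x) := by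
  classical
  have h : Nat.card ↥(P \ Fx Ω x) = Nat.card ↥P - Nat.card ↥(P ∩ Fx Ω x) := by
    rw [← Set.sdiff_inter_self_eq_sdiff, Set.inter_comm (Fx Ω x) P]
    simp only [Nat.card_coe_set_eq]
    exact Set.ncard_sdiff Set.inter_subset_left (Set.toFinite _)
  rw [← h]
  refine Nat.card_congr
    { toFun := fun p => ⟨(p.1 : Ω × Ω).1, p.1.2.2.1, fun e => p.1.2.1 ((mem_Fx.1 e).symm.trans p.2)⟩
      invFun := fun c => ⟨⟨((c : Ω), x • (c : Ω)), fun e => c.2.2 (mem_Fx.2 e.symm), c.2.1, hP c c.2.1⟩, rfl⟩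
      left_inv := fun p => Subtype.ext (Subtype.ext (Prod.ext rfl p.2))
      right_inv := fun c => rfl }

theorem smul_swap {x : G} (hx : x * x = 1) {c d : Ω} (h : x • c = d) : x • d = c := by
  rw [← h, smul_smul, hx, one_smul]

/-- The fixed pairs of an element inside a set. -/
theorem card_fixedPairs [Finite Ω] (x : G) (P : Set Ω) :
    Nat.card {p : ↥(offPairs P) // x • (p : Ω × Ω).1 = (p : Ω × Ω).1 ∧ x • (p : Ω × Ω).2 = (p : Ω × Ω).2} =
      Nat.card ↥(P ∩ Fx Ω x) * (Nat.card ↥(P ∩ Fx Ω x) - 1) := by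
  rw [← card_offPairs (P ∩ Fx Ω x)]
  exact Nat.card_congr
    { toFun := fun p => ⟨p.1, p.1.2.1, ⟨p.1.2.2.1, p.2.1⟩, ⟨p.1.2.2.2, p.2.2⟩⟩
      invFun := fun p => ⟨⟨p, p.2.1, p.2.2.1.1, p.2.2.2.1⟩, p.2.2.1.2, p.2.2.2.2⟩
      left_inv := fun p => rfl
      right_inv := fun p => rfl }

/-- The hypotheses on the two-point stabiliser. -/
structure Cfg (G : Type u₁) [Group G] {Ω : Type u₂} [MulAction G Ω] (a b : Ω) (u v : G) : Prop where
  two : IsMultiplyPretransitive G Ω 2
  faithful : ∀ g : G, (∀ x : Ω, g • x = x) → g = 1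
  ne : a ≠ b
  u_mem : u ∈ pairStab G a b
  v_mem : v ∈ pairStab G a b
  u_ord : orderOf u = 2
  v_ord : orderOf v = 2
  comm : u * v = v * u
  ne_uv : u ≠ v
  conj : ∀ x ∈ pairStab G a b, orderOf x = 2 → ∃ d ∈ pairStab G a b, d * x * d⁻¹ = u
  cent : ∀ x ∈ pairStab G a b, x * u = u * x → x = 1 ∨ x = u ∨ x = v ∨ x = u * v

/-- The four group of two elements. -/
abbrev four (u v : G) : Subgroup G := closure ({u, v} : Set G)

theorem orderOf_two_iff {x : G} : orderOf x = 2 ↔ x * x = 1 ∧ x ≠ 1 := by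
  rw [← pow_two]; exact orderOf_eq_prime_iff

namespace Cfg

variable {a b : Ω} {u v : G} (h : Cfg G a b u v)
include h

theorem uu : u * u = 1 := (orderOf_two_iff.1 h.u_ord).1
theorem vv : v * v = 1 := (orderOf_two_iff.1 h.v_ord).1
theorem u_ne : u ≠ 1 := (orderOf_two_iff.1 h.u_ord).2
theorem v_ne : v ≠ 1 := (orderOf_two_iff.1 h.v_ord).2
theorem uv_ne : u * v ≠ 1 := fun e => h.ne_uv (by
  rw [mul_eq_one_iff_eq_inv] at e
  rw [e]; exact inv_eq_of_mul_eq_one_right h.vv)

theorem u_a : u • a = a := h.u_mem.1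
theorem u_b : u • b = b := h.u_mem.2
theorem v_a : v • a = a := h.v_mem.1
theorem v_b : v • b = b := h.v_mem.2

theorem mem_four {x : G} : x ∈ four u v ↔ x = 1 ∨ x = u ∨ x = v ∨ x = u * v := by
  refine ⟨fun hx => ?_, fun hx => ?_⟩
  · induction hx using closure_induction with
    | mem x hx => rcases hx with rfl | rfl <;> simp
    | one => simp
    | mul x y _ _ hx hy =>
      have huu := h.uu; have hvv := h.vv; have hc := h.comm
      have e1 : u * (u * v) = v := by rw [← mul_assoc, huu, one_mul]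
      have e2 : v * (u * v) = u := by rw [hc, ← mul_assoc, hvv, one_mul]
      have e3 : u * v * v = u := by rw [mul_assoc, hvv, mul_one]
      have e4 : u * v * u = v := by rw [mul_assoc, ← hc, e1]
      have e5 : u * v * (u * v) = 1 := by rw [mul_assoc, e2, huu]
      rcases hx with rfl | rfl | rfl | rfl <;> rcases hy with rfl | rfl | rfl | rfl <;>
        simp [huu, hvv, hc.symm, e1, e2, e3, e4, e5]
    | inv x _ hx =>
      have hu := inv_eq_of_mul_eq_one_right h.uu; have hv := inv_eq_of_mul_eq_one_right h.vv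
      rcases hx with rfl | rfl | rfl | rfl
      · simp
      · simp [hu]
      · simp [hv]
      · simp [hu, hv, h.comm]
  · have hu : u ∈ four u v := subset_closure (by simp)
    have hv : v ∈ four u v := subset_closure (by simp)
    rcases hx with rfl | rfl | rfl | rfl
    exacts [one_mem _, hu, hv, mul_mem hu hv]

theorem four_le : four u v ≤ pairStab G a b :=
  (closure_le _).2 (Set.insert_subset h.u_mem (Set.singleton_subset_iff.2 h.v_mem))

theorem four_sq {x : G} (hx : x ∈ four u v) : x * x = 1 := by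
  rcases h.mem_four.1 hx with rfl | rfl | rfl | rfl
  · simp
  · exact h.uu
  · exact h.vv
  · rw [mul_assoc, ← mul_assoc v, ← h.comm, mul_assoc u v v, h.vv, mul_one, h.uu]

theorem four_comm {x y : G} (hx : x ∈ four u v) (hy : y ∈ four u v) : x * y = y * x := by
  have h1 := h.four_sq (mul_mem hx hy)
  rw [mul_eq_one_iff_eq_inv, mul_inv_rev, inv_eq_of_mul_eq_one_right (h.four_sq hx),
    inv_eq_of_mul_eq_one_right (h.four_sq hy)] at h1
  exact h1

theorem card_four : Nat.card ↥(four u v) = 4 := by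
  classical
  rw [Nat.card_congr (Equiv.subtypeEquivRight (fun x => h.mem_four.trans
    (show (x = 1 ∨ x = u ∨ x = v ∨ x = u * v) ↔ x ∈ ({1, u, v, u * v} : Finset G) by simp))),
    Nat.card_eq_fintype_card, Fintype.card_coe, Finset.card_insert_of_notMem, Finset.card_insert_of_notMem,
    Finset.card_insert_of_notMem, Finset.card_singleton]
  · simp only [Finset.mem_singleton]
    intro e
    exact h.u_ne (mul_right_cancel (b := v) (by rw [one_mul]; exact e.symm))
  · simp only [Finset.mem_insert, Finset.mem_singleton]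
    rintro (e | e)
    · exact h.ne_uv e
    · exact h.v_ne (mul_left_cancel (a := u) (by rw [mul_one]; exact e.symm))
  · simp only [Finset.mem_insert, Finset.mem_singleton]
    rintro (e | e | e)
    exacts [h.u_ne e.symm, h.v_ne e.symm, h.uv_ne e.symm]

theorem pair_move {c d : Ω} (hcd : c ≠ d) : ∃ g : G, g • c = a ∧ g • d = b :=
  (is_two_pretransitive_iff.1 h.two) hcd h.ne

/-- An involution fixing two points is conjugate to `u`. -/
theorem conj_u {x : G} (hx : orderOf x = 2) {c d : Ω} (hcd : c ≠ d) (hc : x • c = c) (hd : x • d = d) :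
    ∃ g : G, g • c = a ∧ g • d = b ∧ g * x * g⁻¹ = u := by
  obtain ⟨g, h1, h2⟩ := h.pair_move hcd
  have hm : g * x * g⁻¹ ∈ pairStab G a b := by
    constructor
    · show (g * x * g⁻¹) • a = a
      rw [mul_smul, mul_smul, ← h1, inv_smul_smul, hc]
    · show (g * x * g⁻¹) • b = b
      rw [mul_smul, mul_smul, ← h2, inv_smul_smul, hd]
  obtain ⟨d', hd', e⟩ := h.conj _ hm (by rw [← MulAut.conj_apply, MulEquiv.orderOf_eq, hx])
  refine ⟨d' * g, by rw [mul_smul, h1, hd'.1], by rw [mul_smul, h2, hd'.2], ?_⟩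
  rw [← e]; group

theorem cent_u_pairs {c d : Ω} (hcd : c ≠ d) (hc : u • c = c) (hd : u • d = d) :
    ∃ g ∈ centralizer ({u} : Set G), g • c = a ∧ g • d = b := by
  obtain ⟨g, h1, h2, h3⟩ := h.conj_u h.u_ord hcd hc hd
  exact ⟨g, mem_centralizer_singleton_iff.2 (mul_inv_eq_iff_eq_mul.1 h3), h1, h2⟩

theorem cent_inf : centralizer ({u} : Set G) ⊓ pairStab G a b = four u v := by
  refine le_antisymm (fun x hx => h.mem_four.2 (h.cent x hx.2 (mem_centralizer_singleton_iff.1 hx.1))) ?_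
  refine le_inf ((closure_le _).2 (Set.insert_subset (mem_centralizer_singleton_iff.2 rfl) ?_)) h.four_le
  exact Set.singleton_subset_iff.2 (mem_centralizer_singleton_iff.2 h.comm.symm)

/-- `|C(u)| = 4 f (f - 1)`. -/
theorem card_cent [Finite G] [Finite Ω] :
    Nat.card ↥(centralizer ({u} : Set G)) = 4 * (Nat.card ↥(Fx Ω u) * (Nat.card ↥(Fx Ω u) - 1)) := by
  rw [card_eq_pairs (centralizer ({u} : Set G)) (a := a) (b := b) (offPairs (Fx Ω u)) ⟨h.ne, h.u_a, h.u_b⟩
    (fun g hg => ?_) (fun p hp => ?_), card_offPairs, h.cent_inf, h.card_four, mul_comm]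
  · have hg' := mem_centralizer_singleton_iff.1 hg
    refine ⟨fun e => h.ne (smul_left_cancel g e), ?_, ?_⟩
    · show u • g • a = g • a
      rw [← mul_smul, ← hg', mul_smul, h.u_a]
    · show u • g • b = g • b
      rw [← mul_smul, ← hg', mul_smul, h.u_b]
  · obtain ⟨g, hg, h1, h2⟩ := h.cent_u_pairs hp.1 hp.2.1 hp.2.2
    exact ⟨g⁻¹, inv_mem hg, Prod.ext (inv_smul_eq_iff.2 h1.symm) (inv_smul_eq_iff.2 h2.symm)⟩

theorem card_group [Finite G] [Finite Ω] :
    Nat.card G = Nat.card Ω * (Nat.card Ω - 1) * Nat.card ↥(pairStab G a b) := by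
  have h1 := card_eq_pairs (⊤ : Subgroup G) (a := a) (b := b) (offPairs (Set.univ : Set Ω))
    ⟨h.ne, trivial, trivial⟩ (fun g _ => ⟨fun e => h.ne (smul_left_cancel g e), trivial, trivial⟩) fun p hp => by
    obtain ⟨g, h1, h2⟩ := h.pair_move hp.1
    exact ⟨g⁻¹, mem_top _, Prod.ext (inv_smul_eq_iff.2 h1.symm) (inv_smul_eq_iff.2 h2.symm)⟩
  rwa [Subgroup.card_top, top_inf_eq, card_offPairs, Nat.card_congr (Equiv.Set.univ Ω)] at h1

/-- All involutions of the stabiliser have four group centralisers. -/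
theorem cent_of_mem {x y : G} (hx : x ∈ four u v) (hx1 : x ≠ 1) (hy : y ∈ pairStab G a b)
    (hxy : y * x = x * y) : y ∈ four u v := by
  obtain ⟨d, hd, e⟩ := h.conj x (h.four_le hx) (orderOf_two_iff.2 ⟨h.four_sq hx, hx1⟩)
  have key : ∀ z ∈ pairStab G a b, z * x = x * z → d * z * d⁻¹ ∈ four u v := fun z hz hzx => by
    refine h.mem_four.2 (h.cent _ (mul_mem (mul_mem hd hz) (inv_mem hd)) ?_)
    rw [← e, show d * z * d⁻¹ * (d * x * d⁻¹) = d * (z * x) * d⁻¹ by group, hzx]
    group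
  -- conjugation by `d` maps the four group onto itself
  have hinj : Function.Injective fun z : ↥(four u v) =>
      (⟨d * (z : G) * d⁻¹, key z (h.four_le z.2) (h.four_comm z.2 hx)⟩ : ↥(four u v)) := fun z z' e' =>
    Subtype.ext (mul_left_cancel (mul_right_cancel (congrArg Subtype.val e')))
  haveI : Finite ↥(four u v) := Nat.finite_of_card_ne_zero (by rw [h.card_four]; norm_num)
  obtain ⟨⟨z, hz⟩, ez⟩ := (Finite.injective_iff_surjective.1 hinj) ⟨_, key y hy hxy⟩
  have e' : z = y := mul_left_cancel (mul_right_cancel (congrArg Subtype.val ez))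
  exact e' ▸ hz

/-- Elements of the four group are permuted transitively by the stabiliser. -/
theorem four_trans {x : G} (hx : x ∈ four u v) (hx1 : x ≠ 1) :
    ∃ d ∈ pairStab G a b, d * x * d⁻¹ = u ∧ ∀ y ∈ four u v, d * y * d⁻¹ ∈ four u v := by
  obtain ⟨d, hd, e⟩ := h.conj x (h.four_le hx) (orderOf_two_iff.2 ⟨h.four_sq hx, hx1⟩)
  refine ⟨d, hd, e, fun y hy => h.mem_four.2 (h.cent _ (mul_mem (mul_mem hd (h.four_le hy)) (inv_mem hd)) ?_)⟩
  rw [← e, show d * y * d⁻¹ * (d * x * d⁻¹) = d * (y * x) * d⁻¹ by group, h.four_comm hy hx]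
  group

theorem fx_u_ge [Finite Ω] : 2 ≤ Nat.card ↥(Fx Ω u) := by
  classical
  haveI : Nontrivial ↥(Fx Ω u) := ⟨⟨a, h.u_a⟩, ⟨b, h.u_b⟩, fun e => h.ne (congrArg Subtype.val e)⟩
  exact Finite.one_lt_card

theorem fx_v_ge [Finite Ω] : 2 ≤ Nat.card ↥(Fx Ω u ∩ Fx Ω v) := by
  classical
  haveI : Nontrivial ↥(Fx Ω u ∩ Fx Ω v) :=
    ⟨⟨a, h.u_a, h.v_a⟩, ⟨b, h.u_b, h.v_b⟩, fun e => h.ne (congrArg Subtype.val e)⟩
  exact Finite.one_lt_card

/-- Common fixed points of the four group. -/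
theorem four_fix {c : Ω} (hc : c ∈ Fx Ω u ∩ Fx Ω v) {x : G} (hx : x ∈ four u v) : x • c = c := by
  rcases h.mem_four.1 hx with rfl | rfl | rfl | rfl
  · exact one_smul _ _
  · exact hc.1
  · exact hc.2
  · rw [mul_smul, hc.2]; exact hc.1

/-- The normaliser of the four group is transitive on pairs of its fixed points. -/
theorem norm_pairs {c d : Ω} (hcd : c ≠ d) (hc : c ∈ Fx Ω u ∩ Fx Ω v) (hd : d ∈ Fx Ω u ∩ Fx Ω v) :
    ∃ g : G, g • c = a ∧ g • d = b ∧ g * u * g⁻¹ = u ∧ ∀ x ∈ four u v, g * x * g⁻¹ ∈ four u v := by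
  obtain ⟨g, h1, h2, h3⟩ := h.conj_u h.u_ord hcd hc.1 hd.1
  refine ⟨g, h1, h2, h3, fun x hx => h.mem_four.2 (h.cent _ ⟨?_, ?_⟩ ?_)⟩
  · show (g * x * g⁻¹) • a = a
    rw [mul_smul, mul_smul, ← h1, inv_smul_smul, h.four_fix hc hx]
  · show (g * x * g⁻¹) • b = b
    rw [mul_smul, mul_smul, ← h2, inv_smul_smul, h.four_fix hd hx]
  · calc g * x * g⁻¹ * u = g * x * g⁻¹ * (g * u * g⁻¹) := by rw [h3]
      _ = g * (x * u) * g⁻¹ := by group
      _ = g * (u * x) * g⁻¹ := by rw [h.four_comm hx ((h.mem_four).2 (Or.inr (Or.inl rfl)))]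
      _ = g * u * g⁻¹ * (g * x * g⁻¹) := by group
      _ = _ := by rw [h3]

end Cfg

end Cfsg.Agent.Perm.TwoStab
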