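import Cfsg.Agent.Lib.Perm.TwoStab.AltFive

/-!
# Counting pairs

The class `U` of the involutions with two fixed points gives the degree in terms of the number of fixed points of
one of them; inside the centraliser of such an involution the same count relates the fixed points of the four group.
-/

set_option autoImplicit false
set_option linter.unusedSectionVars false
set_option linter.style.haveILetI false

namespace Cfsg.Agent.Perm.TwoStab

open MulAction Subgroup

universe u₁ u₂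

variable {G : Type u₁} [Group G] {Ω : Type u₂} [MulAction G Ω] {a b : Ω} {u v : G}

/-- The class of the involutions fixing two points. -/
def cls (u : G) : Set G := {x | ∃ g : G, g * x * g⁻¹ = u}

theorem cls_conj (g : G) {x : G} (hx : x ∈ cls u) : g * x * g⁻¹ ∈ cls u := by
  obtain ⟨k, hk⟩ := hx
  exact ⟨k * g⁻¹, by rw [← hk]; group⟩

theorem cls_conj_iff (g x : G) : g * x * g⁻¹ ∈ cls u ↔ x ∈ cls u :=
  ⟨fun h => by simpa [mul_assoc] using cls_conj g⁻¹ h, cls_conj g⟩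

namespace Cfg

variable (h : Cfg G a b u v)
include h

theorem cls_ord {x : G} (hx : x ∈ cls u) : orderOf x = 2 := by
  obtain ⟨g, hg⟩ := hx
  rw [← h.u_ord, ← hg, ← MulAut.conj_apply, MulEquiv.orderOf_eq]

theorem cls_sq {x : G} (hx : x ∈ cls u) : x * x = 1 := (orderOf_two_iff.1 (h.cls_ord hx)).1

theorem mem_cls_of_fix {x : G} (hx : orderOf x = 2) {c d : Ω} (hcd : c ≠ d) (hc : x • c = c) (hd : x • d = d) :
    x ∈ cls u := by
  obtain ⟨g, -, -, e⟩ := h.conj_u hx hcd hc hd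
  exact ⟨g, e⟩

theorem cls_four {x : G} (hx : x ∈ four u v) (hx1 : x ≠ 1) : x ∈ cls u :=
  h.mem_cls_of_fix (orderOf_two_iff.2 ⟨h.four_sq hx, hx1⟩) h.ne (h.four_le hx).1 (h.four_le hx).2

/-- An involution is conjugate to one interchanging the two points. -/
theorem exists_conj_swap {x : G} (hx : orderOf x = 2) : ∃ g : G, (g * x * g⁻¹) • a = b ∧ (g * x * g⁻¹) • b = a := by
  obtain ⟨c, hc⟩ : ∃ c : Ω, x • c ≠ c := by
    by_contra hall
    push Not at hall
    exact (orderOf_two_iff.1 hx).2 (h.faithful x hall)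
  obtain ⟨g, h1, h2⟩ := h.pair_move (fun e => hc e.symm)
  have key : (g * x * g⁻¹) • a = b := by rw [← h1, mul_smul, mul_smul, inv_smul_smul, h2]
  exact ⟨g, key, smul_swap (orderOf_two_iff.1 (by rw [← MulAut.conj_apply, MulEquiv.orderOf_eq, hx])).1 key⟩

theorem fx_conj [Finite Ω] {x : G} (hx : x ∈ cls u) : Nat.card ↥(Fx Ω x) = Nat.card ↥(Fx Ω u) := by
  obtain ⟨g, hg⟩ := hx
  refine Nat.card_congr ((MulAction.toPerm g).subtypeEquiv fun c => ?_)
  show x • c = c ↔ u • g • c = g • c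
  rw [← hg, mul_smul, mul_smul, inv_smul_smul, smul_left_cancel_iff]

/-- The first count: involutions of `U` fixing pairs. -/
theorem cls_count_fix [Finite G] [Finite Ω] :
    Nat.card ↥(cls u) * (Nat.card ↥(Fx Ω u) * (Nat.card ↥(Fx Ω u) - 1)) =
      Nat.card Ω * (Nat.card Ω - 1) * Nat.card {x : ↥(pairStab G a b) // x * x = 1 ∧ x ≠ 1} := by
  have h1 := incidence (⊤ : Subgroup G) (a := a) (b := b) (offPairs (Set.univ : Set Ω))
    (fun g _ p hp => ⟨fun e => hp.1 (smul_left_cancel g e), trivial, trivial⟩)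
    (fun p hp => by
      obtain ⟨g, h1, h2⟩ := h.pair_move hp.1
      exact ⟨g⁻¹, mem_top _, Prod.ext (inv_smul_eq_iff.2 h1.symm) (inv_smul_eq_iff.2 h2.symm)⟩)
    (cls u) (fun g _ x hx => cls_conj g hx) (fun x c d => x • c = c ∧ x • d = d)
    (fun g _ x c d hx => ⟨by rw [mul_smul, mul_smul, inv_smul_smul, hx.1],
      by rw [mul_smul, mul_smul, inv_smul_smul, hx.2]⟩)
    _ (fun x hx => by rw [card_fixedPairs, Set.univ_inter, h.fx_conj hx])
  rw [card_offPairs, Nat.card_congr (Equiv.Set.univ Ω)] at h1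
  rw [h1]
  congr 1
  refine Nat.card_congr
    { toFun := fun x => ⟨⟨(x.1 : G), x.2.1, x.2.2⟩, Subtype.ext (h.cls_sq x.1.2), fun e =>
        (orderOf_two_iff.1 (h.cls_ord x.1.2)).2 (congrArg Subtype.val e)⟩
      invFun := fun x => ⟨⟨(x.1 : G), h.mem_cls_of_fix (orderOf_two_iff.2 ⟨congrArg Subtype.val x.2.1,
        fun e => x.2.2 (Subtype.ext e)⟩) h.ne x.1.2.1 x.1.2.2⟩, x.1.2.1, x.1.2.2⟩
      left_inv := fun x => rfl
      right_inv := fun x => rfl }

/-- The second count: involutions of `U` interchanging pairs. -/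
theorem cls_count_swap [Finite G] [Finite Ω] :
    Nat.card ↥(cls u) * (Nat.card Ω - Nat.card ↥(Fx Ω u)) =
      Nat.card Ω * (Nat.card Ω - 1) * Nat.card {x : ↥(cls u) // (x : G) • a = b} := by
  have h1 := incidence (⊤ : Subgroup G) (a := a) (b := b) (offPairs (Set.univ : Set Ω))
    (fun g _ p hp => ⟨fun e => hp.1 (smul_left_cancel g e), trivial, trivial⟩)
    (fun p hp => by
      obtain ⟨g, h1, h2⟩ := h.pair_move hp.1
      exact ⟨g⁻¹, mem_top _, Prod.ext (inv_smul_eq_iff.2 h1.symm) (inv_smul_eq_iff.2 h2.symm)⟩)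
    (cls u) (fun g _ x hx => cls_conj g hx) (fun x c d => x • c = d)
    (fun g _ x c d hx => by rw [mul_smul, mul_smul, inv_smul_smul, hx])
    _ (fun x hx => by
      rw [card_swapped (h.cls_sq hx) Set.univ (fun c _ => trivial), Set.univ_inter, h.fx_conj hx])
  rw [card_offPairs, Nat.card_congr (Equiv.Set.univ Ω)] at h1
  exact h1

/-- The degree in terms of the fixed points of `u`. -/
theorem degree_eq [Finite G] [Finite Ω] :
    (Nat.card Ω - Nat.card ↥(Fx Ω u)) * Nat.card {x : ↥(pairStab G a b) // x * x = 1 ∧ x ≠ 1} =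
      Nat.card {x : ↥(cls u) // (x : G) • a = b} * (Nat.card ↥(Fx Ω u) * (Nat.card ↥(Fx Ω u) - 1)) := by
  have h1 := h.cls_count_fix
  have h2 := h.cls_count_swap
  haveI : Nonempty Ω := ⟨a⟩
  have hU : 0 < Nat.card ↥(cls u) := by
    haveI : Nonempty ↥(cls u) := ⟨⟨u, 1, by simp⟩⟩
    exact Nat.card_pos
  refine Nat.eq_of_mul_eq_mul_left hU ?_
  rw [← mul_assoc, h2, mul_comm (Nat.card {x : ↥(cls u) // (x : G) • a = b}) (_ * (_ - 1)), ← mul_assoc, h1]
  ring

theorem fx_le [Finite Ω] : Nat.card ↥(Fx Ω u) ≤ Nat.card Ω :=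
  Nat.card_le_card_of_injective (fun c : ↥(Fx Ω u) => (c : Ω)) Subtype.val_injective

theorem fx_lt [Finite Ω] : Nat.card ↥(Fx Ω u) < Nat.card Ω := by
  refine lt_of_le_of_ne h.fx_le fun e => h.u_ne (h.faithful u fun c => ?_)
  have h1 : Fx Ω u = Set.univ := Set.eq_of_subset_of_ncard_le (Set.subset_univ _)
    (by rw [Set.ncard_univ, ← Nat.card_coe_set_eq, e])
  exact (h1 ▸ Set.mem_univ c : c ∈ Fx Ω u)

/-- The elements of the centraliser of `u` conjugate in it to `v` or `u v`. -/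
def cls₂ (u v : G) : Set G := {x | ∃ g : G, g * u = u * g ∧ (g * x * g⁻¹ = v ∨ g * x * g⁻¹ = u * v)}

omit h in
theorem cls₂_conj {g : G} (hg : g * u = u * g) {x : G} (hx : x ∈ cls₂ u v) : g * x * g⁻¹ ∈ cls₂ u v := by
  obtain ⟨k, hk, e⟩ := hx
  have hgi : Commute g⁻¹ u := (show Commute g u from hg).inv_left
  refine ⟨k * g⁻¹, ((show Commute k u from hk).mul_left hgi).eq, ?_⟩
  rw [show k * g⁻¹ * (g * x * g⁻¹) * (k * g⁻¹)⁻¹ = k * x * k⁻¹ by group]
  exact e

theorem cls₂_props {x : G} (hx : x ∈ cls₂ u v) : x * x = 1 ∧ x * u = u * x ∧ x ∈ cls u ∧ x * u ∈ cls₂ u v := by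
  obtain ⟨g, hg, e⟩ := hx
  have hyV : g * x * g⁻¹ ∈ four u v := by
    rcases e with e | e <;> rw [e] <;> exact h.mem_four.2 (by simp)
  have hy1 : g * x * g⁻¹ ≠ 1 := by
    rcases e with e | e <;> rw [e]
    exacts [h.v_ne, h.uv_ne]
  have hxe : x = g⁻¹ * (g * x * g⁻¹) * g := by group
  have hsq := h.four_sq hyV
  have hcu := h.four_comm hyV (h.mem_four.2 (Or.inr (Or.inl rfl)))
  have hgu : g * u * g⁻¹ = u := by rw [hg]; group
  refine ⟨?_, ?_, (cls_conj_iff g x).1 (h.cls_four hyV hy1), ⟨g, hg, ?_⟩⟩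
  · calc x * x = g⁻¹ * ((g * x * g⁻¹) * (g * x * g⁻¹)) * g := by group
      _ = 1 := by rw [hsq]; group
  · calc x * u = g⁻¹ * ((g * x * g⁻¹) * (g * u * g⁻¹)) * g := by group
      _ = g⁻¹ * ((g * u * g⁻¹) * (g * x * g⁻¹)) * g := by rw [hgu, hcu]
      _ = _ := by group
  · rw [show g * (x * u) * g⁻¹ = (g * x * g⁻¹) * (g * u * g⁻¹) by group, hgu]
    rcases e with e | e
    · exact Or.inr (by rw [e, h.comm])
    · exact Or.inl (by rw [e, mul_assoc, ← h.comm, ← mul_assoc, h.uu, one_mul])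

theorem v_mem_cls₂ : v ∈ cls₂ u v := ⟨1, by simp, Or.inl (by simp)⟩

theorem fx_cls₂ [Finite Ω] {x : G} (hx : x ∈ cls₂ u v) :
    Nat.card ↥(Fx Ω u ∩ Fx Ω x) = Nat.card ↥(Fx Ω u ∩ Fx Ω v) := by
  obtain ⟨g, hg, e⟩ := hx
  refine Nat.card_congr ((MulAction.toPerm g).subtypeEquiv fun c => ?_)
  show (u • c = c ∧ x • c = c) ↔ (u • g • c = g • c ∧ v • g • c = g • c)
  have h1 : u • g • c = g • c ↔ u • c = c := by rw [← mul_smul, ← hg, mul_smul, smul_left_cancel_iff]
  have h2 : (g * x * g⁻¹) • g • c = g • c ↔ x • c = c := by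
    rw [mul_smul, mul_smul, inv_smul_smul, smul_left_cancel_iff]
  rw [h1, ← h2]
  rcases e with e | e <;> rw [e]
  constructor
  · rintro ⟨h3, h4⟩
    refine ⟨h3, ?_⟩
    rw [← h1] at h3
    rw [mul_smul] at h4
    calc v • g • c = u • u • v • g • c := by rw [smul_smul u u, h.uu, one_smul]
      _ = u • g • c := by rw [h4]
      _ = _ := h3
  · rintro ⟨h3, h4⟩
    exact ⟨h3, by rw [mul_smul, h4]; exact h1.2 h3⟩

/-- Counting inside the centraliser of `u`: `2 (f - g) = j g (g - 1)`, where `j` elements interchange the points. -/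
theorem local_eq [Finite G] [Finite Ω] :
    2 * (Nat.card ↥(Fx Ω u) - Nat.card ↥(Fx Ω u ∩ Fx Ω v)) =
      Nat.card {x : ↥(cls₂ u v) // (x : G) • a = b} *
        (Nat.card ↥(Fx Ω u ∩ Fx Ω v) * (Nat.card ↥(Fx Ω u ∩ Fx Ω v) - 1)) := by
  classical
  set S := offPairs (Fx Ω u) with hS
  have hinv : ∀ g ∈ centralizer ({u} : Set G), ∀ p ∈ S, (g • p.1, g • p.2) ∈ S := fun g hg p hp => by
    have hg' := mem_centralizer_singleton_iff.1 hg
    refine ⟨fun e => hp.1 (smul_left_cancel g e), ?_, ?_⟩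
    · show u • g • p.1 = g • p.1
      rw [← mul_smul, ← hg', mul_smul]; exact congrArg _ hp.2.1
    · show u • g • p.2 = g • p.2
      rw [← mul_smul, ← hg', mul_smul]; exact congrArg _ hp.2.2
  have htr : ∀ p ∈ S, ∃ g ∈ centralizer ({u} : Set G), (g • a, g • b) = p := fun p hp => by
    obtain ⟨g, hg, h1, h2⟩ := h.cent_u_pairs hp.1 hp.2.1 hp.2.2
    exact ⟨g⁻¹, inv_mem hg, Prod.ext (inv_smul_eq_iff.2 h1.symm) (inv_smul_eq_iff.2 h2.symm)⟩
  have hX : ∀ g ∈ centralizer ({u} : Set G), ∀ x ∈ cls₂ u v, g * x * g⁻¹ ∈ cls₂ u v :=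
    fun g hg x hx => cls₂_conj (mem_centralizer_singleton_iff.1 hg) hx
  have hfix := incidence (centralizer ({u} : Set G)) S hinv htr (cls₂ u v) hX (fun x c d => x • c = c ∧ x • d = d)
    (fun g _ x c d hx => ⟨by rw [mul_smul, mul_smul, inv_smul_smul, hx.1],
      by rw [mul_smul, mul_smul, inv_smul_smul, hx.2]⟩)
    _ (fun x hx => by rw [hS, card_fixedPairs, h.fx_cls₂ hx])
  have hswap := incidence (centralizer ({u} : Set G)) S hinv htr (cls₂ u v) hX (fun x c d => x • c = d)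
    (fun g _ x c d hx => by rw [mul_smul, mul_smul, inv_smul_smul, hx])
    _ (fun x hx => by
      rw [hS, card_swapped (h.cls₂_props hx).1 (Fx Ω u) (fun c hc => ?_), h.fx_cls₂ hx]
      show u • x • c = x • c
      rw [← mul_smul, ← (h.cls₂_props hx).2.1, mul_smul]
      exact congrArg _ hc)
  have h2 : Nat.card {x : ↥(cls₂ u v) // (x : G) • a = a ∧ (x : G) • b = b} = 2 := by
    rw [Nat.card_eq_two_iff]
    refine ⟨⟨⟨v, h.v_mem_cls₂⟩, h.v_a, h.v_b⟩, ⟨⟨u * v, 1, by simp, Or.inr (by simp)⟩,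
      by show (u * v) • a = a; rw [mul_smul, h.v_a, h.u_a], by show (u * v) • b = b; rw [mul_smul, h.v_b, h.u_b]⟩, ?_, ?_⟩
    · intro e
      have e' : v = u * v := congrArg (fun z : {x : ↥(cls₂ u v) // (x : G) • a = a ∧ (x : G) • b = b} => ((z : ↥(cls₂ u v)) : G)) e
      exact h.u_ne (mul_right_cancel (b := v) (by rw [one_mul]; exact e'.symm))
    · refine Set.eq_univ_of_forall fun x => ?_
      obtain ⟨⟨x, hx⟩, hxa, hxb⟩ := x
      obtain ⟨g, hg, e⟩ := id hx
      have hgu : g * u * g⁻¹ = u := by rw [hg]; group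
      rcases h.cent x ⟨hxa, hxb⟩ (h.cls₂_props hx).2.1 with r | r | r | r
      · exfalso
        rw [r, mul_one, mul_inv_cancel] at e
        exact e.elim (fun e => h.v_ne e.symm) (fun e => h.uv_ne e.symm)
      · exfalso
        rw [r, hgu] at e
        exact e.elim h.ne_uv fun e => h.v_ne (mul_left_cancel (a := u) (by rw [mul_one]; exact e.symm))
      · left; exact Subtype.ext (Subtype.ext r)
      · right; exact Subtype.ext (Subtype.ext r)
  rw [h2] at hfix
  have hpos : 0 < Nat.card ↥(cls₂ u v) := by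
    haveI : Nonempty ↥(cls₂ u v) := ⟨⟨v, h.v_mem_cls₂⟩⟩
    exact Nat.card_pos
  refine Nat.eq_of_mul_eq_mul_left hpos ?_
  rw [← mul_assoc, mul_comm _ 2, mul_assoc, hswap, mul_comm (Nat.card {x : ↥(cls₂ u v) // (x : G) • a = b}) (_ * (_ - 1)),
    ← mul_assoc _ (_ * (_ - 1)), hfix]
  ring

end Cfg

end Cfsg.Agent.Perm.TwoStab
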