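import Cfsg.Agent.Lib.Perm.TwoStab.Count
import Cfsg.Agent.Lib.Invol.GW.Consumers.Socle
import Cfsg.Agent.Lib.Invol.GW.Dihedral.ThreeDoneFinal
import Cfsg.Agent.Lib.Invol.GW.Dihedral.TwoClassImage
import Cfsg.Agent.Lib.Invol.GW.Klein.LinearPSL
import Cfsg.Agent.Lib.Transfer.SelfCentNoncyclic.Linear
import Cfsg.Agent.Lib.Invol.Core2.RankTwoPSL
import Cfsg.Agent.Lib.Grp.SqClass.Prim
import Cfsg.Agent.S2119

/-!
# Dihedral Sylow 2-subgroups: the group is `A₇` on seven points

The socle is `PSL₂(q)` or `A₇`.  A generator of the cyclic subgroup of index two in the centraliser of `u` inside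
`PSL₂(q)` has order dividing four, so `q ≤ 9` and the group is too small.
-/

set_option autoImplicit false
set_option linter.unusedSectionVars false
set_option linter.style.haveILetI false

namespace Cfsg.Agent.Perm.TwoStab

open MulAction Subgroup

universe u₁ u₂

section Field

variable {F : Type} [Field F] [Fintype F]

/-- The automorphism group of `PSL₂(q)` for `q ∈ {5, 7, 9}`. -/
theorem card_aut_small (hq : Fintype.card F = 5 ∨ Fintype.card F = 7 ∨ Fintype.card F = 9) :
    Nat.card (MulAut (Matrix.ProjectiveSpecialLinearGroup (Fin 2) F)) ≤ 1440 := by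
  classical
  haveI : Finite (RingAut F) := Finite.of_injective (fun f => (⇑f : F → F)) DFunLike.coe_injective
  haveI : Finite (Matrix.ProjGenLinGroup (Fin 2) F) := Dickson.finite_pgl
  obtain ⟨Ψ, -, hker⟩ := Invol.GW.Dihedral.PGL.exists_psi (F := F)
  have hkr : Ψ.ker = (Classical.PSLAut.inndiagHom 2 F).range := by
    ext β; exact MonoidHom.mem_ker.trans (hker β)
  have hrange : Nat.card ↥(Classical.PSLAut.inndiagHom 2 F).range ≤
      Fintype.card F * ((Fintype.card F - 1) * (Fintype.card F + 1)) := by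
    rw [← Invol.Core2.RankTwo.card_pgl]
    rw [← Nat.card_congr (QuotientGroup.quotientKerEquivRange (Classical.PSLAut.inndiagHom 2 F)).toEquiv]
    have hle : center (GL (Fin 2) F) ≤ (Classical.PSLAut.inndiagHom 2 F).ker := fun g hg => by
      rw [MonoidHom.mem_ker, Invol.GW.Dihedral.PGL.map_eq_one_iff]
      obtain ⟨r, rfl⟩ := (SetLike.ext_iff.1 (Matrix.GeneralLinearGroup.center_eq_range_scalar (n := Fin 2) (R := F)) g).1 hg
      exact ⟨(r : F), by ext i j; simp [Matrix.scalar, Matrix.diagonal, Matrix.one_apply]⟩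
    exact Nat.card_le_card_of_surjective
      (QuotientGroup.map (center (GL (Fin 2) F)) (Classical.PSLAut.inndiagHom 2 F).ker (MonoidHom.id _) (fun g hg => hle hg))
      (fun q => by
        obtain ⟨g, rfl⟩ := QuotientGroup.mk_surjective q
        exact ⟨(g : GL (Fin 2) F ⧸ center (GL (Fin 2) F)), rfl⟩)
  have hring : Nat.card (RingAut F) ≤ 2 := by
    rcases hq with hq | hq | hq
    · haveI : Fact (Nat.Prime 5) := ⟨by norm_num⟩
      haveI : CharP F 5 := charP_of_card_eq_prime hq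
      exact (SqClass.card_ringAut_le F (p := 5) (m := 1) (by rw [Nat.card_eq_fintype_card, hq]; rfl)).trans (by omega)
    · haveI : Fact (Nat.Prime 7) := ⟨by norm_num⟩
      haveI : CharP F 7 := charP_of_card_eq_prime hq
      exact (SqClass.card_ringAut_le F (p := 7) (m := 1) (by rw [Nat.card_eq_fintype_card, hq]; rfl)).trans (by omega)
    · haveI : Fact (Nat.Prime 3) := ⟨Nat.prime_three⟩
      haveI : CharP F 3 := charP_of_card_eq_prime_pow (f := 2) hq
      exact SqClass.card_ringAut_le F (p := 3) (m := 2) (by rw [Nat.card_eq_fintype_card, hq]; rfl)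
  have h1 := Ψ.ker.card_mul_index
  rw [Subgroup.index_ker] at h1
  have h2 : Nat.card ↥Ψ.range ≤ 2 := (Nat.card_le_card_of_injective _ Subtype.val_injective).trans hring
  rw [← hkr] at hrange
  rw [← h1]
  refine (Nat.mul_le_mul hrange h2).trans ?_
  rcases hq with hq | hq | hq <;> rw [hq] <;> norm_num

end Field

variable {G : Type u₁} [Group G] {Ω : Type u₂} [MulAction G Ω] {a b : Ω} {u v : G}

theorem Five.seven_le [Finite Ω] (h : Five G a b u v) : 7 ≤ Nat.card Ω := by
  classical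
  haveI := Fintype.ofFinite Ω
  let f : ↥(pairStab G a b) →* Equiv.Perm {c : Ω // c ≠ a ∧ c ≠ b} :=
    MonoidHom.mk' (fun d => (MulAction.toPerm (d : G)).subtypePerm fun c => by
      show ((d : G) • c ≠ a ∧ (d : G) • c ≠ b) ↔ (c ≠ a ∧ c ≠ b)
      refine and_congr (not_congr ?_) (not_congr ?_)
      · exact ⟨fun e => smul_left_cancel (d : G) (e.trans d.2.1.symm), fun e => by rw [e]; exact d.2.1⟩
      · exact ⟨fun e => smul_left_cancel (d : G) (e.trans d.2.2.symm), fun e => by rw [e]; exact d.2.2⟩) fun d d' => Equiv.ext fun c => Subtype.ext (mul_smul (d : G) (d' : G) (c : Ω))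
  have hf : Function.Injective f := (injective_iff_map_eq_one f).2 fun d hd => Subtype.ext (h.faithful _ fun c => by
    by_cases ha : c = a
    · rw [ha]; exact d.2.1
    by_cases hb : c = b
    · rw [hb]; exact d.2.2
    exact congrArg Subtype.val (Equiv.ext_iff.1 hd ⟨c, ha, hb⟩))
  have h1 := Nat.card_le_card_of_injective f hf
  rw [h.card_D, Nat.card_perm] at h1
  set m := Nat.card {c : Ω // c ≠ a ∧ c ≠ b} with hm
  have hm5 : 5 ≤ m := by
    by_contra hlt
    have : Nat.factorial m ≤ Nat.factorial 4 := Nat.factorial_le (by omega)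
    simp [Nat.factorial] at this
    omega
  have h2 : m + 2 = Nat.card Ω := by
    have hsplit : {c : Ω | c ≠ a ∧ c ≠ b} = Set.univ \ {a, b} := by ext c; simp
    rw [hm, ← Set.ncard_univ Ω, show Nat.card {c : Ω // c ≠ a ∧ c ≠ b} = ({c : Ω | c ≠ a ∧ c ≠ b}).ncard from
      Nat.card_coe_set_eq _, hsplit, ← Set.ncard_sdiff_add_ncard_of_subset (Set.subset_univ ({a, b} : Set Ω)),
      Set.ncard_pair h.ne]
  omega

theorem Five.not_solvable (h : Five G a b u v) : ¬ Group.IsSolvable G := fun hs => by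
  haveI := hs
  haveI := h.simple
  obtain ⟨x, hx, y, hy, hxy⟩ := h.noncomm
  have h1 : Group.IsSolvable ↥(pairStab G a b) := inferInstance
  exact hxy (congrArg Subtype.val ((IsSimpleGroup.comm_iff_isSolvable.2 h1) ⟨x, hx⟩ ⟨y, hy⟩))

theorem Five.oddCore_eq_bot [Finite G] (h : Five G a b u v) : Cfsg.oddCore G = ⊥ := by
  haveI : (Cfsg.oddCore G).Normal := Grp.pPrimeCore_isNormal (p := 2)
  exact h.toCfg.oddCard_eq_bot h.simple h.nr _ (Nat.coprime_two_right.1 Grp.pPrimeCore_coprime)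

/-- Inside a socle `PSL₂(q)` the centraliser of `u` is small. -/
theorem Cfg.field_small [Finite G] [Finite Ω] (h : Cfg G a b u v) (L : Subgroup G) [L.Normal] (huL : u ∈ L) (hvL : v ∈ L)
    {F : Type} [Field F] [Fintype F] (hodd : Odd (Fintype.card F))
    (φ : ↥L ≃* Matrix.ProjectiveSpecialLinearGroup (Fin 2) F) : Fintype.card F ≤ 9 := by
  classical
  obtain ⟨p, hp⟩ := CharP.exists F
  haveI : Fact p.Prime := ⟨(CharP.char_is_prime_or_zero F p).resolve_right (CharP.char_ne_zero_of_finite F p)⟩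
  set t := φ ⟨u, huL⟩ with ht
  set s := φ ⟨v, hvL⟩ with hs
  have hto : orderOf t = 2 := by rw [ht, MulEquiv.orderOf_eq, Subgroup.orderOf_mk, h.u_ord]
  have hso : orderOf s = 2 := by rw [hs, MulEquiv.orderOf_eq, Subgroup.orderOf_mk, h.v_ord]
  have hst : Commute s t := by
    show φ ⟨v, hvL⟩ * φ ⟨u, huL⟩ = φ ⟨u, huL⟩ * φ ⟨v, hvL⟩
    rw [← map_mul, ← map_mul]; exact congrArg φ (Subtype.ext h.comm.symm)
  have hne : s ≠ t := fun e => h.ne_uv (congrArg Subtype.val (φ.injective e)).symm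
  obtain ⟨T, hTc, hTt, -, hTinv, hT1, hT3⟩ := Invol.GW.Klein.PSL.exists_torus hodd hto
  obtain ⟨hC1, hC3⟩ := Transfer.SelfCentNoncyclic.card_centralizer_involution p hodd hto
  obtain ⟨g₀, hg₀⟩ := hTc.exists_generator
  have hgcard : orderOf (g₀ : Matrix.ProjectiveSpecialLinearGroup (Fin 2) F) = Nat.card ↥T := by
    rw [Subgroup.orderOf_coe]; exact orderOf_eq_card_of_forall_mem_zpowers hg₀
  by_contra hq
  have hq' : 10 ≤ Fintype.card F := by omega
  obtain ⟨k, hk⟩ := hodd
  have hsize : Nat.card ↥(centralizer ({t} : Set (Matrix.ProjectiveSpecialLinearGroup (Fin 2) F))) = 2 * Nat.card ↥T ∧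
      5 ≤ Nat.card ↥T := by
    rcases (show Fintype.card F % 4 = 1 ∨ Fintype.card F % 4 = 3 by omega) with h4 | h4
    · have := hT1 h4; have := hC1 h4; omega
    · have := hT3 h4; have := hC3 h4; omega
  set x₀ : Matrix.ProjectiveSpecialLinearGroup (Fin 2) F := (g₀ : Matrix.ProjectiveSpecialLinearGroup (Fin 2) F) with hx₀
  have hinv : s * x₀ * s⁻¹ = x₀⁻¹ := hTinv s hso hst hne x₀ g₀.2
  have hTmem : ∀ y, y ∈ T ↔ y ∈ zpowers x₀ := fun y => by
    constructor
    · intro hy
      obtain ⟨i, hi⟩ := Subgroup.mem_zpowers_iff.1 (hg₀ ⟨y, hy⟩)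
      exact Subgroup.mem_zpowers_iff.2 ⟨i, by simpa using congrArg Subtype.val hi⟩
    · intro hy
      obtain ⟨i, rfl⟩ := Subgroup.mem_zpowers_iff.1 hy
      exact T.zpow_mem g₀.2 i
  have hx5 : ¬ x₀ ^ 4 = 1 := fun e => by
    have := Nat.le_of_dvd (by norm_num) (orderOf_dvd_of_pow_eq_one e)
    rw [hgcard] at this
    omega
  have hsT : s ∉ T := fun hsT => by
    obtain ⟨i, hi⟩ := Subgroup.mem_zpowers_iff.1 ((hTmem s).1 hsT)
    have h1 : s * x₀ * s⁻¹ = x₀ := by
      rw [← hi, ((Commute.refl x₀).zpow_left i).eq, mul_inv_cancel_right]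
    rw [hinv] at h1
    exact hx5 (by rw [show (4 : ℕ) = 2 * 2 from rfl, pow_mul, pow_two x₀]; nth_rewrite 2 [← h1]; simp)
  -- the centraliser is the torus and its coset
  have hcover : ∀ y, y * t = t * y → y ∈ T ∨ y * s ∈ T := by
    have hsub : ∀ y ∈ T, y ∈ centralizer ({t} : Set (Matrix.ProjectiveSpecialLinearGroup (Fin 2) F)) :=
      fun y hy => mem_centralizer_singleton_iff.2 (hTt y hy).eq
    have hidx : (T.subgroupOf (centralizer ({t} : Set (Matrix.ProjectiveSpecialLinearGroup (Fin 2) F)))).index = 2 := by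
      have h1 := (T.subgroupOf (centralizer ({t} : Set (Matrix.ProjectiveSpecialLinearGroup (Fin 2) F)))).card_mul_index
      rw [Nat.card_congr (subgroupOfEquivOfLe hsub).toEquiv, hsize.1, mul_comm 2] at h1
      exact Nat.eq_of_mul_eq_mul_left Nat.card_pos h1
    intro y hy
    by_cases hyT : y ∈ T
    · exact Or.inl hyT
    refine Or.inr ?_
    have := (Subgroup.mul_mem_iff_of_index_two hidx
      (a := ⟨y, mem_centralizer_singleton_iff.2 hy⟩) (b := ⟨s, mem_centralizer_singleton_iff.2 hst.eq⟩)).2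
      (iff_of_false (fun e => hyT (mem_subgroupOf.1 e)) fun e => hsT (mem_subgroupOf.1 e))
    exact mem_subgroupOf.1 this
  have htT : t ∈ T := by
    rcases hcover t rfl with h1 | h1
    · exact h1
    exfalso
    have hc : t * s * x₀ = x₀ * (t * s) := by
      obtain ⟨i, hi⟩ := Subgroup.mem_zpowers_iff.1 ((hTmem _).1 h1)
      rw [← hi]; exact ((Commute.refl x₀).zpow_left i).eq
    have hc' : s * x₀ * s⁻¹ = x₀ := by
      have htx : x₀ * t = t * x₀ := (hTt x₀ g₀.2).eq
      have : t * (s * x₀) = t * (x₀ * s) := by rw [← mul_assoc, hc, ← mul_assoc, htx, mul_assoc]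
      rw [mul_left_cancel this, mul_inv_cancel_right]
    rw [hinv] at hc'
    exact hx5 (by rw [show (4 : ℕ) = 2 * 2 from rfl, pow_mul, pow_two x₀]; nth_rewrite 2 [← hc']; simp)
  -- pulled back to the group
  set x : G := ((φ.symm x₀ : ↥L) : G) with hx
  have hxL : x ∈ L := (φ.symm x₀).2
  have hphix : φ ⟨x, hxL⟩ = x₀ := φ.apply_symm_apply x₀
  have hxo : ¬ x ^ 4 = 1 := fun e => hx5 (by
    rw [← hphix, ← map_pow]
    exact (map_eq_one_iff φ φ.injective).2 (Subtype.ext e))
  have hxu : x * u = u * x := congrArg Subtype.val (φ.injective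
    (show φ (⟨x, hxL⟩ * ⟨u, huL⟩) = φ (⟨u, huL⟩ * ⟨x, hxL⟩) by
      rw [map_mul, map_mul, hphix, ← ht]; exact (hTt x₀ g₀.2).eq))
  have hxv : v * x * v⁻¹ = x⁻¹ := congrArg Subtype.val (φ.injective
    (show φ (⟨v, hvL⟩ * ⟨x, hxL⟩ * ⟨v, hvL⟩⁻¹) = φ (⟨x, hxL⟩⁻¹) by
      rw [map_mul, map_mul, map_inv, map_inv, hphix, ← hs]; exact hinv))
  have huz : u ∈ zpowers x := by
    obtain ⟨i, hi⟩ := Subgroup.mem_zpowers_iff.1 ((hTmem t).1 htT)
    refine Subgroup.mem_zpowers_iff.2 ⟨i, congrArg Subtype.val (φ.injective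
      (show φ (⟨x, hxL⟩ ^ i) = φ ⟨u, huL⟩ by rw [map_zpow, hphix, hi, ← ht]))⟩
  -- the subgroup is invariant in the centraliser
  have hnorm : ∀ g : G, g * u = u * g → g * x * g⁻¹ ∈ zpowers x := by
    intro g hg
    have hm : g * x * g⁻¹ ∈ L := (inferInstance : L.Normal).conj_mem x hxL g
    have hgu : g * u * g⁻¹ = u := by rw [hg]; group
    have hc : φ ⟨_, hm⟩ * t = t * φ ⟨_, hm⟩ := by
      rw [ht, ← map_mul, ← map_mul]
      refine congrArg φ (Subtype.ext ?_)
      show g * x * g⁻¹ * u = u * (g * x * g⁻¹)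
      calc g * x * g⁻¹ * u = g * x * g⁻¹ * (g * u * g⁻¹) := by rw [hgu]
        _ = g * (x * u) * g⁻¹ := by group
        _ = g * (u * x) * g⁻¹ := by rw [hxu]
        _ = g * u * g⁻¹ * (g * x * g⁻¹) := by group
        _ = _ := by rw [hgu]
    rcases hcover _ hc with h1 | h1
    · obtain ⟨i, hi⟩ := Subgroup.mem_zpowers_iff.1 ((hTmem _).1 h1)
      exact Subgroup.mem_zpowers_iff.2 ⟨i, congrArg Subtype.val (φ.injective
        (show φ (⟨x, hxL⟩ ^ i) = φ ⟨_, hm⟩ by rw [map_zpow, hphix, hi]))⟩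
    · exfalso
      set y := φ ⟨_, hm⟩ with hy
      obtain ⟨i, hi⟩ := Subgroup.mem_zpowers_iff.1 ((hTmem _).1 h1)
      have hss : s * s = 1 := (orderOf_two_iff.1 hso).1
      have hys : y = x₀ ^ i * s := by rw [hi, mul_assoc, hss, mul_one]
      have hy2 : y * y = 1 := by
        have hflip : s * x₀ ^ i * s⁻¹ = x₀ ^ (-i) := by
          rw [← conj_zpow, hinv, inv_zpow, zpow_neg]
        rw [hys, show x₀ ^ i * s * (x₀ ^ i * s) = x₀ ^ i * (s * x₀ ^ i * s⁻¹) * (s * s) by group, hflip, hss,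
          mul_one, ← zpow_add, add_neg_cancel, zpow_zero]
      rw [hy, ← map_mul, map_eq_one_iff φ φ.injective] at hy2
      have h2 : g * x * g⁻¹ * (g * x * g⁻¹) = 1 := congrArg Subtype.val hy2
      apply hxo
      rw [show x ^ 4 = g⁻¹ * ((g * x * g⁻¹ * (g * x * g⁻¹)) * (g * x * g⁻¹ * (g * x * g⁻¹))) * g by
        simp [pow_succ, mul_assoc], h2]
      group
  have hcomm : ∀ y ∈ zpowers x, y * u = u * y := fun y hy => by
    obtain ⟨i, rfl⟩ := Subgroup.mem_zpowers_iff.1 hy
    exact ((show Commute x u from hxu).zpow_left i).eq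
  have hflip : ∀ y ∈ zpowers x, v * y * v⁻¹ = y⁻¹ := fun y hy => by
    obtain ⟨i, rfl⟩ := Subgroup.mem_zpowers_iff.1 hy
    rw [← conj_zpow, hxv, inv_zpow]
  have hab : ∀ y ∈ zpowers x, y • a = a → y • b = b → y * y = 1 := fun y hy h1 h2 => by
    exact h.four_sq (h.mem_four.2 (h.cent y ⟨h1, h2⟩ (hcomm y hy)))
  -- the generator moves `a`
  have hxa : x • a ≠ a := fun hfa => by
    obtain ⟨k', hk', h1, -⟩ := h.cent_u_pairs h.ne.symm h.u_b h.u_a
    have hk'' := mem_centralizer_singleton_iff.1 hk'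
    obtain ⟨i, hi⟩ := Subgroup.mem_zpowers_iff.1 (hnorm k'⁻¹ ((show Commute k' u from hk'').inv_left).eq)
    have hzfix : ∀ i : ℤ, (x ^ i) • a = a := fun i => zpow_mem (K := stabilizer G a) hfa i
    have h2 : x • a = a ∧ (k' * x * k'⁻¹) • a = a := by
      refine ⟨hfa, ?_⟩
      obtain ⟨j, hj⟩ := Subgroup.mem_zpowers_iff.1 (hnorm k' hk'')
      rw [← hj]; exact hzfix j
    have h3 : x • b = b := by
      have := h2.2
      rw [mul_smul, mul_smul, show k'⁻¹ • a = b from inv_smul_eq_iff.2 h1.symm] at this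
      exact smul_left_cancel k' (this.trans h1.symm)
    have h4 := hab x (mem_zpowers x) hfa h3
    exact hxo (by rw [show (4 : ℕ) = 2 * 2 from rfl, pow_mul, pow_two x, h4, one_pow])
  have hxf : u • x • a = x • a := by rw [← mul_smul, ← hxu, mul_smul, h.u_a]
  obtain ⟨g, hg, hga, hgc⟩ := h.cent_u_pairs (fun e => hxa e.symm) h.u_a hxf
  set y := g * x * g⁻¹ with hy
  have hyz : y ∈ zpowers x := hnorm g (mem_centralizer_singleton_iff.1 hg)
  have hya : y • a = b := by
    rw [hy, mul_smul, mul_smul, show g⁻¹ • a = a from inv_smul_eq_iff.2 hga.symm, hgc]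
  have hya' : y⁻¹ • a = b := by
    rw [← hflip y hyz, mul_smul, mul_smul, show v⁻¹ • a = a from inv_smul_eq_iff.2 h.v_a.symm, hya, h.v_b]
  have hyb : y • b = a := by rw [← hya', smul_inv_smul]
  have h4 := hab (y * y) (mul_mem hyz hyz) (by rw [mul_smul, hya, hyb]) (by rw [mul_smul, hyb, hya])
  apply hxo
  rw [show x ^ 4 = g⁻¹ * (y * y * (y * y)) * g by rw [hy]; simp [pow_succ, mul_assoc], h4]
  group

/-- The same bound for the stabiliser `A₅`. -/
theorem Five.field_small [Finite G] [Finite Ω] (h : Five G a b u v) (L : Subgroup G) [L.Normal]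
    (hLD : pairStab G a b ≤ L) {F : Type} [Field F] [Fintype F] (hodd : Odd (Fintype.card F))
    (φ : ↥L ≃* Matrix.ProjectiveSpecialLinearGroup (Fin 2) F) : Fintype.card F ≤ 9 :=
  h.toCfg.field_small L (hLD h.u_mem) (hLD h.v_mem) hodd φ

/-- The dihedral case. -/
theorem Five.dihedral_case [Finite G] [Finite Ω] (h : Five G a b u v) (T : Sylow 2 G) {m : ℕ}
    (e : ↥(T : Subgroup G) ≃* DihedralGroup m) : Nat.card Ω = 7 ∧ Nonempty (G ≃* ↥(alternatingGroup (Fin 7))) := by
  classical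
  obtain ⟨L, hLn, hmodel, hCL⟩ := Invol.GW.exists_socle Invol.GW.Dihedral.gwStatement_holds h.oddCore_eq_bot
    h.not_solvable T e
  haveI := hLn
  haveI hLs : IsSimpleGroup ↥L := Invol.GW.isSimple_of_model hmodel
  have hL1 : L ≠ ⊥ := fun e' => by
    haveI := hLs.toNontrivial
    exact (Subgroup.nontrivial_iff_ne_bot L).1 inferInstance e'
  have hLD := h.le_of_normal L hL1
  have hinj : Function.Injective (MulAut.conjNormal (H := L) : G →* MulAut ↥L) := by
    rw [← MonoidHom.ker_eq_bot_iff, eq_bot_iff, ← hCL]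
    intro g hg
    refine mem_centralizer_iff.2 fun l hl => ?_
    have := congrArg Subtype.val (DFunLike.congr_fun (MonoidHom.mem_ker.1 hg) ⟨l, hl⟩)
    rw [MulAut.conjNormal_apply] at this
    exact (mul_inv_eq_iff_eq_mul.1 this).symm
  have hG : Nat.card G = Nat.card Ω * (Nat.card Ω - 1) * 60 := by rw [h.toCfg.card_group, h.card_D]
  have hn := h.seven_le
  have h42 := Nat.mul_le_mul hn (show 6 ≤ Nat.card Ω - 1 by omega)
  rcases hmodel with ⟨F, _, _, hodd, h3, ⟨φ⟩⟩ | ⟨φ⟩
  · exfalso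
    have h9 := h.toCfg.field_small L (hLD h.u_mem) (hLD h.v_mem) hodd φ
    have hq : Fintype.card F = 5 ∨ Fintype.card F = 7 ∨ Fintype.card F = 9 := by
      obtain ⟨k, hk⟩ := hodd; omega
    haveI : Finite (MulAut ↥L) := inferInstance
    have h1 := Nat.card_le_card_of_injective _ hinj
    rw [Nat.card_congr (MulAut.congr φ).toEquiv] at h1
    have h2 := card_aut_small hq
    omega
  · obtain ⟨φ⟩ := φ
    have hA7 : Nat.card ↥(alternatingGroup (Fin 7)) = 2520 := by
      rw [nat_card_alternatingGroup]; simp [Nat.factorial]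
    have hS7 : Nat.card (MulAut ↥(alternatingGroup (Fin 7))) ≤ 5040 := by
      refine (Nat.card_le_card_of_surjective _ (Cfsg.Agent.S2119.result 7 (by norm_num) (by norm_num)).2).trans ?_
      rw [Nat.card_perm]; simp [Nat.factorial]
    have hLc : Nat.card ↥L = 2520 := by rw [Nat.card_congr φ.toEquiv, hA7]
    haveI : Finite (MulAut ↥L) := inferInstance
    have h1 := Nat.card_le_card_of_injective _ hinj
    rw [Nat.card_congr (MulAut.congr φ).toEquiv] at h1
    have hn7 : Nat.card Ω = 7 := by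
      by_contra hne
      have h8 : 8 ≤ Nat.card Ω := by omega
      have h9 : Nat.card Ω ≤ 10 := by
        by_contra h10
        have := Nat.mul_le_mul (show 11 ≤ Nat.card Ω by omega) (show 10 ≤ Nat.card Ω - 1 by omega)
        omega
      have hd := L.card_mul_index
      rw [hLc, hG] at hd
      interval_cases hc : Nat.card Ω <;> omega
    refine ⟨hn7, ⟨(Subgroup.topEquiv.symm.trans (MulEquiv.subgroupCongr (Subgroup.eq_top_of_card_eq L ?_).symm)).trans φ⟩⟩
    rw [hLc, hG, hn7]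

end Cfsg.Agent.Perm.TwoStab
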