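import Mathlib
import Cfsg.Agent.Lib.Invol.GW.Klein.LinearPSL
import Cfsg.Agent.Lib.Transfer.SelfCentNoncyclic.Linear

/-!
# The centraliser of an involution in a subgroup isomorphic to `PSL₂(q)`

It is `⟨x⟩ ∪ ⟨x⟩ v` for a commuting involution `v`, which inverts `x`.
-/

set_option autoImplicit false
set_option linter.unusedSectionVars false
set_option linter.style.haveILetI false

namespace Cfsg.Agent.Perm.TwoStab

open Subgroup

universe u₁

theorem psl_centralizer {G : Type u₁} [Group G] (L : Subgroup G) {F : Type} [Field F] [Fintype F]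
    (hodd : Odd (Fintype.card F)) (h5 : 5 ≤ Fintype.card F)
    (φ : ↥L ≃* Matrix.ProjectiveSpecialLinearGroup (Fin 2) F) {u v : G} (huL : u ∈ L) (hvL : v ∈ L)
    (hu : orderOf u = 2) (hv : orderOf v = 2) (huv : u * v = v * u) (hne : u ≠ v) :
    ∃ x ∈ L, x * u = u * x ∧ u ∈ zpowers x ∧ v * x * v⁻¹ = x⁻¹ ∧ v ∉ zpowers x ∧
      (∀ g ∈ L, g * u = u * g → g ∈ zpowers x ∨ g * v ∈ zpowers x) ∧
      Nat.card ↥(L ⊓ centralizer ({u} : Set G)) = 2 * orderOf x ∧
      (Fintype.card F % 4 = 1 → 2 * orderOf x + 1 = Fintype.card F) ∧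
      (Fintype.card F % 4 = 3 → 2 * orderOf x = Fintype.card F + 1) := by
  classical
  obtain ⟨p, hp⟩ := CharP.exists F
  haveI : Fact p.Prime := ⟨(CharP.char_is_prime_or_zero F p).resolve_right (CharP.char_ne_zero_of_finite F p)⟩
  set t := φ ⟨u, huL⟩ with ht
  set s := φ ⟨v, hvL⟩ with hs
  have hto : orderOf t = 2 := by rw [ht, MulEquiv.orderOf_eq, Subgroup.orderOf_mk, hu]
  have hso : orderOf s = 2 := by rw [hs, MulEquiv.orderOf_eq, Subgroup.orderOf_mk, hv]
  have hss : s * s = 1 := (pow_two s).symm.trans (orderOf_dvd_iff_pow_eq_one.1 (dvd_of_eq hso))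
  have hst : Commute s t := by
    show φ ⟨v, hvL⟩ * φ ⟨u, huL⟩ = φ ⟨u, huL⟩ * φ ⟨v, hvL⟩
    rw [← map_mul, ← map_mul]; exact congrArg φ (Subtype.ext huv.symm)
  have hne' : s ≠ t := fun e => hne (congrArg Subtype.val (φ.injective e)).symm
  obtain ⟨T₀, hT₀c, hT₀t, -, hT₀inv, hT1, hT3⟩ := Invol.GW.Klein.PSL.exists_torus hodd hto
  obtain ⟨hC1, hC3⟩ := Transfer.SelfCentNoncyclic.card_centralizer_involution p hodd hto
  have hsize : Nat.card ↥(centralizer ({t} : Set (Matrix.ProjectiveSpecialLinearGroup (Fin 2) F))) = 2 * Nat.card ↥T₀ ∧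
      2 ≤ Nat.card ↥T₀ := by
    obtain ⟨k, hk⟩ := hodd
    rcases (show Fintype.card F % 4 = 1 ∨ Fintype.card F % 4 = 3 by omega) with h4 | h4
    · have := hT1 h4; have := hC1 h4; omega
    · have := hT3 h4; have := hC3 h4; omega
  -- a cyclic subgroup containing `t`, not `s`
  obtain ⟨x₀, hxT, hxt, hinv, htx, hsx⟩ : ∃ x₀, orderOf x₀ = Nat.card ↥T₀ ∧ x₀ * t = t * x₀ ∧
      s * x₀ * s⁻¹ = x₀⁻¹ ∧ t ∈ zpowers x₀ ∧ s ∉ zpowers x₀ := by
    by_cases h2 : Nat.card ↥T₀ = 2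
    · refine ⟨t, hto.trans h2.symm, rfl, ?_, mem_zpowers t, fun hsT => ?_⟩
      · rw [hst.eq, mul_inv_cancel_right]
        exact (inv_eq_of_mul_eq_one_right ((pow_two t).symm.trans (orderOf_dvd_iff_pow_eq_one.1 (dvd_of_eq hto)))).symm
      · obtain ⟨i, hi⟩ := Subgroup.mem_zpowers_iff.1 hsT
        rw [← zpow_mod_orderOf, hto] at hi
        rcases (show i % ((2 : ℕ) : ℤ) = 0 ∨ i % ((2 : ℕ) : ℤ) = 1 by omega) with e | e <;> rw [e] at hi
        · rw [zpow_zero] at hi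
          rw [← hi, orderOf_one] at hso; omega
        · rw [zpow_one] at hi
          exact hne' hi.symm
    obtain ⟨g₀, hg₀⟩ := hT₀c.exists_generator
    set x₀ : Matrix.ProjectiveSpecialLinearGroup (Fin 2) F := (g₀ : Matrix.ProjectiveSpecialLinearGroup (Fin 2) F)
      with hx₀
    have hgcard : orderOf x₀ = Nat.card ↥T₀ := by
      rw [hx₀, Subgroup.orderOf_coe]; exact orderOf_eq_card_of_forall_mem_zpowers hg₀
    have hinv : s * x₀ * s⁻¹ = x₀⁻¹ := hT₀inv s hso hst hne' x₀ g₀.2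
    have hTmem : ∀ y, y ∈ T₀ ↔ y ∈ zpowers x₀ := fun y => by
      constructor
      · intro hy
        obtain ⟨i, hi⟩ := Subgroup.mem_zpowers_iff.1 (hg₀ ⟨y, hy⟩)
        exact Subgroup.mem_zpowers_iff.2 ⟨i, by simpa using congrArg Subtype.val hi⟩
      · intro hy
        obtain ⟨i, rfl⟩ := Subgroup.mem_zpowers_iff.1 hy
        exact T₀.zpow_mem g₀.2 i
    have hx2 : x₀ * x₀ ≠ 1 := fun e => h2 (le_antisymm (by
      rw [← hgcard]; exact Nat.le_of_dvd two_pos (orderOf_dvd_of_pow_eq_one (by rw [pow_two, e]))) hsize.2)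
    have hsT : s ∉ zpowers x₀ := fun hsT => by
      obtain ⟨i, hi⟩ := Subgroup.mem_zpowers_iff.1 hsT
      have h1 : s * x₀ * s⁻¹ = x₀ := by
        rw [← hi, ((Commute.refl x₀).zpow_left i).eq, mul_inv_cancel_right]
      rw [hinv] at h1
      exact hx2 (by nth_rewrite 1 [← h1]; rw [inv_mul_cancel])
    refine ⟨x₀, hgcard, (hT₀t x₀ g₀.2).eq, hinv, ?_, hsT⟩
    rw [← hTmem]
    by_contra htT
    -- then the coset of `s` contains `t`
    have hsub : ∀ y ∈ T₀, y ∈ centralizer ({t} : Set (Matrix.ProjectiveSpecialLinearGroup (Fin 2) F)) :=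
      fun y hy => mem_centralizer_singleton_iff.2 (hT₀t y hy).eq
    have hidx : (T₀.subgroupOf (centralizer ({t} : Set (Matrix.ProjectiveSpecialLinearGroup (Fin 2) F)))).index = 2 := by
      have h1 := (T₀.subgroupOf (centralizer ({t} : Set (Matrix.ProjectiveSpecialLinearGroup (Fin 2) F)))).card_mul_index
      rw [Nat.card_congr (subgroupOfEquivOfLe hsub).toEquiv, hsize.1, mul_comm 2] at h1
      exact Nat.eq_of_mul_eq_mul_left Nat.card_pos h1
    have h1 : t * s ∈ T₀ := by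
      have := (Subgroup.mul_mem_iff_of_index_two hidx
        (a := ⟨t, mem_centralizer_singleton_iff.2 rfl⟩) (b := ⟨s, mem_centralizer_singleton_iff.2 hst.eq⟩)).2
        (iff_of_false (fun e => htT (mem_subgroupOf.1 e)) fun e => hsT ((hTmem s).1 (mem_subgroupOf.1 e)))
      exact mem_subgroupOf.1 this
    have hc : t * s * x₀ = x₀ * (t * s) := by
      obtain ⟨i, hi⟩ := Subgroup.mem_zpowers_iff.1 ((hTmem _).1 h1)
      rw [← hi]; exact ((Commute.refl x₀).zpow_left i).eq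
    have hc' : s * x₀ * s⁻¹ = x₀ := by
      have htx : x₀ * t = t * x₀ := (hT₀t x₀ g₀.2).eq
      have : t * (s * x₀) = t * (x₀ * s) := by rw [← mul_assoc, hc, ← mul_assoc, htx, mul_assoc]
      rw [mul_left_cancel this, mul_inv_cancel_right]
    rw [hinv] at hc'
    exact hx2 (by nth_rewrite 1 [← hc']; rw [inv_mul_cancel])
  -- pull back
  set x : G := ((φ.symm x₀ : ↥L) : G) with hx
  have hxL : x ∈ L := (φ.symm x₀).2
  have hphix : φ ⟨x, hxL⟩ = x₀ := φ.apply_symm_apply x₀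
  have hxo : orderOf x = Nat.card ↥T₀ := by
    rw [← hxT, ← hphix, MulEquiv.orderOf_eq, Subgroup.orderOf_mk]
  have hzp : ∀ (y : G) (hy : y ∈ L), y ∈ zpowers x ↔ φ ⟨y, hy⟩ ∈ zpowers x₀ := fun y hy => by
    constructor
    · intro h1
      obtain ⟨i, hi⟩ := Subgroup.mem_zpowers_iff.1 h1
      refine Subgroup.mem_zpowers_iff.2 ⟨i, ?_⟩
      rw [← hphix, ← map_zpow]
      exact congrArg φ (Subtype.ext hi)
    · intro h1
      obtain ⟨i, hi⟩ := Subgroup.mem_zpowers_iff.1 h1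
      exact Subgroup.mem_zpowers_iff.2 ⟨i, congrArg Subtype.val (φ.injective
        (show φ (⟨x, hxL⟩ ^ i) = φ ⟨y, hy⟩ by rw [map_zpow, hphix, hi]))⟩
  have hxu : x * u = u * x := congrArg Subtype.val (φ.injective
    (show φ (⟨x, hxL⟩ * ⟨u, huL⟩) = φ (⟨u, huL⟩ * ⟨x, hxL⟩) by rw [map_mul, map_mul, hphix, ← ht]; exact hxt))
  have hxv : v * x * v⁻¹ = x⁻¹ := congrArg Subtype.val (φ.injective
    (show φ (⟨v, hvL⟩ * ⟨x, hxL⟩ * ⟨v, hvL⟩⁻¹) = φ (⟨x, hxL⟩⁻¹) by
      rw [map_mul, map_mul, map_inv, map_inv, hphix, ← hs]; exact hinv))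
  have hcard : Nat.card ↥(L ⊓ centralizer ({u} : Set G)) =
      Nat.card ↥(centralizer ({t} : Set (Matrix.ProjectiveSpecialLinearGroup (Fin 2) F))) := Nat.card_congr
    { toFun := fun g => ⟨φ ⟨g.1, g.2.1⟩, mem_centralizer_singleton_iff.2 (by
        rw [ht, ← map_mul, ← map_mul]
        exact congrArg φ (Subtype.ext (mem_centralizer_singleton_iff.1 g.2.2)))⟩
      invFun := fun y => ⟨(φ.symm y.1 : ↥L), (φ.symm y.1).2, mem_centralizer_singleton_iff.2 (congrArg Subtype.val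
        (φ.injective (show φ (φ.symm y.1 * ⟨u, huL⟩) = φ (⟨u, huL⟩ * φ.symm y.1) by
          rw [map_mul, map_mul, φ.apply_symm_apply, ← ht]; exact mem_centralizer_singleton_iff.1 y.2)))⟩
      left_inv := fun g => Subtype.ext (congrArg (fun z : ↥L => (z : G)) (φ.symm_apply_apply ⟨g.1, g.2.1⟩))
      right_inv := fun y => Subtype.ext (φ.apply_symm_apply y.1) }
  refine ⟨x, hxL, hxu, (hzp u huL).2 htx, hxv, fun hm => hsx ((hzp v hvL).1 hm), fun g hg hgu => ?_,
    by rw [hcard, hsize.1, hxo], fun h4 => by rw [hxo]; exact hT1 h4, fun h4 => by rw [hxo]; exact hT3 h4⟩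
  have hgt : φ ⟨g, hg⟩ * t = t * φ ⟨g, hg⟩ := by
    rw [ht, ← map_mul, ← map_mul]; exact congrArg φ (Subtype.ext hgu)
  have hsub : zpowers x₀ ≤ centralizer ({t} : Set (Matrix.ProjectiveSpecialLinearGroup (Fin 2) F)) :=
    zpowers_le.2 (mem_centralizer_singleton_iff.2 hxt)
  have hidx : ((zpowers x₀).subgroupOf (centralizer ({t} : Set (Matrix.ProjectiveSpecialLinearGroup (Fin 2) F)))).index = 2 := by
    have h1 := ((zpowers x₀).subgroupOf (centralizer ({t} : Set (Matrix.ProjectiveSpecialLinearGroup (Fin 2) F)))).card_mul_index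
    rw [Nat.card_congr (subgroupOfEquivOfLe hsub).toEquiv, Nat.card_zpowers, hxT, hsize.1, mul_comm 2] at h1
    exact Nat.eq_of_mul_eq_mul_left (by omega) h1
  by_cases hgT : g ∈ zpowers x
  · exact Or.inl hgT
  refine Or.inr ((hzp _ (L.mul_mem hg hvL)).2 ?_)
  have := (Subgroup.mul_mem_iff_of_index_two hidx
    (a := ⟨φ ⟨g, hg⟩, mem_centralizer_singleton_iff.2 hgt⟩) (b := ⟨s, mem_centralizer_singleton_iff.2 hst.eq⟩)).2
    (iff_of_false (fun e => hgT ((hzp g hg).2 (mem_subgroupOf.1 e))) fun e => hsx (mem_subgroupOf.1 e))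
  rw [mem_subgroupOf] at this
  rw [show (⟨g * v, L.mul_mem hg hvL⟩ : ↥L) = ⟨g, hg⟩ * ⟨v, hvL⟩ from rfl, map_mul, ← hs]
  exact this

end Cfsg.Agent.Perm.TwoStab
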