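import Cfsg.Agent.Lib.Perm.TwoStab.Basic
import Cfsg.Agent.Lib.Perm.TwoStab.PSLCent
import Cfsg.Agent.Lib.Invol.GW.Consumers.Socle
import Cfsg.Agent.Lib.Invol.GW.Consumers.Dihedral
import Cfsg.Agent.Lib.Invol.GW.Dihedral.ThreeDoneFinal
import Cfsg.Agent.Lib.Invol.Core2.RankTwoPSL
import Cfsg.Agent.Lib.Invol.SmallCent.FourFixed
import Cfsg.Agent.Lib.Grp.PComponents
import Cfsg.Agent.Lib.Grp.Frattini
import Cfsg.Agent.Lib.Classical.PSLBinaryTorus

/-!
# A group with a four group as Sylow subgroup: orders of the centralisers of its involutions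

Brauer's formula for the four group on the core and the structure of the socle modulo the core give the order of
the group and of the centralisers in terms of two odd numbers and the field order.
-/

set_option autoImplicit false
set_option linter.unusedSectionVars false
set_option linter.style.haveILetI false

namespace Cfsg.Agent.Perm.TwoStab

open Subgroup

universe u₁

variable {K : Type u₁} [Group K]

theorem four_mem_cases {u v : K} (hu : u * u = 1) (hv : v * v = 1) (huv : u * v = v * u) {x : K}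
    (hx : x ∈ closure ({u, v} : Set K)) : x = 1 ∨ x = u ∨ x = v ∨ x = u * v := by
  have e1 : u * (u * v) = v := by rw [← mul_assoc, hu, one_mul]
  have e2 : v * (u * v) = u := by rw [huv, ← mul_assoc, hv, one_mul]
  have e3 : u * v * v = u := by rw [mul_assoc, hv, mul_one]
  have e4 : u * v * u = v := by rw [mul_assoc, ← huv, e1]
  have e5 : u * v * (u * v) = 1 := by rw [mul_assoc, e2, hu]
  induction hx using closure_induction with
  | mem x hx => rcases hx with rfl | rfl <;> simp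
  | one => simp
  | mul x y _ _ hx hy =>
    rcases hx with rfl | rfl | rfl | rfl <;> rcases hy with rfl | rfl | rfl | rfl <;>
      simp [hu, hv, huv.symm, e1, e2, e3, e4, e5]
  | inv x _ hx =>
    have hu' := inv_eq_of_mul_eq_one_right hu; have hv' := inv_eq_of_mul_eq_one_right hv
    rcases hx with rfl | rfl | rfl | rfl
    · simp
    · simp [hu']
    · simp [hv']
    · simp [hu', hv', huv]

theorem four_closure_card {u v : K} (hu : u * u = 1) (hv : v * v = 1) (huv : u * v = v * u) (hu1 : u ≠ 1)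
    (hv1 : v ≠ 1) (hne : u ≠ v) : Nat.card ↥(closure ({u, v} : Set K)) = 4 := by
  have hum : u ∈ closure ({u, v} : Set K) := subset_closure (by simp)
  have hvm : v ∈ closure ({u, v} : Set K) := subset_closure (by simp)
  have hset : ((closure ({u, v} : Set K) : Subgroup K) : Set K) = {1, u, v, u * v} := Set.ext fun x =>
    ⟨fun hx => by rcases four_mem_cases hu hv huv hx with e | e | e | e <;> simp [e], fun hx => by
      rcases hx with e | e | e | e <;> rw [e]
      exacts [one_mem _, hum, hvm, mul_mem hum hvm]⟩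
  rw [← SetLike.coe_sort_coe, Nat.card_coe_set_eq, hset, Set.ncard_insert_of_notMem, Set.ncard_insert_of_notMem,
    Set.ncard_pair]
  · exact fun e => hu1 (mul_eq_right.1 e.symm)
  · rintro (e | e)
    · exact hne e
    · exact hv1 (mul_eq_left.1 e.symm)
  · rintro (e | e | e)
    · exact hu1 e.symm
    · exact hv1 e.symm
    · exact hne (by
        calc u = u * (u * v) := by rw [← e, mul_one]
          _ = v := by rw [← mul_assoc, hu, one_mul])

theorem four_isPGroup {u v : K} (hu : u * u = 1) (hv : v * v = 1) (huv : u * v = v * u) :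
    IsPGroup 2 ↥(closure ({u, v} : Set K)) := fun x => ⟨1, Subtype.ext (by
  show (x : K) ^ 2 ^ 1 = 1
  rw [pow_one, pow_two]
  rcases four_mem_cases hu hv huv x.2 with e | e | e | e <;> rw [e]
  · exact one_mul 1
  · exact hu
  · exact hv
  · rw [mul_assoc, ← mul_assoc v, ← huv, mul_assoc u v v, hv, mul_one, hu])⟩

/-- Nothing interchanges two involutions of a four group fixing the third if the order is not divisible by eight. -/
theorem no_swap [Finite K] (h8 : ¬ 8 ∣ Nat.card K) {u v y : K} (hu : u * u = 1) (hv : v * v = 1)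
    (huv : u * v = v * u) (hu1 : u ≠ 1) (hv1 : v ≠ 1) (hne : u ≠ v) (hyu : y * u * y⁻¹ = u)
    (hyv : y * v * y⁻¹ = u * v) : False := by
  classical
  haveI : Fact (Nat.Prime 2) := ⟨Nat.prime_two⟩
  set V := closure ({u, v} : Set K) with hV
  obtain ⟨i, m, hm, hord⟩ := Nat.exists_eq_two_pow_mul_odd (orderOf_pos y).ne'
  set z := y ^ m with hz
  have hyn : ∀ n : ℕ, y ^ n * u * (y ^ n)⁻¹ = u ∧
      y ^ n * v * (y ^ n)⁻¹ = if Odd n then u * v else v := by
    intro n
    induction n with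
    | zero => simp
    | succ n ih =>
      refine ⟨?_, ?_⟩
      · rw [pow_succ', show y * y ^ n * u * (y * y ^ n)⁻¹ = y * (y ^ n * u * (y ^ n)⁻¹) * y⁻¹ by group, ih.1, hyu]
      · rw [pow_succ', show y * y ^ n * v * (y * y ^ n)⁻¹ = y * (y ^ n * v * (y ^ n)⁻¹) * y⁻¹ by group, ih.2]
        by_cases hn : Odd n
        · rw [if_pos hn, if_neg (by rw [Nat.odd_add_one]; exact fun e => e hn),
            show y * (u * v) * y⁻¹ = y * u * y⁻¹ * (y * v * y⁻¹) by group, hyu, hyv, ← mul_assoc, hu, one_mul]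
        · rw [if_neg hn, if_pos (Nat.odd_add_one.2 hn), hyv]
  have hzu : z * u * z⁻¹ = u := (hyn m).1
  have hzv : z * v * z⁻¹ = u * v := by rw [(hyn m).2, if_pos hm]
  have hum : u ∈ V := subset_closure (by simp)
  have hvm : v ∈ V := subset_closure (by simp)
  have hzV : ∀ x ∈ V, z * x * z⁻¹ ∈ V := by
    intro x hx
    rcases four_mem_cases hu hv huv hx with e | e | e | e <;> rw [e]
    · rw [show z * 1 * z⁻¹ = 1 by group]; exact one_mem _
    · rw [hzu]; exact hum
    · rw [hzv]; exact mul_mem hum hvm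
    · rw [show z * (u * v) * z⁻¹ = z * u * z⁻¹ * (z * v * z⁻¹) by group, hzu, hzv, ← mul_assoc, hu, one_mul]
      exact hvm
  have hnorm : zpowers z ≤ normalizer (V : Set K) := by
    rw [zpowers_le]
    refine mem_normalizer_fintype fun x hx => hzV x hx
  have hR : IsPGroup 2 ↥(zpowers z ⊔ V : Subgroup K) := by
    refine IsPGroup.to_sup_of_normal_right' (fun x => ⟨i, ?_⟩) (four_isPGroup hu hv huv) hnorm
    obtain ⟨j, hj⟩ := Subgroup.mem_zpowers_iff.1 x.2
    refine Subtype.ext ?_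
    show (x : K) ^ 2 ^ i = 1
    have h1 : z ^ 2 ^ i = 1 := by rw [hz, ← pow_mul, mul_comm, ← hord, pow_orderOf_eq_one]
    rw [← hj, ← zpow_natCast, ← zpow_mul, mul_comm, zpow_mul, zpow_natCast, h1, one_zpow]
  have hlt : V < zpowers z ⊔ V := lt_of_le_of_ne le_sup_right fun e => by
    have hzm : z ∈ V := e.ge (mem_sup_left (mem_zpowers z))
    have h1 : z * v = v * z := by
      rcases four_mem_cases hu hv huv hzm with e' | e' | e' | e' <;> rw [e']
      · simp
      · exact huv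
      · rw [mul_assoc, hv, ← mul_assoc, ← huv, mul_assoc, hv]
    rw [h1, mul_inv_cancel_right] at hzv
    exact hu1 (mul_eq_right.1 hzv.symm)
  obtain ⟨n, hn⟩ := hR.exists_card_eq
  have h4 := four_closure_card hu hv huv hu1 hv1 hne
  have h5 : Nat.card ↥V < Nat.card ↥(zpowers z ⊔ V : Subgroup K) := by
    refine lt_of_le_of_ne (Subgroup.card_le_of_le hlt.le) fun e => hlt.ne ?_
    exact Subgroup.eq_of_le_of_card_ge hlt.le e.ge
  rw [← hV] at h4
  rw [h4, hn] at h5
  refine h8 (dvd_trans ?_ ((dvd_of_eq hn.symm).trans (Subgroup.card_subgroup_dvd_card _)))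
  have h3 : 3 ≤ n := by
    by_contra hlt'
    have : (2 : ℕ) ^ n ≤ 2 ^ 2 := Nat.pow_le_pow_right two_pos (by omega)
    omega
  exact (show (8 : ℕ) = 2 ^ 3 by rfl) ▸ pow_dvd_pow 2 h3

/-- A subgroup covering a quotient: the order splits. -/
theorem card_sup_top_mul {L C : Subgroup K} [L.Normal] (h : L ⊔ C = ⊤) :
    Nat.card ↥(L ⊓ C : Subgroup K) * L.index = Nat.card ↥C := by
  have hidx : L.index = L.relIndex C := by
    rw [← relIndex_top_right, ← h, relIndex_sup_left]
  have h1 := (L.subgroupOf C).card_mul_index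
  rwa [← inf_subgroupOf_right, Nat.card_congr (subgroupOfEquivOfLe inf_le_right).toEquiv, inf_subgroupOf_right,
    ← relIndex, ← hidx] at h1

/-- The numbers of an almost simple group with Sylow four groups. -/
theorem bar_numbers [Finite K] (hO : Cfsg.oddCore K = ⊥) (hns : ¬ Group.IsSolvable K) {u v : K} (hu : u * u = 1)
    (hv : v * v = 1) (huv : u * v = v * u) (hu1 : u ≠ 1) (hv1 : v ≠ 1) (hne : u ≠ v) (h8 : ¬ 8 ∣ Nat.card K) :
    ∃ q Q q' ε : ℕ, 5 ≤ q ∧ ((q = Q + 1 ∧ q' = Q + 2) ∨ (Q = q + 1 ∧ q = q' + 1)) ∧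
      Nat.card ↥(centralizer ({u} : Set K)) = Q * ε ∧
      Nat.card ↥(centralizer ({u} : Set K) ⊓ centralizer ({v} : Set K) : Subgroup K) = 4 * ε ∧
      2 * Nat.card K = q * (Q * q') * ε ∧
      ∃ L : Subgroup K, L.Normal ∧ IsSimpleGroup ↥L ∧ centralizer (L : Set K) = ⊥ ∧
        2 * Nat.card ↥L = q * (Q * q') ∧ L.index = ε := by
  classical
  haveI : Fact (Nat.Prime 2) := ⟨Nat.prime_two⟩
  set V := closure ({u, v} : Set K) with hV
  have hum : u ∈ V := subset_closure (by simp)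
  have hvm : v ∈ V := subset_closure (by simp)
  have h4 : Nat.card ↥V = 4 := four_closure_card hu hv huv hu1 hv1 hne
  obtain ⟨T, hT⟩ := (four_isPGroup hu hv huv).exists_le_sylow
  have hTV : (T : Subgroup K) = V := by
    refine (Subgroup.eq_of_le_of_card_ge hT ?_).symm
    rw [h4]
    obtain ⟨n, hn⟩ := T.isPGroup'.exists_card_eq
    rw [hn]
    have h3 : n ≤ 2 := by
      by_contra hlt
      exact h8 (dvd_trans ((show (8 : ℕ) = 2 ^ 3 by rfl) ▸ pow_dvd_pow 2 (by omega : 3 ≤ n))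
        (hn ▸ Subgroup.card_subgroup_dvd_card _))
    exact Nat.pow_le_pow_right two_pos h3
  haveI : IsKleinFour ↥(T : Subgroup K) :=
    { card_four := by rw [hTV, h4]
      exponent_two := by
        haveI : Nontrivial ↥(T : Subgroup K) := ⟨⟨⟨u, hT hum⟩, 1, fun e => hu1 (congrArg Subtype.val e)⟩⟩
        refine (Monoid.exponent_eq_prime_iff Nat.prime_two).2 fun x hx1 => orderOf_two_iff.2 ⟨Subtype.ext ?_, hx1⟩
        show (x : K) * x = 1
        rcases four_mem_cases hu hv huv (hTV ▸ x.2 : (x : K) ∈ V) with e | e | e | e <;> rw [e]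
        · exact one_mul 1
        · exact hu
        · exact hv
        · rw [mul_assoc, ← mul_assoc v, ← huv, mul_assoc u v v, hv, mul_one, hu] }
  obtain ⟨e⟩ := IsKleinFour.nonempty_mulEquiv (G₁ := ↥(T : Subgroup K)) (G₂ := DihedralGroup 2)
  obtain ⟨L, hLn, hmodel, hLc⟩ := Invol.GW.exists_socle Invol.GW.Dihedral.gwStatement_holds hO hns T e
  haveI := hLn
  have hLs : IsSimpleGroup ↥L := Invol.GW.isSimple_of_model hmodel
  rcases hmodel with ⟨F, hF, hFf, hodd, h3, ⟨φ⟩⟩ | ⟨⟨φ⟩⟩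
  swap
  · exfalso
    refine h8 (dvd_trans ?_ (Subgroup.card_subgroup_dvd_card L))
    rw [Nat.card_congr φ.toEquiv, nat_card_alternatingGroup, Nat.card_eq_fintype_card, Fintype.card_fin]
    decide
  obtain ⟨k, hk⟩ := hodd
  have h5 : 5 ≤ Fintype.card F := by omega
  have hVL : V ≤ L := by
    obtain ⟨P⟩ := (inferInstance : Nonempty (Sylow 2 ↥L))
    set P' := (P : Subgroup ↥L).map L.subtype with hP'
    obtain ⟨S, hS⟩ := (P.isPGroup'.map L.subtype).exists_le_sylow
    have hcard : 4 ≤ Nat.card ↥P' := by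
      rw [hP', Nat.card_congr ((P : Subgroup ↥L).equivMapOfInjective L.subtype L.subtype_injective).toEquiv.symm]
      refine Nat.le_of_dvd Nat.card_pos ((show (4 : ℕ) = 2 ^ 2 by rfl) ▸ P.pow_dvd_card_of_pow_dvd_card ?_)
      rw [Nat.card_congr φ.toEquiv]
      exact Invol.Core2.RankTwo.four_dvd_psl ⟨k, hk⟩
    have hSP : P' = (S : Subgroup K) := Subgroup.eq_of_le_of_card_ge hS (le_trans (le_of_eq (by
      rw [Sylow.card_eq_multiplicity, ← Sylow.card_eq_multiplicity T, IsKleinFour.card_four])) hcard)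
    obtain ⟨g, hg⟩ := MulAction.exists_smul_eq K S T
    intro x hx
    have hx' : x ∈ ((g • S : Sylow 2 K) : Subgroup K) := by rw [hg]; exact hT hx
    rw [Sylow.coe_subgroup_smul] at hx'
    obtain ⟨y, hy, rfl⟩ := hx'
    rw [← hSP] at hy
    obtain ⟨z, -, rfl⟩ := hy
    exact hLn.conj_mem z z.2 g
  have huo : orderOf u = 2 := orderOf_two_iff.2 ⟨hu, hu1⟩
  obtain ⟨x, hxL, hxu, hux, hinv, hvx, hcover, hCL, hq1, hq3⟩ :=
    psl_centralizer L ⟨k, hk⟩ h5 φ (hVL hum) (hVL hvm) huo (orderOf_two_iff.2 ⟨hv, hv1⟩) huv hne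
  set C := centralizer ({u} : Set K) with hC
  set D := centralizer ({u} : Set K) ⊓ centralizer ({v} : Set K) with hD
  have hv' : v⁻¹ = v := inv_eq_of_mul_eq_one_right hv
  have hpow : ∀ i : ℤ, v * x ^ i * v = (x ^ i)⁻¹ := fun i => by
    have h1 : v * x ^ i * v⁻¹ = (x ^ i)⁻¹ := by rw [← conj_zpow, hinv, inv_zpow]
    rwa [hv'] at h1
  obtain ⟨r, hr⟩ := Subgroup.mem_zpowers_iff.1 hux
  have hxi2 : ∀ i : ℤ, x ^ i * x ^ i = 1 → x ^ i = 1 ∨ x ^ i = u := by
    intro i hi
    have h1 : (orderOf x : ℤ) ∣ 2 * i := by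
      rw [orderOf_dvd_iff_zpow_eq_one, two_mul, zpow_add, hi]
    have h2 : (orderOf x : ℤ) ∣ 2 * r := by
      rw [orderOf_dvd_iff_zpow_eq_one, two_mul, zpow_add, hr, hu]
    obtain ⟨c₁, hc₁⟩ := h1
    obtain ⟨c₂, hc₂⟩ := h2
    have hodd2 : ¬ 2 ∣ c₂ := by
      rintro ⟨c, rfl⟩
      refine hu1 ?_
      rw [← hr, ← orderOf_dvd_iff_zpow_eq_one]
      exact ⟨c, by linarith⟩
    rcases Int.even_or_odd c₁ with ⟨c, hc⟩ | ⟨c, hc⟩
    · left
      rw [← orderOf_dvd_iff_zpow_eq_one]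
      exact ⟨c, by rw [hc] at hc₁; linarith⟩
    · right
      obtain ⟨d, hd⟩ := Int.not_even_iff_odd.1 (fun h => hodd2 (even_iff_two_dvd.1 h))
      rw [← hr, zpow_eq_zpow_iff_modEq, Int.modEq_iff_dvd]
      exact ⟨d - c, by rw [hc] at hc₁; rw [hd] at hc₂; linarith⟩
  have hLD : Nat.card ↥(L ⊓ D : Subgroup K) = 4 := by
    rw [show L ⊓ D = V from le_antisymm ?_ (le_inf hVL (le_inf
      ((closure_le _).2 (Set.insert_subset (mem_centralizer_singleton_iff.2 rfl)
        (Set.singleton_subset_iff.2 (mem_centralizer_singleton_iff.2 huv.symm))))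
      ((closure_le _).2 (Set.insert_subset (mem_centralizer_singleton_iff.2 huv)
        (Set.singleton_subset_iff.2 (mem_centralizer_singleton_iff.2 rfl))))))]
    · exact h4
    rintro g ⟨hgL, hgu, hgv⟩
    have hgv' := mem_centralizer_singleton_iff.1 hgv
    rcases hcover g hgL (mem_centralizer_singleton_iff.1 hgu) with hg | hg <;>
      obtain ⟨i, hi⟩ := Subgroup.mem_zpowers_iff.1 hg
    · have h1 : g * g = 1 := by
        have h2 := hpow i
        rw [hi, ← hgv', mul_assoc, hv, mul_one] at h2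
        exact mul_eq_one_iff_eq_inv.2 h2
      rw [← hi] at h1 ⊢
      rcases hxi2 i h1 with e' | e' <;> rw [e']
      exacts [one_mem _, hum]
    · have hgv2 : g * v * v = g := by rw [mul_assoc, hv, mul_one]
      have h1 : g * v * (g * v) = 1 := by
        have h2 := hpow i
        rw [hi, ← mul_assoc v g v, ← hgv', hgv2] at h2
        exact mul_eq_one_iff_eq_inv.2 h2
      rw [← hgv2]
      rw [← hi] at h1 ⊢
      rcases hxi2 i h1 with e' | e' <;> rw [e']
      exacts [by rw [one_mul]; exact hvm, mul_mem hum hvm]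
  have h2F : (2 : F) ≠ 0 := by
    intro e'
    haveI : CharP F 2 := CharTwo.of_one_ne_zero_of_two_eq_zero one_ne_zero e'
    have := FiniteField.even_card_of_char_two (F := F) (ringChar.eq F 2)
    omega
  have hsupC : L ⊔ C = ⊤ := by
    refine eq_top_iff.2 fun g _ => ?_
    have hgu : g * u * g⁻¹ ∈ L := hLn.conj_mem u (hVL hum) g
    obtain ⟨l, hl⟩ := PSLBin.invol_conj h2F (x := φ ⟨g * u * g⁻¹, hgu⟩) (y := φ ⟨u, hVL hum⟩)
      (by rw [← map_mul]; exact (congrArg φ (Subtype.ext (show g * u * g⁻¹ * (g * u * g⁻¹) = 1 by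
        rw [show g * u * g⁻¹ * (g * u * g⁻¹) = g * (u * u) * g⁻¹ by group, hu]; group))).trans φ.map_one)
      (fun e' => hu1 (by
        have := congrArg Subtype.val (φ.injective (e'.trans φ.map_one.symm))
        simpa using this))
      (by rw [← map_mul]; exact (congrArg φ (Subtype.ext hu)).trans φ.map_one)
      (fun e' => hu1 (congrArg Subtype.val (φ.injective (e'.trans φ.map_one.symm))))
    have h1 : ((φ.symm l : ↥L) : K) * (g * u * g⁻¹) * ((φ.symm l : ↥L) : K)⁻¹ = u := by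
      have := congrArg (fun z => ((φ.symm z : ↥L) : K)) hl
      simpa using this
    have h2 : ((φ.symm l : ↥L) : K) * g ∈ C := mem_centralizer_singleton_iff.2 (mul_inv_eq_iff_eq_mul.1 (by
      rw [show ((φ.symm l : ↥L) : K) * g * u * (((φ.symm l : ↥L) : K) * g)⁻¹ =
        ((φ.symm l : ↥L) : K) * (g * u * g⁻¹) * ((φ.symm l : ↥L) : K)⁻¹ by group, h1]))
    rw [show g = ((φ.symm l : ↥L) : K)⁻¹ * (((φ.symm l : ↥L) : K) * g) by rw [inv_mul_cancel_left]]
    exact Subgroup.mul_mem_sup (L.inv_mem (φ.symm l).2) h2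
  have hm : orderOf x % 2 = 0 := by
    have h1 := orderOf_dvd_natCard (G := ↥(zpowers x)) ⟨u, hux⟩
    rw [Subgroup.orderOf_mk, huo, Nat.card_zpowers] at h1
    omega
  have hsupD : L ⊔ D = ⊤ := by
    rw [eq_top_iff, ← hsupC]
    refine sup_le le_sup_left fun c hc => ?_
    have hcu : Commute c u := mem_centralizer_singleton_iff.1 hc
    have hcL : c * v * c⁻¹ ∈ L := hLn.conj_mem v (hVL hvm) c
    have hcvu : c * v * c⁻¹ * u = u * (c * v * c⁻¹) :=
      ((hcu.mul_left (show Commute v u from huv.symm)).mul_left hcu.inv_left).eq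
    have hcv2 : c * v * c⁻¹ * (c * v * c⁻¹) = 1 := by
      rw [show c * v * c⁻¹ * (c * v * c⁻¹) = c * (v * v) * c⁻¹ by group, hv]; group
    rcases hcover _ hcL hcvu with hg | hg <;> obtain ⟨i, hi⟩ := Subgroup.mem_zpowers_iff.1 hg
    · exfalso
      rcases hxi2 i (by rw [hi, hcv2]) with e' | e' <;> rw [hi] at e'
      · exact hv1 (by rwa [mul_inv_eq_one, mul_eq_left] at e')
      · rw [mul_inv_eq_iff_eq_mul, ← hcu.eq] at e'
        exact hne (mul_left_cancel e').symm
    · have hform : c * v * c⁻¹ = x ^ i * v := by rw [hi, mul_assoc (c * v * c⁻¹), hv, mul_one]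
      obtain ⟨m, hm'⟩ : 2 ∣ orderOf x := Nat.dvd_of_mod_eq_zero hm
      -- move back by a power of `x`
      obtain ⟨j, hj⟩ : ∃ j : ℤ, x ^ (2 * j) * x ^ i = 1 ∨ x ^ (2 * j) * x ^ i = u := by
        rcases Int.even_or_odd i with ⟨i', hi'⟩ | ⟨i', hi'⟩
        · exact ⟨-i', Or.inl (by rw [← zpow_add, hi']; rw [show 2 * -i' + (i' + i') = 0 by ring, zpow_zero])⟩
        · rcases Int.even_or_odd r with ⟨r', hr'⟩ | ⟨r', hr'⟩
          · -- then `u` is a square
            exfalso
            have h4x : orderOf x % 4 ≠ 0 := fun h => by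
              have hd : (8 : ℕ) ∣ Nat.card ↥(L ⊓ C : Subgroup K) := by rw [hCL]; omega
              exact h8 (hd.trans (Subgroup.card_subgroup_dvd_card _))
            have h2r : (orderOf x : ℤ) ∣ 2 * r := by
              rw [orderOf_dvd_iff_zpow_eq_one, two_mul, zpow_add, hr, hu]
            obtain ⟨c₂, hc₂⟩ := h2r
            refine hu1 ?_
            rw [← hr, ← orderOf_dvd_iff_zpow_eq_one]
            have hmodd : (m : ℤ) % 2 = 1 := by omega
            rcases Int.even_or_odd c₂ with ⟨c, hc'⟩ | ⟨c, hc'⟩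
            · exact ⟨c, by rw [hc'] at hc₂; linarith⟩
            · exfalso
              rw [hc', hm'] at hc₂
              push_cast at hc₂
              have : (r : ℤ) = m * (2 * c + 1) := by linarith
              have h1 : Odd r := this ▸ Int.odd_mul.2 ⟨Int.odd_iff.2 hmodd, ⟨c, rfl⟩⟩
              exact (Int.not_odd_iff_even.2 ⟨r', hr'⟩) h1
          · refine ⟨r' - i', Or.inr ?_⟩
            rw [← zpow_add, hi', show 2 * (r' - i') + (2 * i' + 1) = r by omega, hr]
      set c' := x ^ j * c with hc'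
      have hxju : Commute (x ^ j) u := (show Commute x u from hxu).zpow_left j
      have hc'u : c' * u * c'⁻¹ = u := by
        rw [mul_inv_eq_iff_eq_mul]; exact (hxju.mul_left hcu).eq
      have hc'v : c' * v * c'⁻¹ = x ^ (2 * j) * x ^ i * v := by
        rw [show c' * v * c'⁻¹ = x ^ j * (c * v * c⁻¹) * (x ^ j)⁻¹ by rw [hc']; group, hform]
        have h1 := hpow j
        have h2 : v * (x ^ j)⁻¹ = x ^ j * v := by
          calc v * (x ^ j)⁻¹ = v * (v * x ^ j * v) := by rw [h1]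
            _ = v * v * (x ^ j * v) := by group
            _ = _ := by rw [hv, one_mul]
        rw [mul_assoc, mul_assoc (x ^ i), h2, ← mul_assoc (x ^ i), ← mul_assoc (x ^ j), ← zpow_add, ← zpow_add,
          ← zpow_add]
        congr 2; ring
      rcases hj with e' | e' <;> rw [e'] at hc'v
      · rw [one_mul] at hc'v
        rw [show c = x ^ (-j) * c' by rw [hc', zpow_neg, inv_mul_cancel_left]]
        exact Subgroup.mul_mem_sup (L.zpow_mem hxL _) ⟨mem_centralizer_singleton_iff.2 (mul_inv_eq_iff_eq_mul.1 hc'u),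
          mem_centralizer_singleton_iff.2 (mul_inv_eq_iff_eq_mul.1 hc'v)⟩
      · exact (no_swap h8 hu hv huv hu1 hv1 hne hc'u hc'v).elim
  have hCcard := card_sup_top_mul hsupC
  have hDcard := card_sup_top_mul hsupD
  rw [hLD] at hDcard
  rw [hCL] at hCcard
  have hPSL := Invol.GW.card_PSLTwo (F := F) ⟨k, hk⟩
  rw [← Nat.card_congr φ.toEquiv] at hPSL
  rcases (show Fintype.card F % 4 = 1 ∨ Fintype.card F % 4 = 3 by omega) with hq | hq
  · have hx1 := hq1 hq
    refine ⟨Fintype.card F, 2 * orderOf x, Fintype.card F + 1, L.index, h5, Or.inl ⟨hx1.symm, by omega⟩, hCcard.symm,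
      hDcard.symm, ?_, L, hLn, hLs, hLc, by rw [hPSL, show Fintype.card F - 1 = 2 * orderOf x by omega], rfl⟩
    rw [← L.card_mul_index, ← mul_assoc 2, hPSL, show Fintype.card F - 1 = 2 * orderOf x by omega]
  · have hx1 := hq3 hq
    refine ⟨Fintype.card F, 2 * orderOf x, Fintype.card F - 1, L.index, h5, Or.inr ⟨hx1, by omega⟩, hCcard.symm,
      hDcard.symm, ?_, L, hLn, hLs, hLc, by rw [hPSL, hx1]; ring, rfl⟩
    rw [← L.card_mul_index, ← mul_assoc 2, hPSL, hx1]
    ring

/-- The numbers of a solvable group with Sylow four groups, trivial core and one class of involutions. -/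
theorem bar_solvable [Finite K] (hO : Cfsg.oddCore K = ⊥) (hs : Group.IsSolvable K) {u v : K} (hu : u * u = 1)
    (hv : v * v = 1) (huv : u * v = v * u) (hu1 : u ≠ 1) (hv1 : v ≠ 1) (hne : u ≠ v) (h8 : ¬ 8 ∣ Nat.card K)
    (hcv : ∃ d : K, d * u * d⁻¹ = v) (hcuv : ∃ d : K, d * u * d⁻¹ = u * v) :
    ∃ ε : ℕ, Nat.card ↥(centralizer ({u} : Set K)) = 4 * ε ∧
      Nat.card ↥(centralizer ({u} : Set K) ⊓ centralizer ({v} : Set K) : Subgroup K) = 4 * ε ∧
      2 * Nat.card K = 3 * (4 * 2) * ε := by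
  classical
  haveI : Fact (Nat.Prime 2) := ⟨Nat.prime_two⟩
  set V := closure ({u, v} : Set K) with hV
  have hum : u ∈ V := subset_closure (by simp)
  have hvm : v ∈ V := subset_closure (by simp)
  have h4 : Nat.card ↥V = 4 := four_closure_card hu hv huv hu1 hv1 hne
  -- an abelian normal subgroup
  obtain ⟨A, hAn, hA1, hAab⟩ : ∃ A : Subgroup K, A.Normal ∧ A ≠ ⊥ ∧ ⁅A, A⁆ = ⊥ := by
    obtain ⟨n, hn⟩ := hs.solvable
    have hP : ∃ m, derivedSeries K m = ⊥ := ⟨n, hn⟩
    obtain ⟨m, hm⟩ : ∃ m, Nat.find hP = m + 1 := by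
      refine ⟨Nat.find hP - 1, (Nat.succ_pred_eq_of_pos ((Nat.find_pos hP).2 ?_)).symm⟩
      intro e
      rw [derivedSeries_zero] at e
      exact hu1 ((Subgroup.mem_bot).1 (e ▸ mem_top u))
    refine ⟨derivedSeries K m, derivedSeries_normal K m, Nat.find_min hP (hm ▸ Nat.lt_succ_self m), ?_⟩
    have h2 := Nat.find_spec hP
    rwa [hm, derivedSeries_succ] at h2
  have hcomm : ∀ x ∈ A, ∀ y ∈ A, x * y = y * x := fun x hx y hy =>
    (mem_centralizer_iff.1 (commutator_eq_bot_iff_le_centralizer.1 hAab hy) x hx)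
  have h2A : 2 ∣ Nat.card ↥A := by
    by_contra h2
    have h1 : A ≤ Cfsg.oddCore K :=
      Grp.le_pPrimeCore hAn ((Nat.prime_two.coprime_iff_not_dvd.2 h2).symm)
    rw [hO, le_bot_iff] at h1
    exact hA1 h1
  obtain ⟨z, hz⟩ := exists_prime_orderOf_dvd_card' (G := ↥A) 2 h2A
  have hzK : orderOf (z : K) = 2 := by rw [Subgroup.orderOf_coe, hz]
  let E : Subgroup K :=
    { carrier := {x | x ∈ A ∧ x * x = 1}
      one_mem' := ⟨one_mem _, one_mul 1⟩
      mul_mem' := fun {x y} hx hy => ⟨mul_mem hx.1 hy.1, by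
        rw [mul_assoc, ← mul_assoc y x y, hcomm y hy.1 x hx.1, mul_assoc x y y, hy.2, mul_one, hx.2]⟩
      inv_mem' := fun {x} hx => ⟨inv_mem hx.1, by
        rw [inv_eq_of_mul_eq_one_right hx.2]; exact hx.2⟩ }
  have hEn : E.Normal := ⟨fun x hx g => ⟨hAn.conj_mem x hx.1 g, by
    rw [show g * x * g⁻¹ * (g * x * g⁻¹) = g * (x * x) * g⁻¹ by group, hx.2]; group⟩⟩
  have hEp : IsPGroup 2 ↥E := fun x => ⟨1, Subtype.ext (by
    show (x : K) ^ 2 ^ 1 = 1
    rw [pow_one, pow_two]; exact x.2.2)⟩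
  obtain ⟨T, hT⟩ := (four_isPGroup hu hv huv).exists_le_sylow
  have hTV : (T : Subgroup K) = V := by
    refine (Subgroup.eq_of_le_of_card_ge hT ?_).symm
    rw [h4]
    obtain ⟨n, hn⟩ := T.isPGroup'.exists_card_eq
    rw [hn]
    have h3 : n ≤ 2 := by
      by_contra hlt
      exact h8 (dvd_trans ((show (8 : ℕ) = 2 ^ 3 by rfl) ▸ pow_dvd_pow 2 (by omega : 3 ≤ n))
        (hn ▸ Subgroup.card_subgroup_dvd_card _))
    exact Nat.pow_le_pow_right two_pos h3
  have hEV : E ≤ V := hTV ▸ hEp.le_sylow_of_normal T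
  have hzE : (z : K) ∈ E := ⟨z.2, (orderOf_two_iff.1 hzK).1⟩
  obtain ⟨d1, hd1⟩ := hcv
  obtain ⟨d2, hd2⟩ := hcuv
  have huE : u ∈ E := by
    rcases four_mem_cases hu hv huv (hEV hzE) with e | e | e | e
    · exact absurd e (orderOf_two_iff.1 hzK).2
    · exact e ▸ hzE
    · have := hEn.conj_mem _ hzE d1⁻¹
      rwa [e, ← hd1, show d1⁻¹ * (d1 * u * d1⁻¹) * d1⁻¹⁻¹ = u by group] at this
    · have := hEn.conj_mem _ hzE d2⁻¹
      rwa [e, ← hd2, show d2⁻¹ * (d2 * u * d2⁻¹) * d2⁻¹⁻¹ = u by group] at this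
  have hVeq : E = V := le_antisymm hEV ((closure_le _).2 (Set.insert_subset huE
    (Set.singleton_subset_iff.2 (hd1 ▸ hEn.conj_mem u huE d1))))
  have hVn : V.Normal := hVeq ▸ hEn
  have hcases : ∀ g : K, g * u * g⁻¹ = u ∨ g * u * g⁻¹ = v ∨ g * u * g⁻¹ = u * v := fun g => by
    rcases four_mem_cases hu hv huv (hVn.conj_mem u hum g) with e | e
    · exact absurd (by rwa [mul_inv_eq_one, mul_eq_left] at e) hu1
    · exact e
  have hCeq : centralizer ({u} : Set K) ≤ centralizer ({v} : Set K) := fun g hg => by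
    have hgu : g * u = u * g := mem_centralizer_singleton_iff.1 hg
    rcases four_mem_cases hu hv huv (hVn.conj_mem v hvm g) with e | e | e | e
    · exact absurd (by rwa [mul_inv_eq_one, mul_eq_left] at e) hv1
    · rw [mul_inv_eq_iff_eq_mul, ← hgu] at e
      exact absurd (mul_left_cancel e).symm hne
    · exact mem_centralizer_singleton_iff.2 (mul_inv_eq_iff_eq_mul.1 e)
    · exact (no_swap h8 hu hv huv hu1 hv1 hne (mul_inv_eq_iff_eq_mul.2 hgu) e).elim
  obtain ⟨ε, hε⟩ : 4 ∣ Nat.card ↥(centralizer ({u} : Set K)) := by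
    rw [← h4]
    refine card_dvd_of_le ((closure_le _).2 (Set.insert_subset (mem_centralizer_singleton_iff.2 rfl) ?_))
    exact Set.singleton_subset_iff.2 (mem_centralizer_singleton_iff.2 huv.symm)
  refine ⟨ε, hε, by rw [inf_eq_left.2 hCeq, hε], ?_⟩
  have hcard : Nat.card (Fin 3 × ↥(centralizer ({u} : Set K))) = Nat.card K := by
    refine Nat.card_congr (Equiv.ofBijective (fun q => ![1, d1, d2] q.1 * (q.2 : K)) ⟨?_, ?_⟩)
    · rintro ⟨i, c⟩ ⟨j, c'⟩ e
      have e1 := congrArg (fun g => g * u * g⁻¹) e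
      have hc' : ∀ (d : K) (c : ↥(centralizer ({u} : Set K))), d * (c : K) * u * (d * (c : K))⁻¹ = d * u * d⁻¹ :=
        fun d c => by
          rw [show d * (c : K) * u * (d * (c : K))⁻¹ = d * ((c : K) * u * (c : K)⁻¹) * d⁻¹ by group,
            mul_inv_eq_iff_eq_mul.2 (mem_centralizer_singleton_iff.1 c.2)]
      simp only [hc'] at e1
      have h1 : v ≠ u * v := fun e' => hu1 (mul_eq_right.1 e'.symm)
      have h2 : u ≠ u * v := fun e' => hv1 (mul_eq_left.1 e'.symm)
      have hval : ∀ i : Fin 3, ![1, d1, d2] i * u * (![1, d1, d2] i)⁻¹ = ![u, v, u * v] i := fun i => by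
        fin_cases i <;> simp [hd1, hd2]
      have key : ∀ i j : Fin 3, ![u, v, u * v] i = ![u, v, u * v] j → i = j := fun i j => by
        fin_cases i <;> fin_cases j <;> simp [hne, hne.symm, h1, h1.symm, h2, h2.symm, hu1, hv1]
      obtain rfl := key i j (by rw [← hval i, ← hval j]; exact e1)
      exact Prod.ext rfl (Subtype.ext (mul_left_cancel e))
    · intro g
      rcases hcases g with e | e | e
      · exact ⟨(0, ⟨g, mem_centralizer_singleton_iff.2 (mul_inv_eq_iff_eq_mul.1 e)⟩), by simp⟩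
      · refine ⟨(1, ⟨d1⁻¹ * g, mem_centralizer_singleton_iff.2 ?_⟩), by simp⟩
        rw [← hd1, mul_inv_eq_iff_eq_mul] at e
        calc d1⁻¹ * g * u = d1⁻¹ * (g * u) := mul_assoc _ _ _
          _ = _ := by rw [e]; group
      · refine ⟨(2, ⟨d2⁻¹ * g, mem_centralizer_singleton_iff.2 ?_⟩), by simp⟩
        rw [← hd2, mul_inv_eq_iff_eq_mul] at e
        calc d2⁻¹ * g * u = d2⁻¹ * (g * u) := mul_assoc _ _ _
          _ = _ := by rw [e]; group
  rw [Nat.card_prod, Nat.card_eq_fintype_card (α := Fin 3), Fintype.card_fin, hε] at hcard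
  omega

/-- The order of a subgroup splits along a quotient. -/
theorem card_map_mul (O C : Subgroup K) [O.Normal] :
    Nat.card ↥(C.map (QuotientGroup.mk' O)) * Nat.card ↥(O ⊓ C : Subgroup K) = Nat.card ↥C := by
  let f := (QuotientGroup.mk' O).comp C.subtype
  have h1 := f.ker.card_mul_index
  rw [Subgroup.index_ker, show f.ker = O.subgroupOf C by
    rw [← MonoidHom.comap_ker, QuotientGroup.ker_mk']; rfl, ← inf_subgroupOf_right,
    Nat.card_congr (subgroupOfEquivOfLe inf_le_right).toEquiv, show f.range = C.map (QuotientGroup.mk' O) by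
    rw [MonoidHom.range_eq_map, ← Subgroup.map_map, ← MonoidHom.range_eq_map, Subgroup.range_subtype]] at h1
  rw [mul_comm]; exact h1

/-- The numbers of a group with Sylow four groups and one class of involutions. -/
theorem core_numbers_gen [Finite K] {u v : K} (hu : u * u = 1)
    (hv : v * v = 1) (huv : u * v = v * u) (hu1 : u ≠ 1) (hv1 : v ≠ 1) (hne : u ≠ v) (h8 : ¬ 8 ∣ Nat.card K)
    (hcv : ∃ d : K, d * u * d⁻¹ = v) (hcuv : ∃ d : K, d * u * d⁻¹ = u * v) :
    ∃ k q Q q' : ℕ, Odd k ∧ ((q = Q + 1 ∧ q' = Q + 2) ∨ (Q = q + 1 ∧ q = q' + 1)) ∧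
      (∃ N : Subgroup K, ∃ _ : N.Normal, N = Cfsg.oddCore K ∧ ((q = 3 ∧ Q = 4 ∧ q' = 2 ∧ Group.IsSolvable (K ⧸ N)) ∨
        (5 ≤ q ∧ ∃ L : Subgroup (K ⧸ N), L.Normal ∧ IsSimpleGroup ↥L ∧ centralizer (L : Set (K ⧸ N)) = ⊥ ∧
          2 * Nat.card ↥L = q * (Q * q')))) ∧
      k * Q * Nat.card ↥(centralizer ({u} : Set K) ⊓ centralizer ({v} : Set K) : Subgroup K) =
        4 * Nat.card ↥(centralizer ({u} : Set K)) ∧
      2 * Nat.card K = k ^ 2 * Nat.card ↥(centralizer ({u} : Set K)) * (q * q') := by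
  classical
  haveI : Fact (Nat.Prime 2) := ⟨Nat.prime_two⟩
  haveI hOn : (Cfsg.oddCore K).Normal := Grp.pPrimeCore_isNormal
  set O := Cfsg.oddCore K with hO
  set π := QuotientGroup.mk' O with hπ
  have hOodd : Odd (Nat.card ↥O) := by
    rw [← Nat.not_even_iff_odd, even_iff_two_dvd]
    exact Grp.pPrimeCore_not_dvd
  have hOinv : ∀ x ∈ O, x * x = 1 → x = 1 := fun x hx hx2 => by
    by_contra hx1
    have h1 := Subgroup.orderOf_dvd_natCard _ hx
    rw [orderOf_two_iff.2 ⟨hx2, hx1⟩] at h1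
    exact (Nat.not_even_iff_odd.2 hOodd) (even_iff_two_dvd.2 h1)
  have hπne : ∀ x : K, x * x = 1 → x ≠ 1 → π x ≠ 1 := fun x hx2 hx1 e =>
    hx1 (hOinv x ((QuotientGroup.eq_one_iff _).1 e) hx2)
  have hmul : ∀ x y : K, π x * π y = π (x * y) := fun x y => (map_mul π x y).symm
  have hne' : π u ≠ π v := fun e => by
      refine hπne (u * v) ?_ ?_ ?_
      · rw [mul_assoc, ← mul_assoc v, ← huv, mul_assoc u v v, hv, mul_one, hu]
      · intro e'
        exact hne (by
          calc u = u * (u * v) := by rw [e', mul_one]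
            _ = v := by rw [← mul_assoc, hu, one_mul])
      · rw [map_mul, ← e, hmul, hu, map_one]
  have h8' : ¬ 8 ∣ Nat.card (K ⧸ O) := fun e => h8 (e.trans (Subgroup.card_quotient_dvd_card O))
  obtain ⟨q, Q, q', ε, hshape, hCu, hCV, hK, hinfo⟩ : ∃ q Q q' ε : ℕ,
      ((q = Q + 1 ∧ q' = Q + 2) ∨ (Q = q + 1 ∧ q = q' + 1)) ∧
      Nat.card ↥(centralizer ({π u} : Set (K ⧸ O))) = Q * ε ∧
      Nat.card ↥(centralizer ({π u} : Set (K ⧸ O)) ⊓ centralizer ({π v} : Set (K ⧸ O)) : Subgroup (K ⧸ O)) = 4 * ε ∧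
      2 * Nat.card (K ⧸ O) = q * (Q * q') * ε ∧
      ((q = 3 ∧ Q = 4 ∧ q' = 2 ∧ Group.IsSolvable (K ⧸ O)) ∨ (5 ≤ q ∧ ∃ L : Subgroup (K ⧸ O), L.Normal ∧ IsSimpleGroup ↥L ∧
        centralizer (L : Set (K ⧸ O)) = ⊥ ∧ 2 * Nat.card ↥L = q * (Q * q'))) := by
    by_cases hs : Group.IsSolvable (K ⧸ O)
    · obtain ⟨ε, h1, h2, h3⟩ := bar_solvable (K := K ⧸ O) (Grp.pPrimeCore_quotient_eq_bot) hs
        (u := π u) (v := π v) (by rw [hmul, hu, map_one]) (by rw [hmul, hv, map_one]) (by rw [hmul, hmul, huv])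
        (hπne u hu hu1) (hπne v hv hv1) hne' h8'
        (hcv.elim fun d hd => ⟨π d, by rw [← map_inv, hmul, hmul, hd]⟩)
        (hcuv.elim fun d hd => ⟨π d, by rw [← map_inv, hmul, hmul, hd, map_mul]⟩)
      exact ⟨3, 4, 2, ε, Or.inr ⟨rfl, rfl⟩, h1, h2, h3, Or.inl ⟨rfl, rfl, rfl, hs⟩⟩
    · obtain ⟨q, Q, q', ε, h5, h0, h1, h2, h3, L, hL1, hL2, hL3, hL4, -⟩ := bar_numbers (K := K ⧸ O)
        (Grp.pPrimeCore_quotient_eq_bot) hs (u := π u) (v := π v) (by rw [hmul, hu, map_one])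
        (by rw [hmul, hv, map_one]) (by rw [hmul, hmul, huv]) (hπne u hu hu1) (hπne v hv hv1) hne' h8'
      exact ⟨q, Q, q', ε, h0, h1, h2, h3, Or.inr ⟨h5, L, hL1, hL2, hL3, hL4⟩⟩
  have hmapu : (centralizer ({u} : Set K)).map π = centralizer ({π u} : Set (K ⧸ O)) := by
    have h1 := Grp.map_centralizer_pGroup (p := 2) (P := closure ({u} : Set K)) (fun x => ⟨1, Subtype.ext (by
      show (x : K) ^ 2 ^ 1 = 1
      obtain ⟨i, hi⟩ := Subgroup.mem_closure_singleton.1 x.2
      rw [pow_one, ← hi, ← zpow_natCast, ← zpow_mul, mul_comm, zpow_mul, zpow_natCast, pow_two, hu, one_zpow])⟩)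
    rw [Subgroup.centralizer_closure, MonoidHom.map_closure, Subgroup.centralizer_closure, Set.image_singleton] at h1
    exact h1
  have hpair : ∀ {M : Type u₁} [Group M] (x y : M),
      centralizer ({x, y} : Set M) = centralizer ({x} : Set M) ⊓ centralizer ({y} : Set M) := fun x y => by
    ext g
    simp [mem_centralizer_iff]
  have hmapV : (centralizer ({u} : Set K) ⊓ centralizer ({v} : Set K)).map π =
      centralizer ({π u} : Set (K ⧸ O)) ⊓ centralizer ({π v} : Set (K ⧸ O)) := by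
    have h1 := Grp.map_centralizer_pGroup (p := 2) (four_isPGroup hu hv huv)
    rw [Subgroup.centralizer_closure, MonoidHom.map_closure, Subgroup.centralizer_closure, Set.image_pair, hpair, hpair] at h1
    exact h1
  set α := Nat.card ↥(O ⊓ centralizer ({u} : Set K) : Subgroup K) with hα
  set c₀ := Nat.card ↥(O ⊓ (centralizer ({u} : Set K) ⊓ centralizer ({v} : Set K)) : Subgroup K) with hc₀
  have hCuK : Nat.card ↥(centralizer ({u} : Set K)) = Q * ε * α := by
    rw [← card_map_mul O (centralizer ({u} : Set K)), ← hπ, hmapu, hCu]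
  have hCVK : Nat.card ↥(centralizer ({u} : Set K) ⊓ centralizer ({v} : Set K) : Subgroup K) = 4 * ε * c₀ := by
    rw [← card_map_mul O (centralizer ({u} : Set K) ⊓ centralizer ({v} : Set K)), ← hπ, hmapV, hCV]
  have hKK : Nat.card K = Nat.card (K ⧸ O) * Nat.card ↥O := O.card_eq_card_quotient_mul_card_subgroup
  have hequal : ∀ y : K, (∃ d : K, d * u * d⁻¹ = y) → Nat.card ↥(O ⊓ centralizer ({y} : Set K) : Subgroup K) = α := by
    rintro y ⟨d, hd⟩
    have h1 : ((O ⊓ centralizer ({u} : Set K)).map (MulAut.conj d).toMonoidHom) = O ⊓ centralizer ({y} : Set K) := by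
      ext g
      constructor
      · rintro ⟨z, ⟨hz, hzu⟩, rfl⟩
        refine ⟨hOn.conj_mem z hz d, mem_centralizer_singleton_iff.2 ?_⟩
        show d * z * d⁻¹ * y = y * (d * z * d⁻¹)
        rw [← hd, show d * z * d⁻¹ * (d * u * d⁻¹) = d * (z * u) * d⁻¹ by group, mem_centralizer_singleton_iff.1 hzu]
        group
      · rintro ⟨hg, hgy⟩
        refine ⟨d⁻¹ * g * d, ⟨?_, mem_centralizer_singleton_iff.2 ?_⟩, show d * (d⁻¹ * g * d) * d⁻¹ = g by group⟩
        · have := hOn.conj_mem g hg d⁻¹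
          rwa [inv_inv] at this
        · rw [show u = d⁻¹ * y * d by rw [← hd]; group,
            show d⁻¹ * g * d * (d⁻¹ * y * d) = d⁻¹ * (g * y) * d by group, mem_centralizer_singleton_iff.1 hgy]
          group
    rw [← h1]
    exact (Nat.card_congr (Subgroup.equivMapOfInjective _ _ (MulAut.conj d).injective).toEquiv).symm
  have hBW := Invol.SmallCent.card_four_fixed O hOodd hu hv huv (fun x hx => hOn.conj_mem x hx u)
    (fun x hx => hOn.conj_mem x hx v)
  rw [hequal v hcv, hequal (u * v) hcuv, inf_assoc, ← hα, ← hc₀] at hBW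
  obtain ⟨k, hk⟩ : c₀ ∣ α := Subgroup.card_dvd_of_le (inf_le_inf_left O inf_le_left)
  have hc0 : 0 < c₀ := Nat.card_pos
  have hkodd : Odd k := by
    have h1 : Odd α := hOodd.of_dvd_nat (Subgroup.card_dvd_of_le inf_le_left)
    rw [hk] at h1
    exact (Nat.odd_mul.1 h1).2
  have hOcard : Nat.card ↥O = k ^ 3 * c₀ := by
    rw [hk] at hBW
    refine Nat.eq_of_mul_eq_mul_right (show 0 < c₀ ^ 2 by positivity) ?_
    rw [hBW]; ring
  refine ⟨k, q, Q, q', hkodd, hshape, ⟨O, hOn, rfl, hinfo⟩, ?_, ?_⟩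
  · rw [hCuK, hCVK, hk]; ring
  · rw [hCuK, hk, hKK, hOcard, ← mul_assoc 2, hK]; ring

/-- The numbers of a group with Sylow four groups and a simple subgroup containing one. -/
theorem core_numbers [Finite K] {u v : K} (hu : u * u = 1)
    (hv : v * v = 1) (huv : u * v = v * u) (hu1 : u ≠ 1) (hv1 : v ≠ 1) (hne : u ≠ v) (h8 : ¬ 8 ∣ Nat.card K)
    {A : Subgroup K} [IsSimpleGroup ↥A] (huA : u ∈ A) (hnc : ∃ x ∈ A, ∃ y ∈ A, x * y ≠ y * x)
    (hcv : ∃ d : K, d * u * d⁻¹ = v) (hcuv : ∃ d : K, d * u * d⁻¹ = u * v) :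
    ∃ k q Q q' : ℕ, Odd k ∧ 5 ≤ q ∧ ((q = Q + 1 ∧ q' = Q + 2) ∨ (Q = q + 1 ∧ q = q' + 1)) ∧
      k * Q * Nat.card ↥(centralizer ({u} : Set K) ⊓ centralizer ({v} : Set K) : Subgroup K) =
        4 * Nat.card ↥(centralizer ({u} : Set K)) ∧
      2 * Nat.card K = k ^ 2 * Nat.card ↥(centralizer ({u} : Set K)) * (q * q') := by
  classical
  haveI : Fact (Nat.Prime 2) := ⟨Nat.prime_two⟩
  obtain ⟨k, q, Q, q', hk, hshape, ⟨O, hOn, hO, hinfo⟩, h1, h2⟩ :=
    core_numbers_gen hu hv huv hu1 hv1 hne h8 hcv hcuv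
  refine ⟨k, q, Q, q', hk, ?_, hshape, h1, h2⟩
  rcases hinfo with ⟨-, -, -, hs⟩ | ⟨h5, -⟩
  · exfalso
    haveI := hOn
    set π := QuotientGroup.mk' O
    have hπne : π u ≠ 1 := fun e => by
      have hm := (QuotientGroup.eq_one_iff _).1 e
      rw [hO] at hm
      have h3 := Subgroup.orderOf_dvd_natCard _ hm
      rw [orderOf_two_iff.2 ⟨hu, hu1⟩] at h3
      exact Grp.pPrimeCore_not_dvd h3
    have hinj : Function.Injective (π.comp A.subtype) := by
      rw [← MonoidHom.ker_eq_bot_iff]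
      refine (inferInstance : (π.comp A.subtype).ker.Normal).eq_bot_or_eq_top.resolve_right fun e => ?_
      have hm : (⟨u, huA⟩ : ↥A) ∈ (π.comp A.subtype).ker := by rw [e]; exact mem_top _
      exact hπne (MonoidHom.mem_ker.1 hm)
    haveI := hs
    haveI : Group.IsSolvable ↥A := Group.isSolvable_of_isSolvable_injective hinj
    obtain ⟨x, hx, y, hy, hxy⟩ := hnc
    exact hxy (congrArg Subtype.val (IsSimpleGroup.comm_iff_isSolvable.2 ‹Group.IsSolvable ↥A›
      (⟨x, hx⟩ : ↥A) ⟨y, hy⟩))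
  · exact h5

end Cfsg.Agent.Perm.TwoStab
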