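import Cfsg.Agent.Lib.Perm.TwoStab.OddW

/-!
# The induced group on the fixed points of `u`, centralised interchanging involution

It is doubly transitive with two-point stabiliser of order two; every involution lifts to an involution conjugate in
`C(u)` to one of `w`, `w u`, `w v`, `w u v`.
-/

set_option autoImplicit false
set_option linter.unusedSectionVars false
set_option linter.style.haveILetI false

namespace Cfsg.Agent.Perm.TwoStab

open MulAction Subgroup
open Cfg (cls₂ cls₂_conj)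

universe u₁ u₂

variable {G : Type u₁} [Group G] {Ω : Type u₂} [MulAction G Ω] {a b : Ω} {u v w : G}

namespace Cfg

variable (h : Cfg G a b u v)
include h

theorem v_mem_centralizer : v ∈ centralizer ({u} : Set G) := mem_centralizer_singleton_iff.2 h.comm.symm

theorem fix_stab {q : ↥(fixRep Ω u).range} (hqa : q • (⟨a, h.u_a⟩ : ↥(fixSub Ω u)) = ⟨a, h.u_a⟩)
    (hqb : q • (⟨b, h.u_b⟩ : ↥(fixSub Ω u)) = ⟨b, h.u_b⟩) :
    q = 1 ∨ q = (fixRep Ω u).rangeRestrict ⟨v, h.v_mem_centralizer⟩ := by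
  obtain ⟨g, rfl⟩ := (fixRep Ω u).rangeRestrict_surjective q
  have hga : (g : G) • a = a := congrArg Subtype.val hqa
  have hgb : (g : G) • b = b := congrArg Subtype.val hqb
  rcases h.cent g ⟨hga, hgb⟩ (mem_centralizer_singleton_iff.1 g.2) with e | e | e | e
  · exact Or.inl (by rw [show g = 1 from Subtype.ext e, map_one])
  · exact Or.inl (by rw [show g = ⟨u, mem_centralizer_singleton_iff.2 rfl⟩ from Subtype.ext e]; exact h.fix_u)
  · exact Or.inr (by rw [show g = ⟨v, h.v_mem_centralizer⟩ from Subtype.ext e])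
  · refine Or.inr ?_
    rw [show g = ⟨u, mem_centralizer_singleton_iff.2 rfl⟩ * ⟨v, h.v_mem_centralizer⟩ from Subtype.ext e, map_mul,
      h.fix_u, one_mul]

/-- The stabiliser of two fixed points of `u` has order two. -/
theorem fix_stab_unique {q q' : ↥(fixRep Ω u).range} {c d : ↥(fixSub Ω u)} (hcd : c ≠ d) (hq1 : q ≠ 1)
    (hq'1 : q' ≠ 1) (hqc : q • c = c) (hqd : q • d = d) (hqc' : q' • c = c) (hqd' : q' • d = d) : q = q' := by
  obtain ⟨g, h1, h2⟩ := h.fix_move c d ⟨a, h.u_a⟩ ⟨b, h.u_b⟩ hcd (fun e => h.ne (congrArg Subtype.val e))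
  have key : ∀ p : ↥(fixRep Ω u).range, p ≠ 1 → p • c = c → p • d = d →
      g * p * g⁻¹ = (fixRep Ω u).rangeRestrict ⟨v, h.v_mem_centralizer⟩ := by
    intro p hp hpc hpd
    refine (h.fix_stab ?_ ?_).resolve_left fun e => hp ?_
    · rw [← h1, mul_smul, mul_smul, inv_smul_smul, hpc]
    · rw [← h2, mul_smul, mul_smul, inv_smul_smul, hpd]
    · rwa [mul_inv_eq_one, mul_eq_left] at e
  exact mul_left_cancel (mul_right_cancel ((key q hq1 hqc hqd).trans (key q' hq'1 hqc' hqd').symm))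

theorem fixRep_ne_one {x : ↥(centralizer ({u} : Set G))} {c : Ω} (hc : c ∈ Fx Ω u) (hx : (x : G) • c ≠ c) :
    (fixRep Ω u).rangeRestrict x ≠ 1 := fun e => hx (by
  have := congrArg Subtype.val (show (fixRep Ω u).rangeRestrict x • (⟨c, hc⟩ : ↥(fixSub Ω u)) = ⟨c, hc⟩ by
    rw [e, one_smul])
  exact this)

theorem fix_v_ne (hmv : ∃ c ∈ Fx Ω u, v • c ≠ c) :
    (fixRep Ω u).rangeRestrict ⟨v, h.v_mem_centralizer⟩ ≠ 1 := by
  obtain ⟨c, hc, hvc⟩ := hmv
  exact h.fixRep_ne_one hc hvc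

theorem fix_v_sq : (fixRep Ω u).rangeRestrict ⟨v, h.v_mem_centralizer⟩ *
    (fixRep Ω u).rangeRestrict ⟨v, h.v_mem_centralizer⟩ = 1 := by
  rw [← map_mul, show (⟨v, h.v_mem_centralizer⟩ : ↥(centralizer ({u} : Set G))) * ⟨v, h.v_mem_centralizer⟩ = 1 from
    Subtype.ext h.vv, map_one]

/-- An element of the class of `v` in `C(u)` gives a conjugate of the image of `v`. -/
theorem fix_cls₂ {x : ↥(centralizer ({u} : Set G))} (hx : (x : G) ∈ cls₂ u v) :
    ∃ g : ↥(fixRep Ω u).range, g * (fixRep Ω u).rangeRestrict x * g⁻¹ =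
      (fixRep Ω u).rangeRestrict ⟨v, h.v_mem_centralizer⟩ := by
  obtain ⟨g, hg, e⟩ := hx
  refine ⟨(fixRep Ω u).rangeRestrict ⟨g, mem_centralizer_singleton_iff.2 hg⟩, ?_⟩
  rw [← map_inv, ← map_mul, ← map_mul]
  rcases e with e | e
  · exact congrArg _ (Subtype.ext e)
  · rw [show (⟨g, mem_centralizer_singleton_iff.2 hg⟩ : ↥(centralizer ({u} : Set G))) * x * ⟨g, _⟩⁻¹ =
      ⟨u, mem_centralizer_singleton_iff.2 rfl⟩ * ⟨v, h.v_mem_centralizer⟩ from Subtype.ext e, map_mul, h.fix_u, one_mul]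

/-- Any element of a normal subgroup without the image of `v` fixing two points is trivial. -/
theorem fix_frobenius {M : Subgroup ↥(fixRep Ω u).range} (hM : M.Normal)
    (hv : (fixRep Ω u).rangeRestrict ⟨v, h.v_mem_centralizer⟩ ∉ M) :
    ∀ n ∈ M, n ≠ 1 → ∀ c d : ↥(fixSub Ω u), n • c = c → n • d = d → c = d := by
  intro n hn hn1 c d hc hd
  by_contra hcd
  obtain ⟨g, h1, h2⟩ := h.fix_move c d ⟨a, h.u_a⟩ ⟨b, h.u_b⟩ hcd (fun e => h.ne (congrArg Subtype.val e))
  refine hv ?_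
  rw [← (h.fix_stab (q := g * n * g⁻¹) ?_ ?_).resolve_left fun e => hn1 (by rwa [mul_inv_eq_one, mul_eq_left] at e)]
  · exact hM.conj_mem n hn g
  · rw [← h1, mul_smul, mul_smul, inv_smul_smul, hc]
  · rw [← h2, mul_smul, mul_smul, inv_smul_smul, hd]

end Cfg

namespace Swap

variable (hw : Swap a b w)
include hw

theorem mem_centralizer (h : Cfg G a b u v) : w ∈ centralizer ({u} : Set G) :=
  mem_centralizer_singleton_iff.2 (hw.comm u h.u_mem)

/-- An element of `C(u)` inducing an involution on the fixed points is conjugate to one of the four translates of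
`w`. -/
theorem lift_cases (h : Cfg G a b u v) {x : G} (hxu : x * u = u * x) {c : Ω} (hc : c ∈ Fx Ω u) (hne : x • c ≠ c)
    (hxx : x • x • c = c) : ∃ g : G, g * u = u * g ∧ g • c = a ∧
      (g * x * g⁻¹ = w ∨ g * x * g⁻¹ = w * u ∨ g * x * g⁻¹ = w * v ∨ g * x * g⁻¹ = w * (u * v)) := by
  have hd : u • x • c = x • c := by rw [← mul_smul, ← hxu, mul_smul, hc]
  obtain ⟨g, hg, h1, h2⟩ := h.cent_u_pairs (fun e => hne e.symm) hc hd
  have hgu := mem_centralizer_singleton_iff.1 hg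
  refine ⟨g, hgu, h1, ?_⟩
  set y := g * x * g⁻¹ with hy
  have hya : y • a = b := by rw [hy, ← h1, mul_smul, mul_smul, inv_smul_smul, h2]
  have hyb : y • b = a := by rw [hy, ← h2, mul_smul, mul_smul, inv_smul_smul, hxx, h1]
  have hyu : y * u = u * y :=
    (((show Commute g u from hgu).mul_left (show Commute x u from hxu)).mul_left
      (show Commute g u from hgu).inv_left).eq
  have hm : w * y ∈ pairStab G a b :=
    ⟨show (w * y) • a = a by rw [mul_smul, hya, hw.mapB], show (w * y) • b = b by rw [mul_smul, hyb, hw.mapA]⟩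
  have hmu : w * y * u = u * (w * y) := by rw [mul_assoc, hyu, ← mul_assoc, hw.comm u h.u_mem, mul_assoc]
  have hy' : y = w * (w * y) := by rw [← mul_assoc, hw.sq, one_mul]
  rcases h.cent _ hm hmu with e | e | e | e <;> rw [e] at hy'
  · exact Or.inl (by rw [hy', mul_one])
  · exact Or.inr (Or.inl hy')
  · exact Or.inr (Or.inr (Or.inl hy'))
  · exact Or.inr (Or.inr (Or.inr hy'))

theorem lift_sq (h : Cfg G a b u v) {x : G} (hxu : x * u = u * x) {c : Ω} (hc : c ∈ Fx Ω u) (hne : x • c ≠ c)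
    (hxx : x • x • c = c) : x * x = 1 := by
  obtain ⟨g, -, -, e⟩ := hw.lift_cases h hxu hc hne hxx
  have : g * x * g⁻¹ * (g * x * g⁻¹) = 1 := by
    rcases e with e | e | e | e <;> rw [e]
    exacts [hw.sq, hw.wu_sq h (h.mem_four.2 (by simp)), hw.wu_sq h (h.mem_four.2 (by simp)),
      hw.wu_sq h (h.mem_four.2 (by simp))]
  calc x * x = g⁻¹ * (g * x * g⁻¹ * (g * x * g⁻¹)) * g := by group
    _ = 1 := by rw [this]; group

/-- Odd degree: the numbers of fixed points. -/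
theorem odd_numbers [Finite G] [Finite Ω] (h : Cfg G a b u v) (hn : Odd (Nat.card Ω))
    (hmv : ∃ c ∈ Fx Ω u, v • c ≠ c) :
    Odd (Nat.card ↥(Fx Ω u)) ∧ Odd (Nat.card ↥(Fx Ω u ∩ Fx Ω v)) ∧
      Nat.card ↥(Fx Ω u ∩ Fx Ω v) < Nat.card ↥(Fx Ω u) := by
  have hc := h
  have hfodd : Odd (Nat.card ↥(Fx Ω u)) := by
    refine Nat.not_even_iff_odd.1 fun heven => ?_
    have h1 : Nat.card ↥(Fx Ω u)ᶜ + Nat.card ↥(Fx Ω u) = Nat.card Ω := by
      simp only [Nat.card_coe_set_eq]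
      rw [add_comm]
      exact Set.ncard_add_ncard_compl _
    obtain ⟨c, hc1, hc2⟩ := exists_fix_of_odd hc.uu (Fx Ω u)ᶜ
      (fun c hc1 hc2 => hc1 (smul_left_cancel u hc2)) (by
        obtain ⟨n', hn'⟩ := hn
        obtain ⟨f', hf'⟩ := heven
        exact Nat.odd_iff.2 (by omega))
    exact hc1 hc2
  have hlt : Nat.card ↥(Fx Ω u ∩ Fx Ω v) < Nat.card ↥(Fx Ω u) := by
    obtain ⟨c, hc1, hc2⟩ := hmv
    simp only [Nat.card_coe_set_eq]
    exact Set.ncard_lt_ncard ⟨Set.inter_subset_left, fun hs => hc2 (hs hc1).2⟩ (Set.toFinite _)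
  refine ⟨hfodd, ?_, hlt⟩
  have h2 := hc.local_eq
  obtain ⟨t, ht⟩ := hfodd
  by_contra hne
  obtain ⟨g', hg'⟩ := Nat.not_odd_iff_even.1 hne
  rcases hw.j_cases hc hmv with e | ⟨e, -⟩ <;> rw [e, hg', ← two_mul, mul_assoc] at h2 <;> omega

end Swap

end Cfsg.Agent.Perm.TwoStab
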