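import Cfsg.Agent.Lib.Perm.TwoStab.EvenCore
import Cfsg.Agent.Lib.Perm.TwoStab.FixW

/-!
# Even degree with an element centralising the stabiliser and interchanging the points: impossible

The stabiliser of a point has four groups as Sylow subgroups, so the number of fixed points, the degree and the
order of a linear group are tied by two equations, which have no common solution with the counts of pairs.
-/

set_option autoImplicit false
set_option linter.unusedSectionVars false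
set_option linter.style.haveILetI false

namespace Cfsg.Agent.Perm.TwoStab

open MulAction Subgroup
open Cfg (cls₂)

universe u₁ u₂

theorem arith_fixed {k q Q q' n f : ℕ} (hf : 0 < f) (hk : k * Q = 4) (hq : 5 ≤ q)
    (hs : (q = Q + 1 ∧ q' = Q + 2) ∨ (Q = q + 1 ∧ q = q' + 1)) (hB : 30 * n = k ^ 2 * f * (q * q')) : n = f := by
  have hQ : Q = 4 := by
    have h1 : Q ∣ 4 := ⟨k, by rw [← hk, mul_comm]⟩
    have h2 := Nat.le_of_dvd (by norm_num) h1
    rcases hs with ⟨h3, h4⟩ | ⟨h3, h4⟩ <;> omega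
  rcases hs with ⟨h3, h4⟩ | ⟨h3, h4⟩
  · subst hQ
    have : k = 1 := by omega
    subst this
    rw [h3, h4] at hB
    norm_num at hB
    omega
  · omega

/-- `k` divides the coefficient of the equation `k Q = 4 P`. -/
theorem arith_param {k Q P : ℕ} (hk : Odd k) (h : k * Q = 4 * P) : ∃ m, P = k * m ∧ Q = 4 * m := by
  have hcop : Nat.Coprime k 4 := by
    have h2 : Nat.Coprime k 2 := (Nat.coprime_two_right).2 hk
    exact (show (4 : ℕ) = 2 * 2 by rfl) ▸ Nat.Coprime.mul_right h2 h2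
  obtain ⟨m, hm⟩ := hcop.dvd_of_dvd_mul_left ⟨Q, h.symm⟩
  refine ⟨m, hm, ?_⟩
  rw [hm] at h
  have hk0 : 0 < k := hk.pos
  exact Nat.eq_of_mul_eq_mul_left hk0 (by rw [h]; ring)

theorem arith_outer {k q Q q' f g : ℕ} (hk : Odd k) (hq : 5 ≤ q) (hg : 1 ≤ g) (hf : f = g * (g + 2))
    (hs : (q = Q + 1 ∧ q' = Q + 2) ∨ (Q = q + 1 ∧ q = q' + 1)) (hA : k * Q * g = 4 * f)
    (hB : 30 * (f + 2) = k ^ 2 * (q * q')) : False := by
  have hkQ : k * Q = 4 * (g + 2) := Nat.eq_of_mul_eq_mul_right hg (by rw [hA, hf]; ring)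
  obtain ⟨m, hm, hQ⟩ := arith_param hk hkQ
  have hk0 := hk.pos
  have hP : 3 ≤ k * m := by omega
  have hB' : 30 * (k * m * (k * m)) + 60 = 60 * (k * m) + k ^ 2 * (q * q') := by
    rw [← hB, hf, ← hm]; ring
  rcases hs with ⟨h3, h4⟩ | ⟨h3, h4⟩
  · rw [h3, h4, hQ] at hB'
    by_cases hk1 : k = 1
    · subst hk1
      have hm6 : m ≤ 6 := by
        by_contra hlt
        nlinarith
      interval_cases m <;> omega
    · have hk3 : 3 ≤ k := by obtain ⟨j, hj⟩ := hk; omega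
      have hm1 : 1 ≤ m := Nat.pos_of_ne_zero fun e => by subst e; omega
      by_cases hm3 : m ≤ 2
      · interval_cases m
        · nlinarith
        · by_cases hk5 : k = 3
          · subst hk5; omega
          · have : 5 ≤ k := by obtain ⟨j, hj⟩ := hk; omega
            nlinarith [Nat.mul_le_mul this (le_refl k)]
      · have h9 : 9 ≤ k * m := Nat.mul_le_mul hk3 (show 3 ≤ m by omega)
        have e1 : k * 3 ≤ k * m := Nat.mul_le_mul_left k (show 3 ≤ m by omega)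
        have e2 := Nat.mul_le_mul e1 (le_refl (k * m))
        have e3 := Nat.mul_le_mul e1 e1
        have e4 := Nat.mul_le_mul h9 (le_refl (k * m))
        nlinarith
  · obtain ⟨m', rfl⟩ : ∃ m', m = m' + 2 := ⟨m - 2, by omega⟩
    rw [show q = 4 * m' + 7 by omega, show q' = 4 * m' + 6 by omega] at hB'
    by_cases hP5 : 5 ≤ k * (m' + 2)
    · nlinarith
    · have hk4 : k ≤ 2 := by nlinarith
      have hk1 : k = 1 := by obtain ⟨j, hj⟩ := hk; omega
      subst hk1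
      have hm2 : m' ≤ 2 := by omega
      interval_cases m' <;> omega

theorem arith_inner_two {k q Q q' f g : ℕ} (hk : Odd k) (hq : 5 ≤ q) (hg : 1 ≤ g) (hf : f = g * (g + 2))
    (hs : (q = Q + 1 ∧ q' = Q + 2) ∨ (Q = q + 1 ∧ q = q' + 1)) (hA : k * Q * g = 4 * f)
    (hB : 32 * f + 62 = k ^ 2 * (q * q')) : g + 1 = 30 := by
  have hkQ : k * Q = 4 * (g + 2) := Nat.eq_of_mul_eq_mul_right hg (by rw [hA, hf]; ring)
  obtain ⟨m, hm, hQ⟩ := arith_param hk hkQ
  have hk0 := hk.pos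
  have hP : 3 ≤ k * m := by omega
  have hB' : 32 * (k * m * (k * m)) + 62 = 64 * (k * m) + k ^ 2 * (q * q') := by
    rw [← hB, hf, ← hm]; ring
  rcases hs with ⟨h3, h4⟩ | ⟨h3, h4⟩
  · rw [h3, h4, hQ] at hB'
    have hB'' : 16 * (k * m) ^ 2 + 62 = k * (64 * m + 12 * (k * m) + 2 * k) := by linarith
    have hd : k ∣ 31 := by
      have h1 : k ∣ 62 := (Nat.dvd_add_right (⟨16 * (k * m * m), by ring⟩ : k ∣ 16 * (k * m) ^ 2)).1 ⟨_, hB''⟩
      exact ((Nat.coprime_two_right).2 hk).dvd_of_dvd_mul_left (show k ∣ 2 * 31 by simpa using h1)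
    rcases (Nat.dvd_prime (by norm_num : Nat.Prime 31)).1 hd with e | e <;> subst e
    · have hm4 : m ≤ 4 := by
        by_contra hlt
        nlinarith
      interval_cases m <;> omega
    · have hm1 : m ≤ 1 := by
        by_contra hlt
        nlinarith
      interval_cases m <;> omega
  · obtain ⟨m', rfl⟩ : ∃ m', m = m' + 2 := ⟨m - 2, by omega⟩
    rw [show q = 4 * m' + 7 by omega, show q' = 4 * m' + 6 by omega] at hB'
    exfalso
    by_cases hP5 : 4 ≤ k * (m' + 2)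
    · nlinarith
    · have hk4 : k ≤ 1 := by nlinarith
      have hk1 : k = 1 := by omega
      subst hk1
      have hm2 : m' ≤ 1 := by omega
      interval_cases m' <;> omega

theorem arith_inner_four {k q Q q' f g : ℕ} (hk : Odd k) (hq : 5 ≤ q) (hg : 1 ≤ g) (hf : f = g * (2 * g + 3))
    (hs : (q = Q + 1 ∧ q' = Q + 2) ∨ (Q = q + 1 ∧ q = q' + 1)) (hA : k * Q * g = 4 * f)
    (hB : 32 * f + 62 = k ^ 2 * (q * q')) : False := by
  have hkQ : k * Q = 4 * (2 * g + 3) := Nat.eq_of_mul_eq_mul_right hg (by rw [hA, hf]; ring)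
  obtain ⟨m, hm, hQ⟩ := arith_param hk hkQ
  have hk0 := hk.pos
  have hP : 5 ≤ k * m := by omega
  have hB' : 16 * (k * m * (k * m)) + 62 = 48 * (k * m) + k ^ 2 * (q * q') := by
    rw [← hB, hf, ← hm]; ring
  rcases hs with ⟨h3, h4⟩ | ⟨h3, h4⟩
  · rw [h3, h4, hQ] at hB'
    nlinarith
  · obtain ⟨m', rfl⟩ : ∃ m', m = m' + 2 := ⟨m - 2, by omega⟩
    rw [show q = 4 * m' + 7 by omega, show q' = 4 * m' + 6 by omega] at hB'
    have hB'' : k * (12 * (k * (m' + 2))) + 62 = k * (48 * (m' + 2) + 2 * k) := by linarith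
    have hd : k ∣ 31 := by
      have h1 : k ∣ 62 := (Nat.dvd_add_right (⟨_, rfl⟩ : k ∣ k * (12 * (k * (m' + 2))))).1 ⟨_, hB''⟩
      exact ((Nat.coprime_two_right).2 hk).dvd_of_dvd_mul_left (show k ∣ 2 * 31 by simpa using h1)
    rcases (Nat.dvd_prime (by norm_num : Nat.Prime 31)).1 hd with e | e <;> subst e <;> omega

variable {G : Type u₁} [Group G] {Ω : Type u₂} [MulAction G Ω] {a b : Ω} {u v w : G}

/-- The stabiliser of a point in even degree: its Sylow subgroups are four groups; the orders of centralisers. -/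
theorem Cfg.stab_cards [Finite G] [Finite Ω] (h : Cfg G a b u v) (hn : Even (Nat.card Ω))
    (hD : ∃ o, Odd o ∧ Nat.card ↥(pairStab G a b) = 4 * o) :
    ¬ 8 ∣ Nat.card ↥(stabilizer G a) ∧
      Nat.card ↥(stabilizer G a) = (Nat.card Ω - 1) * Nat.card ↥(pairStab G a b) ∧
      Nat.card ↥(centralizer ({⟨u, h.u_mem.1⟩} : Set ↥(stabilizer G a))) = 4 * (Nat.card ↥(Fx Ω u) - 1) ∧
      Nat.card ↥(centralizer ({⟨u, h.u_mem.1⟩} : Set ↥(stabilizer G a)) ⊓
          centralizer ({⟨v, h.v_mem.1⟩} : Set ↥(stabilizer G a)) : Subgroup ↥(stabilizer G a)) =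
        4 * (Nat.card ↥(Fx Ω u ∩ Fx Ω v) - 1) ∧
      (∃ d : ↥(stabilizer G a), d * ⟨u, h.u_mem.1⟩ * d⁻¹ = ⟨v, h.v_mem.1⟩) ∧
      ∃ d : ↥(stabilizer G a), d * ⟨u, h.u_mem.1⟩ * d⁻¹ =
        (⟨u, h.u_mem.1⟩ : ↥(stabilizer G a)) * ⟨v, h.v_mem.1⟩ := by
  classical
  haveI : Nonempty Ω := ⟨a⟩
  have hc := h
  set H := stabilizer G a with hH
  have hcount : ∀ (C : Subgroup G) (P : Set Ω), a ∈ P → b ∈ P → (∀ g ∈ C ⊓ H, ∀ c ∈ P, g • c ∈ P) →
      (∀ c ∈ P, c ≠ a → ∃ g ∈ C ⊓ H, g • b = c) →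
      Nat.card ↥(C ⊓ H : Subgroup G) = (Nat.card ↥P - 1) * Nat.card ↥(C ⊓ pairStab G a b : Subgroup G) := by
    intro C P haP hbP hinv htr
    have h1 := card_eq_pairs (C ⊓ H) (a := a) (b := b) {p : Ω × Ω | p.1 = a ∧ p.2 ∈ P \ {a}}
      ⟨rfl, hbP, fun e' => h.ne e'.symm⟩
      (fun g hg => ⟨hg.2, hinv g hg b hbP, fun e' => h.ne (smul_left_cancel g ((hg.2 : g • a = a).trans e'.symm))⟩)
      (fun p hp => by
        obtain ⟨g, hg, e'⟩ := htr p.2 hp.2.1 hp.2.2
        exact ⟨g, hg, Prod.ext ((hg.2 : g • a = a).trans hp.1.symm) e'⟩)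
    have hS : Nat.card ↥{p : Ω × Ω | p.1 = a ∧ p.2 ∈ P \ {a}} = Nat.card ↥P - 1 := by
      have e1 : Nat.card ↥{p : Ω × Ω | p.1 = a ∧ p.2 ∈ P \ {a}} = Nat.card ↥(P \ {a}) :=
        Nat.card_congr
          { toFun := fun p => ⟨p.1.2, p.2.2⟩
            invFun := fun c => ⟨(a, c.1), rfl, c.2⟩
            left_inv := fun p => Subtype.ext (Prod.ext p.2.1.symm rfl)
            right_inv := fun c => rfl }
      rw [e1, Nat.card_coe_set_eq, Set.ncard_sdiff_singleton_of_mem haP, Nat.card_coe_set_eq]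
    rwa [hS, inf_assoc, inf_eq_right.2 (inf_le_left : pairStab G a b ≤ H)] at h1
  have hHcard : Nat.card ↥H = (Nat.card Ω - 1) * Nat.card ↥(pairStab G a b) := by
    have h1 := hcount ⊤ Set.univ trivial trivial (fun _ _ _ _ => trivial) (fun c _ hne => by
      obtain ⟨g, h1, h2⟩ := hc.move a b a c h.ne (fun e' => hne e'.symm)
      exact ⟨g, ⟨mem_top _, h1⟩, h2⟩)
    rwa [top_inf_eq, top_inf_eq, Nat.card_congr (Equiv.Set.univ Ω)] at h1
  have hn1 : Odd (Nat.card Ω - 1) := Nat.Even.sub_odd Nat.card_pos hn odd_one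
  have h8 : ¬ 8 ∣ Nat.card ↥H := by
    obtain ⟨o, ho, hDo⟩ := hD
    rw [hHcard, hDo]
    intro h8
    have h2 : 2 ∣ (Nat.card Ω - 1) * o := Nat.dvd_of_mul_dvd_mul_left (show 0 < 4 by norm_num)
      (by rw [show 4 * ((Nat.card Ω - 1) * o) = (Nat.card Ω - 1) * (4 * o) by ring]; exact h8)
    exact (Nat.not_even_iff_odd.2 (hn1.mul ho)) (even_iff_two_dvd.2 h2)
  set u' : ↥H := ⟨u, h.u_mem.1⟩ with hu'
  set v' : ↥H := ⟨v, h.v_mem.1⟩ with hv'
  have huu : u' * u' = 1 := Subtype.ext hc.uu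
  have hvv : v' * v' = 1 := Subtype.ext hc.vv
  have huv : u' * v' = v' * u' := Subtype.ext h.comm
  have hu1 : u' ≠ 1 := fun e' => hc.u_ne (congrArg Subtype.val e')
  have hv1 : v' ≠ 1 := fun e' => hc.v_ne (congrArg Subtype.val e')
  have hne : u' ≠ v' := fun e' => h.ne_uv (congrArg Subtype.val e')
  have hpres : ∀ g : G, g * u = u * g → ∀ c ∈ Fx Ω u, g • c ∈ Fx Ω u := fun g hg c hc' => by
    show u • g • c = g • c
    rw [← mul_smul, ← hg, mul_smul, mem_Fx.1 hc']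
  have hCu : Nat.card ↥(centralizer ({u} : Set G) ⊓ H : Subgroup G) = 4 * (Nat.card ↥(Fx Ω u) - 1) := by
    have h1 := hcount (centralizer ({u} : Set G)) (Fx Ω u) hc.u_a hc.u_b
      (fun g hg c hc' => hpres g (mem_centralizer_singleton_iff.1 hg.1) c hc') (fun c hc' hca => by
        obtain ⟨g, hg, h1, h2⟩ := hc.cent_u_pairs (fun e' => hca e'.symm) hc.u_a hc'
        refine ⟨g⁻¹, ⟨Subgroup.inv_mem _ hg, inv_smul_eq_iff.2 h1.symm⟩, inv_smul_eq_iff.2 h2.symm⟩)
    rwa [hc.cent_inf, hc.card_four, mul_comm] at h1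
  have hCV : Nat.card ↥(centralizer ({u} : Set G) ⊓ centralizer ({v} : Set G) ⊓ H : Subgroup G) =
      4 * (Nat.card ↥(Fx Ω u ∩ Fx Ω v) - 1) := by
    have h1 := hcount (centralizer ({u} : Set G) ⊓ centralizer ({v} : Set G)) (Fx Ω u ∩ Fx Ω v) ⟨hc.u_a, hc.v_a⟩
      ⟨hc.u_b, hc.v_b⟩ (fun g hg c hc' => ⟨hpres g (mem_centralizer_singleton_iff.1 hg.1.1) c hc'.1, by
        show v • g • c = g • c
        rw [← mul_smul, ← mem_centralizer_singleton_iff.1 hg.1.2, mul_smul, mem_Fx.1 hc'.2]⟩) (fun c hc' hca => by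
        obtain ⟨g, h1, h2, h3, h4⟩ := hc.norm_pairs (fun e' => hca e'.symm) ⟨hc.u_a, hc.v_a⟩ hc'
        have hgu : g * u = u * g := mul_inv_eq_iff_eq_mul.1 h3
        have hgv : g * v = v * g := by
          rcases hc.mem_four.1 (h4 v (hc.mem_four.2 (Or.inr (Or.inr (Or.inl rfl))))) with e' | e' | e' | e'
          · exact absurd (by rwa [mul_inv_eq_one, mul_eq_left] at e') hc.v_ne
          · rw [mul_inv_eq_iff_eq_mul, ← hgu] at e'
            exact absurd (mul_left_cancel e').symm h.ne_uv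
          · exact mul_inv_eq_iff_eq_mul.1 e'
          · exact (no_swap (y := (⟨g, h1⟩ : ↥H)) h8 huu hvv huv hu1 hv1 hne (Subtype.ext h3) (Subtype.ext e')).elim
        refine ⟨g⁻¹, ⟨Subgroup.inv_mem _ ⟨mem_centralizer_singleton_iff.2 hgu, mem_centralizer_singleton_iff.2 hgv⟩,
          inv_smul_eq_iff.2 h1.symm⟩, inv_smul_eq_iff.2 h2.symm⟩)
    have h2 : centralizer ({u} : Set G) ⊓ centralizer ({v} : Set G) ⊓ pairStab G a b = four u v := by
      refine le_antisymm ?_ (le_inf (le_inf ?_ ?_) hc.four_le)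
      · rw [← hc.cent_inf]
        exact inf_le_inf_right _ inf_le_left
      · intro x hx
        exact mem_centralizer_singleton_iff.2 (hc.four_comm hx (hc.mem_four.2 (Or.inr (Or.inl rfl))))
      · intro x hx
        exact mem_centralizer_singleton_iff.2 (hc.four_comm hx (hc.mem_four.2 (Or.inr (Or.inr (Or.inl rfl)))))
    rwa [h2, hc.card_four, mul_comm] at h1
  have hcj : ∀ y ∈ four u v, ∀ hyH : y ∈ H, y ≠ 1 → ∃ d : ↥H, d * u' * d⁻¹ = ⟨y, hyH⟩ := by
    intro y hy hyH hy1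
    obtain ⟨d, hd, e'⟩ := h.conj y (hc.four_le hy) (orderOf_two_iff.2 ⟨hc.four_sq hy, hy1⟩)
    refine ⟨⟨d⁻¹, inv_mem hd.1⟩, Subtype.ext ?_⟩
    show d⁻¹ * u * d⁻¹⁻¹ = y
    rw [← e']; group
  have hrestr : ∀ (C : Subgroup G) (C' : Subgroup ↥H), (∀ g : ↥H, g ∈ C' ↔ (g : G) ∈ C) →
      Nat.card ↥C' = Nat.card ↥(C ⊓ H : Subgroup G) := fun C C' hC => Nat.card_congr
    { toFun := fun g => ⟨g.1.1, (hC g.1).1 g.2, g.1.2⟩
      invFun := fun g => ⟨⟨g.1, g.2.2⟩, (hC _).2 g.2.1⟩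
      left_inv := fun g => rfl
      right_inv := fun g => rfl }
  refine ⟨h8, hHcard, ?_, ?_, hcj v (hc.mem_four.2 (Or.inr (Or.inr (Or.inl rfl)))) h.v_mem.1 hc.v_ne,
    hcj (u * v) (hc.mem_four.2 (Or.inr (Or.inr (Or.inr rfl)))) (H.mul_mem h.u_mem.1 h.v_mem.1) hc.uv_ne⟩
  · rw [hrestr (centralizer ({u} : Set G)) (centralizer ({u'} : Set ↥H)) (fun g => by
      simp only [mem_centralizer_singleton_iff, Subtype.ext_iff, Subgroup.coe_mul, hu']), hCu]
  · rw [hrestr (centralizer ({u} : Set G) ⊓ centralizer ({v} : Set G))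
      (centralizer ({u'} : Set ↥H) ⊓ centralizer ({v'} : Set ↥H)) (fun g => by
      simp only [Subgroup.mem_inf, mem_centralizer_singleton_iff, Subtype.ext_iff, Subgroup.coe_mul, hu', hv']), hCV]

/-- The two equations of even degree. -/
theorem Five.even_numbers [Finite G] [Finite Ω] (h : Five G a b u v) (hn : Even (Nat.card Ω)) :
    ∃ k q Q q' : ℕ, Odd k ∧ 5 ≤ q ∧ ((q = Q + 1 ∧ q' = Q + 2) ∨ (Q = q + 1 ∧ q = q' + 1)) ∧
      k * Q * (Nat.card ↥(Fx Ω u ∩ Fx Ω v) - 1) = 4 * (Nat.card ↥(Fx Ω u) - 1) ∧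
      30 * (Nat.card Ω - 1) = k ^ 2 * (Nat.card ↥(Fx Ω u) - 1) * (q * q') := by
  classical
  have hc := h.toCfg
  obtain ⟨h8, hHcard, hCu, hCV, hcv, hcuv⟩ := hc.stab_cards hn ⟨15, by decide, h.card_D⟩
  set H := stabilizer G a with hH
  have huu : (⟨u, h.u_mem.1⟩ : ↥H) * ⟨u, h.u_mem.1⟩ = 1 := Subtype.ext hc.uu
  have hvv : (⟨v, h.v_mem.1⟩ : ↥H) * ⟨v, h.v_mem.1⟩ = 1 := Subtype.ext hc.vv
  have huv : (⟨u, h.u_mem.1⟩ : ↥H) * ⟨v, h.v_mem.1⟩ = ⟨v, h.v_mem.1⟩ * ⟨u, h.u_mem.1⟩ := Subtype.ext h.comm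
  set A := (pairStab G a b).subgroupOf H with hA
  haveI : IsSimpleGroup ↥A := by
    haveI := h.simple
    exact (subgroupOfEquivOfLe (inf_le_left : pairStab G a b ≤ H)).isSimpleGroup
  have hnc : ∃ x ∈ A, ∃ y ∈ A, x * y ≠ y * x := by
    obtain ⟨x, hx, y, hy, hxy⟩ := h.noncomm
    exact ⟨⟨x, hx.1⟩, mem_subgroupOf.2 hx, ⟨y, hy.1⟩, mem_subgroupOf.2 hy,
      fun e' => hxy (congrArg Subtype.val e')⟩
  obtain ⟨k, q, Q, q', hk, hq, hs, hA', hB'⟩ := core_numbers huu hvv huv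
    (fun e' => hc.u_ne (congrArg Subtype.val e')) (fun e' => hc.v_ne (congrArg Subtype.val e'))
    (fun e' => h.ne_uv (congrArg Subtype.val e')) h8 (A := A) (mem_subgroupOf.2 h.u_mem) hnc hcv hcuv
  rw [hCu] at hA' hB'
  rw [hCV] at hA'
  rw [hHcard, h.card_D] at hB'
  exact ⟨k, q, Q, q', hk, hq, hs, by linarith, by linarith⟩

namespace Cfg

variable (h : Cfg G a b u v)
include h

/-- The common fixed points of the four group are a power of a prime in number when it has a centralising element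
moving one of them. -/
theorem fix_four_prime_pow [Finite G] [Finite Ω] (hw : w • a = b) (hwu : w * u = u * w) (hwv : w * v = v * w) :
    ∃ p e : ℕ, p.Prime ∧ Nat.card ↥(Fx Ω u ∩ Fx Ω v) = p ^ e := by
  classical
  set N := normalizer (four u v : Set G) with hN
  let Φ : SubMulAction ↥N Ω :=
    { carrier := Fx Ω u ∩ Fx Ω v
      smul_mem' := fun g c hc => by
        have hgV : ∀ x ∈ four u v, (g : G)⁻¹ * x * g ∈ four u v := fun x hx => (mem_normalizer_iff''.1 g.2 x).1 hx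
        have hfix : ∀ x ∈ four u v, x • (g : G) • c = (g : G) • c := fun x hx => by
          have h1 := h.four_fix hc (hgV x hx)
          rw [mul_smul, mul_smul, inv_smul_eq_iff] at h1
          exact h1
        exact ⟨hfix u (h.mem_four.2 (Or.inr (Or.inl rfl))), hfix v (h.mem_four.2 (Or.inr (Or.inr (Or.inl rfl))))⟩ }
  let ρ := (MulAction.toPermHom ↥N ↥Φ).rangeRestrict
  have hsmul : ∀ (g : ↥N) (c : ↥Φ), ((ρ g • c : ↥Φ) : Ω) = (g : G) • (c : Ω) := fun g c => rfl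
  have hfaith : ∀ x : ↥(MulAction.toPermHom ↥N ↥Φ).range, (∀ c : ↥Φ, x • c = c) → x = 1 := fun x hx => Subtype.ext (Equiv.ext hx)
  have hmove : ∀ c d c' d' : ↥Φ, c ≠ d → c' ≠ d' → ∃ x : ↥(MulAction.toPermHom ↥N ↥Φ).range, x • c = c' ∧ x • d = d' := by
    intro c d c' d' hcd hcd'
    obtain ⟨g, h1, h2, -, h4⟩ := h.norm_pairs (fun e => hcd (Subtype.ext e)) c.2 d.2
    obtain ⟨g', h1', h2', -, h4'⟩ := h.norm_pairs (fun e => hcd' (Subtype.ext e)) c'.2 d'.2
    refine ⟨ρ (⟨g', mem_normalizer_fintype h4'⟩⁻¹ * ⟨g, mem_normalizer_fintype h4⟩), Subtype.ext ?_, Subtype.ext ?_⟩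
    · rw [hsmul]
      show (g'⁻¹ * g) • (c : Ω) = c'
      rw [mul_smul, h1, inv_smul_eq_iff, h1']
    · rw [hsmul]
      show (g'⁻¹ * g) • (d : Ω) = d'
      rw [mul_smul, h2, inv_smul_eq_iff, h2']
  set Y := ((centralizer (four u v : Set G)).subgroupOf N).map ρ with hY
  have hYn : Y.Normal :=
    ((Subgroup.normal_subgroupOf_iff_le_normalizer_inf).2 (by
      intro g hg
      rw [mem_normalizer_iff]
      intro x
      have hgN : g ∈ N := hg
      have hgV : ∀ y ∈ four u v, g⁻¹ * y * g ∈ four u v := fun y hy => (mem_normalizer_iff''.1 hgN y).1 hy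
      have hgV' : ∀ y ∈ four u v, g * y * g⁻¹ ∈ four u v := fun y hy => (mem_normalizer_iff.1 hgN y).1 hy
      simp only [Subgroup.mem_inf, mem_centralizer_iff, SetLike.mem_coe]
      constructor
      · rintro ⟨hx, hxN⟩
        refine ⟨fun y hy => ?_, mul_mem (mul_mem hgN hxN) (inv_mem hgN)⟩
        have := hx _ (hgV y hy)
        calc y * (g * x * g⁻¹) = g * (g⁻¹ * y * g * x) * g⁻¹ := by group
          _ = g * (x * (g⁻¹ * y * g)) * g⁻¹ := by rw [this]
          _ = _ := by group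
      · rintro ⟨hx, hxN⟩
        refine ⟨fun y hy => ?_, by
          have := mul_mem (mul_mem (inv_mem hgN) hxN) hgN
          rwa [show g⁻¹ * (g * x * g⁻¹) * g = x by group] at this⟩
        have := hx _ (hgV' y hy)
        calc y * x = g⁻¹ * (g * y * g⁻¹ * (g * x * g⁻¹)) * g := by group
          _ = g⁻¹ * (g * x * g⁻¹ * (g * y * g⁻¹)) * g := by rw [this]
          _ = _ := by group)).map ρ (MulAction.toPermHom ↥N ↥Φ).rangeRestrict_surjective
  haveI := hYn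
  have hwC : w ∈ centralizer (four u v : Set G) := by
    rw [Subgroup.centralizer_closure, mem_centralizer_iff]
    rintro x (rfl | rfl)
    exacts [hwu.symm, hwv.symm]
  have hwN : w ∈ N := centralizer_le_normalizer (four u v : Set G) hwC
  set A : ↥Φ := ⟨a, h.u_a, h.v_a⟩
  have hY1 : Y ≠ ⊥ := fun e => by
    have h1 : ρ ⟨w, hwN⟩ ∈ Y := ⟨⟨w, hwN⟩, mem_subgroupOf.2 hwC, rfl⟩
    rw [e, mem_bot] at h1
    have h2 := hsmul ⟨w, hwN⟩ A
    rw [h1, one_smul] at h2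
    exact h.ne (h2.trans hw)
  have hfrob : ∀ y ∈ Y, y ≠ 1 → ∀ c d : ↥Φ, y • c = c → y • d = d → c = d := by
    rintro _ ⟨y, hy, rfl⟩ hy1 c d hyc hyd
    by_contra hcd
    refine hy1 (hfaith _ fun e => Subtype.ext ?_)
    obtain ⟨g, h1, h2, h3, h4⟩ := h.norm_pairs (fun e => hcd (Subtype.ext e)) c.2 d.2
    have hyu : (y : G) * u = u * y :=
      (mem_centralizer_iff.1 (mem_subgroupOf.1 hy) u (h.mem_four.2 (Or.inr (Or.inl rfl)))).symm
    have hyc' : (y : G) • (c : Ω) = c := congrArg Subtype.val hyc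
    have hyd' : (y : G) • (d : Ω) = d := congrArg Subtype.val hyd
    have hm : g * (y : G) * g⁻¹ ∈ four u v := h.mem_four.2 (h.cent _ ⟨by
        show (g * (y : G) * g⁻¹) • a = a
        rw [← h1, mul_smul, mul_smul, inv_smul_smul, hyc'], by
        show (g * (y : G) * g⁻¹) • b = b
        rw [← h2, mul_smul, mul_smul, inv_smul_smul, hyd']⟩ (by
        calc g * (y : G) * g⁻¹ * u = g * (y : G) * g⁻¹ * (g * u * g⁻¹) := by rw [h3]
          _ = g * ((y : G) * u) * g⁻¹ := by group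
          _ = g * (u * (y : G)) * g⁻¹ := by rw [hyu]
          _ = g * u * g⁻¹ * (g * (y : G) * g⁻¹) := by group
          _ = _ := by rw [h3]))
    have hyV : (y : G) ∈ four u v := by
      have hgN : g ∈ N := mem_normalizer_fintype h4
      exact (mem_normalizer_iff.1 hgN _).2 hm
    rw [hsmul]
    exact h.four_fix e.2 hyV
  obtain ⟨R, hR, -, htr, hreg⟩ := exists_regular_normal (a := A) Y (normal_transitive hmove hfaith hYn hY1) hfrob
  obtain ⟨p, e, hp, -, hpe, -, -, -⟩ := regular_elem hmove (a := A) (b := ⟨b, h.u_b, h.v_b⟩)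
    (fun e => h.ne (congrArg Subtype.val e)) R hR htr hreg
  exact ⟨p, e, hp, hpe⟩

end Cfg

namespace Swap

variable (hw : Swap a b w)
include hw

theorem even_false [Finite G] [Finite Ω] (h : Five G a b u v) (hn : Even (Nat.card Ω)) : False := by
  classical
  have hc := h.toCfg
  obtain ⟨k, q, Q, q', hk, hq, hs, hA, hB⟩ := h.even_numbers hn
  have hf2 := hc.fx_u_ge (Ω := Ω)
  have hg2 := hc.fx_v_ge (Ω := Ω)
  have hflt := hc.fx_lt (Ω := Ω)
  obtain ⟨n', hn'⟩ : ∃ n', Nat.card Ω = n' + 1 := ⟨Nat.card Ω - 1, by omega⟩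
  obtain ⟨f', hf'⟩ : ∃ f', Nat.card ↥(Fx Ω u) = f' + 1 := ⟨Nat.card ↥(Fx Ω u) - 1, by omega⟩
  obtain ⟨g', hg'⟩ : ∃ g', Nat.card ↥(Fx Ω u ∩ Fx Ω v) = g' + 1 := ⟨Nat.card ↥(Fx Ω u ∩ Fx Ω v) - 1, by omega⟩
  rw [hf', hg', Nat.add_sub_cancel, Nat.add_sub_cancel] at hA
  rw [hn', hf', Nat.add_sub_cancel, Nat.add_sub_cancel] at hB
  by_cases hmv : ∃ c ∈ Fx Ω u, v • c ≠ c
  swap
  · push Not at hmv
    have hfg : g' = f' := by
      have : Fx Ω u ∩ Fx Ω v = Fx Ω u := Set.inter_eq_left.2 fun c hc' => hmv c hc'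
      rw [this] at hg'
      omega
    rw [hfg] at hA
    have := arith_fixed (show 0 < f' by omega) (Nat.eq_of_mul_eq_mul_right (show 0 < f' by omega) hA) hq hs hB
    omega
  have hdeg := hc.degree_eq (Ω := Ω)
  rw [h.card_invols, hn', hf', Nat.add_sub_cancel] at hdeg
  have hloc := hc.local_eq (Ω := Ω)
  rw [hf', hg', Nat.add_sub_cancel] at hloc
  have hwu := hw.wu_mem_cls hc hmv
  obtain ⟨hd16, hd15⟩ := hw.delta_eq hc h.card_invols
  obtain ⟨j, rfl⟩ : ∃ j, f' = g' + j := ⟨f' - g', by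
    have : Nat.card ↥(Fx Ω u ∩ Fx Ω v) ≤ Nat.card ↥(Fx Ω u) :=
      Nat.card_le_card_of_injective (fun c => (⟨c.1, c.2.1⟩ : ↥(Fx Ω u))) fun c d e =>
        Subtype.ext (congrArg Subtype.val e :)
    omega⟩
  obtain ⟨i, rfl⟩ : ∃ i, n' = g' + j + i := ⟨n' - (g' + j), by omega⟩
  rw [show g' + j + i + 1 - (g' + j + 1) = i by omega] at hdeg
  rw [show g' + j + 1 - (g' + 1) = j by omega] at hloc
  by_cases hwc : w ∈ cls u
  · rw [hd16 hwc hwu] at hdeg
    have hB' : 32 * (g' + j) + 62 = k ^ 2 * (q * q') := by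
      refine Nat.eq_of_mul_eq_mul_right (show 0 < g' + j by omega) ?_
      linarith
    rcases hw.j_cases hc hmv with e | ⟨e, -⟩ <;> rw [e] at hloc
    · exact arith_inner_four hk hq (by omega) (show g' + j = g' * (2 * g' + 3) by linarith) hs hA hB'
    · have h30 := arith_inner_two hk hq (by omega) (show g' + j = g' * (g' + 2) by linarith) hs hA hB'
      obtain ⟨p, e', hp, hpe⟩ := hc.fix_four_prime_pow hw.mapA (hw.comm u hc.u_mem) (hw.comm v hc.v_mem)
      rw [hg', h30] at hpe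
      have h2 := (Nat.prime_dvd_prime_iff_eq Nat.prime_two hp).1
        (Nat.prime_two.dvd_of_dvd_pow (hpe ▸ (by norm_num : 2 ∣ 30)))
      have h3 := (Nat.prime_dvd_prime_iff_eq Nat.prime_three hp).1
        (Nat.prime_three.dvd_of_dvd_pow (hpe ▸ (by norm_num : 3 ∣ 30)))
      omega
  · rw [hd15 hwc hwu] at hdeg
    rw [hw.j_eq_two hc hmv hwc] at hloc
    refine arith_outer hk hq (by omega) (show g' + j = g' * (g' + 2) by linarith) hs hA ?_
    refine Nat.eq_of_mul_eq_mul_right (show 0 < g' + j by omega) ?_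
    linarith

end Swap

end Cfsg.Agent.Perm.TwoStab
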