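import Cfsg.Agent.Lib.Perm.TwoStab.AltFour
import Cfsg.Agent.Lib.Perm.TwoStab.EvenW

/-!
# Two-point stabiliser `A₄`, even degree, an element centralising it interchanges the points: sixteen points
-/

set_option autoImplicit false
set_option linter.unusedSectionVars false
set_option linter.style.haveILetI false

namespace Cfsg.Agent.Perm.TwoStab

open MulAction Subgroup
open Cfg (cls₂)

universe u₁ u₂

/-- The coefficient `k² q q'` against the square of the parameter. -/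
theorem coeff_bound {k q Q q' P : ℕ} (hk : Odd k) (hkQ : k * Q = 4 * P)
    (hinfo : (q = 3 ∧ Q = 4 ∧ q' = 2) ∨ 5 ≤ q)
    (hs : (q = Q + 1 ∧ q' = Q + 2) ∨ (Q = q + 1 ∧ q = q' + 1)) :
    k ^ 2 * (q * q') = 6 * (P * P) ∨ 80 * (P * P) ≤ 9 * (k ^ 2 * (q * q')) := by
  obtain ⟨m, hm, hQ⟩ := arith_param hk hkQ
  subst hm hQ
  rcases hinfo with ⟨h3, h4, h5⟩ | h5
  · left
    rw [h3, h5, show m = 1 by omega]; ring
  right
  rcases hs with ⟨h3, h4⟩ | ⟨h3, h4⟩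
  · rw [h3, h4]; ring_nf; nlinarith
  · have hm : 2 ≤ m := by omega
    obtain ⟨j, rfl⟩ : ∃ j, m = j + 2 := ⟨m - 2, by omega⟩
    rw [show q = 4 * j + 7 by omega, show q' = 4 * j + 6 by omega]
    ring_nf
    nlinarith

theorem four_arith_fixed {k q Q q' n f : ℕ} (hf : 0 < f) (hk : k * Q = 4)
    (hinfo : (q = 3 ∧ Q = 4 ∧ q' = 2) ∨ 5 ≤ q)
    (hs : (q = Q + 1 ∧ q' = Q + 2) ∨ (Q = q + 1 ∧ q = q' + 1)) (hB : 6 * n = k ^ 2 * f * (q * q')) :
    k = 1 ∧ (n = f ∨ (q = 5 ∧ Q = 4 ∧ q' = 6 ∧ n = 5 * f)) := by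
  have hQ : Q = 4 := by
    have h1 : Q ∣ 4 := ⟨k, by rw [← hk, mul_comm]⟩
    have h2 := Nat.le_of_dvd (by norm_num) h1
    omega
  subst hQ
  obtain rfl : k = 1 := by omega
  refine ⟨rfl, ?_⟩
  rcases hinfo with ⟨h3, -, h5⟩ | h5
  · left; rw [h3, h5] at hB; norm_num at hB; omega
  · rcases hs with ⟨h3, h4⟩ | ⟨h3, h4⟩
    · right
      rw [h3, h4] at hB
      norm_num at hB
      exact ⟨h3, rfl, h4, by linarith⟩
    · omega

theorem four_arith_outer {k q Q q' f g : ℕ} (hk : Odd k) (hg : 1 ≤ g) (hf : f = g * (g + 2))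
    (hinfo : (q = 3 ∧ Q = 4 ∧ q' = 2) ∨ 5 ≤ q)
    (hs : (q = Q + 1 ∧ q' = Q + 2) ∨ (Q = q + 1 ∧ q = q' + 1)) (hA : k * Q * g = 4 * f)
    (hB : 6 * (f + 2) = k ^ 2 * (q * q')) : False := by
  have hkQ : k * Q = 4 * (g + 2) := Nat.eq_of_mul_eq_mul_right hg (by rw [hA, hf]; ring)
  rcases coeff_bound hk hkQ hinfo hs with e | e <;> rw [← hB, hf] at e <;> nlinarith

theorem four_arith_inner_two {k q Q q' f g : ℕ} (hk : Odd k) (hg : 1 ≤ g) (hf : f = g * (g + 2))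
    (hinfo : (q = 3 ∧ Q = 4 ∧ q' = 2) ∨ 5 ≤ q)
    (hs : (q = Q + 1 ∧ q' = Q + 2) ∨ (Q = q + 1 ∧ q = q' + 1)) (hA : k * Q * g = 4 * f)
    (hB : 8 * f + 14 = k ^ 2 * (q * q')) : g + 1 = 6 := by
  have hkQ : k * Q = 4 * (g + 2) := Nat.eq_of_mul_eq_mul_right hg (by rw [hA, hf]; ring)
  rcases coeff_bound hk hkQ hinfo hs with e | e <;> rw [← hB, hf] at e
  · have hg5 : g ≤ 5 := by
      by_contra hlt
      nlinarith
    interval_cases g <;> omega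
  · exfalso
    nlinarith

theorem four_arith_inner_four {k q Q q' f g : ℕ} (hk : Odd k) (hg : 1 ≤ g) (hf : f = g * (2 * g + 3))
    (hinfo : (q = 3 ∧ Q = 4 ∧ q' = 2) ∨ 5 ≤ q)
    (hs : (q = Q + 1 ∧ q' = Q + 2) ∨ (Q = q + 1 ∧ q = q' + 1)) (hA : k * Q * g = 4 * f)
    (hB : 8 * f + 14 = k ^ 2 * (q * q')) : False := by
  have hkQ : k * Q = 4 * (2 * g + 3) := Nat.eq_of_mul_eq_mul_right hg (by rw [hA, hf]; ring)
  rcases coeff_bound hk hkQ hinfo hs with e | e <;> rw [← hB, hf] at e <;> nlinarith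

variable {G : Type u₁} [Group G] {Ω : Type u₂} [MulAction G Ω] {a b : Ω} {u v w : G}

namespace Four

variable (h : Four G a b u v)
include h

/-- The two equations of even degree. -/
theorem even_numbers [Finite G] [Finite Ω] (hn : Even (Nat.card Ω)) :
    ∃ k q Q q' : ℕ, Odd k ∧ ((q = 3 ∧ Q = 4 ∧ q' = 2) ∨ 5 ≤ q) ∧
      ((q = Q + 1 ∧ q' = Q + 2) ∨ (Q = q + 1 ∧ q = q' + 1)) ∧
      k * Q * (Nat.card ↥(Fx Ω u ∩ Fx Ω v) - 1) = 4 * (Nat.card ↥(Fx Ω u) - 1) ∧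
      6 * (Nat.card Ω - 1) = k ^ 2 * (Nat.card ↥(Fx Ω u) - 1) * (q * q') ∧
      ∃ O : Subgroup ↥(stabilizer G a), ∃ _ : O.Normal, O = Cfsg.oddCore ↥(stabilizer G a) ∧
        (5 ≤ q → ∃ L : Subgroup (↥(stabilizer G a) ⧸ O), L.Normal ∧ IsSimpleGroup ↥L ∧
          centralizer (L : Set (↥(stabilizer G a) ⧸ O)) = ⊥ ∧ 2 * Nat.card ↥L = q * (Q * q')) := by
  classical
  have hc := h.toCfg
  obtain ⟨h8, hHcard, hCu, hCV, hcv, hcuv⟩ := hc.stab_cards hn ⟨3, by decide, h.card_D⟩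
  set H := stabilizer G a with hH
  obtain ⟨k, q, Q, q', hk, hs, ⟨O, hOn, hO, hinfo⟩, hA', hB'⟩ := core_numbers_gen
    (u := (⟨u, h.u_mem.1⟩ : ↥H)) (v := ⟨v, h.v_mem.1⟩) (Subtype.ext hc.uu) (Subtype.ext hc.vv) (Subtype.ext h.comm)
    (fun e' => hc.u_ne (congrArg Subtype.val e')) (fun e' => hc.v_ne (congrArg Subtype.val e'))
    (fun e' => h.ne_uv (congrArg Subtype.val e')) h8 hcv hcuv
  rw [hCu] at hA' hB'
  rw [hCV] at hA'
  rw [hHcard, h.card_D] at hB'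
  refine ⟨k, q, Q, q', hk, ?_, hs, by linarith, by linarith, O, hOn, hO, fun h5 => ?_⟩
  · rcases hinfo with ⟨h1, h2, h3, -⟩ | ⟨h5, -⟩
    · exact Or.inl ⟨h1, h2, h3⟩
    · exact Or.inr h5
  · rcases hinfo with ⟨h1, -, -, -⟩ | ⟨-, hL⟩
    · omega
    · exact hL

end Four

namespace Swap

variable (hw : Swap a b w)
include hw

/-- Without `w u` in the class of `u` only `w` interchanges. -/
theorem delta_one (h : Cfg G a b u v) [Finite G] (hwu : w * u ∉ cls u) :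
    Nat.card {x : ↥(cls u) // (x : G) • a = b} = 1 := by
  have key : ∀ x : G, x ∈ cls u → x • a = b → x = w := by
    intro x hx hxa
    obtain ⟨hm, hsq⟩ := hw.mem_of_swap (h.cls_sq hx) hxa
    by_cases h0 : w * x = 1
    · rw [← inv_eq_of_mul_eq_one_right h0, inv_eq_of_mul_eq_one_right hw.sq]
    exfalso
    refine hwu ((hw.mul_mem_cls_iff h hm (orderOf_two_iff.2 ⟨hsq, h0⟩)).1 ?_)
    rwa [← mul_assoc, hw.sq, one_mul]
  obtain ⟨g, h1, -⟩ := h.exists_conj_swap h.u_ord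
  have hm : g * u * g⁻¹ ∈ cls u := cls_conj g ⟨1, by simp⟩
  rw [Nat.card_eq_one_iff_unique]
  exact ⟨⟨fun x y => Subtype.ext (Subtype.ext ((key _ x.1.2 x.2).trans (key _ y.1.2 y.2).symm))⟩,
    ⟨⟨⟨_, hm⟩, h1⟩⟩⟩

/-- Even degree: sixteen points. -/
theorem even_sixteen [Finite G] [Finite Ω] (h : Four G a b u v) (hn : Even (Nat.card Ω)) :
    Nat.card Ω = 16 ∧ Nat.card ↥(Fx Ω u) = 4 ∧
      ∃ O : Subgroup ↥(stabilizer G a), ∃ _ : O.Normal, O = Cfsg.oddCore ↥(stabilizer G a) ∧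
        ∃ L : Subgroup (↥(stabilizer G a) ⧸ O), L.Normal ∧ IsSimpleGroup ↥L ∧
          centralizer (L : Set (↥(stabilizer G a) ⧸ O)) = ⊥ ∧ Nat.card ↥L = 60 := by
  classical
  have hc := h.toCfg
  obtain ⟨k, q, Q, q', hk, hinfo, hs, hA, hB, O, hOn, hO, hL⟩ := h.even_numbers hn
  have hf2 := hc.fx_u_ge (Ω := Ω)
  have hg2 := hc.fx_v_ge (Ω := Ω)
  have hflt := hc.fx_lt (Ω := Ω)
  obtain ⟨n', hn'⟩ : ∃ n', Nat.card Ω = n' + 1 := ⟨Nat.card Ω - 1, by clear hL; omega⟩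
  obtain ⟨f', hf'⟩ : ∃ f', Nat.card ↥(Fx Ω u) = f' + 1 := ⟨Nat.card ↥(Fx Ω u) - 1, by clear hL; omega⟩
  obtain ⟨g', hg'⟩ : ∃ g', Nat.card ↥(Fx Ω u ∩ Fx Ω v) = g' + 1 := ⟨Nat.card ↥(Fx Ω u ∩ Fx Ω v) - 1, by clear hL; omega⟩
  rw [hf', hg', Nat.add_sub_cancel, Nat.add_sub_cancel] at hA
  rw [hn', hf', Nat.add_sub_cancel, Nat.add_sub_cancel] at hB
  have hdeg := hc.degree_eq (Ω := Ω)
  rw [h.card_invols, hn', hf', Nat.add_sub_cancel] at hdeg
  obtain ⟨hd4, hd3⟩ := hw.delta_eq hc h.card_invols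
  have hnotpp : ∀ m : ℕ, 2 ∣ m → 3 ∣ m → Nat.card ↥(Fx Ω u ∩ Fx Ω v) ≠ m := by
    intro m h2 h3 hm
    obtain ⟨p, e', hp, hpe⟩ := hc.fix_four_prime_pow hw.mapA (hw.comm u hc.u_mem) (hw.comm v hc.v_mem)
    rw [hm] at hpe
    have e2 := (Nat.prime_dvd_prime_iff_eq Nat.prime_two hp).1 (Nat.prime_two.dvd_of_dvd_pow (hpe ▸ h2))
    have e3 := (Nat.prime_dvd_prime_iff_eq Nat.prime_three hp).1 (Nat.prime_three.dvd_of_dvd_pow (hpe ▸ h3))
    omega
  by_cases hmv : ∃ c ∈ Fx Ω u, v • c ≠ c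
  swap
  · push Not at hmv
    have hfg : g' = f' := by
      have : Fx Ω u ∩ Fx Ω v = Fx Ω u := Set.inter_eq_left.2 fun c hc' => hmv c hc'
      rw [this] at hg'
      omega
    rw [hfg] at hA
    obtain ⟨-, e | ⟨hq, hQ, hq', e⟩⟩ := four_arith_fixed (show 0 < f' by omega)
      (Nat.eq_of_mul_eq_mul_right (show 0 < f' by omega) hA) hinfo hs hB
    · omega
    subst e
    rw [show 5 * f' + 1 - (f' + 1) = 4 * f' by omega] at hdeg
    have hδ : Nat.card {x : ↥(cls u) // (x : G) • a = b} * (f' + 1) = 12 :=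
      Nat.eq_of_mul_eq_mul_right (show 0 < f' by omega) (by linarith)
    by_cases hwu : w * u ∈ cls u
    · by_cases hwc : w ∈ cls u
      · rw [hd4 hwc hwu] at hδ
        obtain ⟨t, ht⟩ := hn
        omega
      · rw [hd3 hwc hwu] at hδ
        refine ⟨by omega, by omega, O, hOn, hO, ?_⟩
        obtain ⟨L, h1, h2, h3, h4⟩ := hL (by omega)
        exact ⟨L, h1, h2, h3, by rw [hq, hQ, hq'] at h4; omega⟩
    · rw [hw.delta_one hc hwu] at hδ
      exact absurd (by omega : Nat.card ↥(Fx Ω u ∩ Fx Ω v) = 12) (hnotpp 12 (by norm_num) (by norm_num))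
  exfalso
  have hloc := hc.local_eq (Ω := Ω)
  rw [hf', hg', Nat.add_sub_cancel] at hloc
  have hwu := hw.wu_mem_cls hc hmv
  obtain ⟨j, rfl⟩ : ∃ j, f' = g' + j := ⟨f' - g', by
    have : Nat.card ↥(Fx Ω u ∩ Fx Ω v) ≤ Nat.card ↥(Fx Ω u) :=
      Nat.card_le_card_of_injective (fun c => (⟨c.1, c.2.1⟩ : ↥(Fx Ω u))) fun c d e =>
        Subtype.ext (congrArg Subtype.val e :)
    omega⟩
  obtain ⟨i, rfl⟩ : ∃ i, n' = g' + j + i := ⟨n' - (g' + j), by omega⟩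
  rw [show g' + j + i + 1 - (g' + j + 1) = i by omega] at hdeg
  rw [show g' + j + 1 - (g' + 1) = j by omega] at hloc
  by_cases hwc : w ∈ cls u
  · rw [hd4 hwc hwu] at hdeg
    have hB' : 8 * (g' + j) + 14 = k ^ 2 * (q * q') := by
      refine Nat.eq_of_mul_eq_mul_right (show 0 < g' + j by omega) ?_
      linarith
    rcases hw.j_cases hc hmv with e | ⟨e, -⟩ <;> rw [e] at hloc
    · exact four_arith_inner_four hk (by omega) (show g' + j = g' * (2 * g' + 3) by linarith) hinfo hs hA hB'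
    · have h6 := four_arith_inner_two hk (by omega) (show g' + j = g' * (g' + 2) by linarith) hinfo hs hA hB'
      exact hnotpp 6 (by norm_num) (by norm_num) (by rw [hg', h6])
  · rw [hd3 hwc hwu] at hdeg
    rw [hw.j_eq_two hc hmv hwc] at hloc
    refine four_arith_outer hk (by omega) (show g' + j = g' * (g' + 2) by linarith) hinfo hs hA ?_
    refine Nat.eq_of_mul_eq_mul_right (show 0 < g' + j by omega) ?_
    linarith

end Swap

end Cfsg.Agent.Perm.TwoStab
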