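import Mathlib

/-!
# An obstruction for a dihedral group acting on an elementary abelian group of odd exponent

If `c` is inverted by the involution `υ`, `c ^ (p + 1) = -1`, `p ≡ 3 (mod 4)` and `c²` has no eigenvalue `-1`, then
the fixed group of `υ` carries an automorphism of order four squaring to `-1`, so its order is `1` modulo `4`.
-/

set_option autoImplicit false
set_option linter.unusedSectionVars false
set_option linter.style.haveILetI false

namespace Cfsg.Agent.Perm.TwoStab

theorem fixed_card_mod_four {M : Type*} [AddCommGroup M] [Finite M] {p : ℕ} [hp : Fact p.Prime] (hp4 : p % 4 = 3)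
    (hpM : ∀ m : M, p • m = 0) (c υ : AddMonoid.End M) (hc : c ^ (p + 1) = -1) (hυc : υ * c * υ * c = 1)
    (hυ : υ * υ = 1) (hfree : ∀ m : M, c (c m) = -m → m = 0) :
    Nat.card {m : M // υ m = m} % 4 = 1 := by
  classical
  by_cases htriv : Subsingleton M
  · haveI : Subsingleton {m : M // υ m = m} := inferInstance
    haveI : Nonempty {m : M // υ m = m} := ⟨⟨0, map_zero υ⟩⟩
    rw [Nat.card_unique]
  rw [not_subsingleton_iff_nontrivial] at htriv
  haveI := htriv
  haveI : Nontrivial (AddMonoid.End M) := ⟨⟨1, 0, fun e => by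
    obtain ⟨m, hm⟩ := exists_ne (0 : M)
    exact hm (DFunLike.congr_fun e m)⟩⟩
  haveI : CharP (AddMonoid.End M) p :=
    (CharP.charP_iff_prime_eq_zero hp.out).2 (AddMonoidHom.ext fun m => by
      show ((p : AddMonoid.End M)) m = 0
      rw [AddMonoid.End.natCast_apply]; exact hpM m)
  haveI : ExpChar (AddMonoid.End M) p := ExpChar.prime hp.out
  set d : AddMonoid.End M := υ * c * υ with hd
  have hdc : d * c = 1 := hυc
  have hcd : c * d = 1 := by
    calc c * d = υ * υ * (c * (υ * c * υ)) := by rw [hυ, one_mul]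
      _ = υ * (υ * c * υ * c) * υ := by simp only [mul_assoc]
      _ = 1 := by rw [hυc, mul_one, hυ]
  have hcomm : Commute c d := hcd.trans hdc.symm
  set s : AddMonoid.End M := c + d with hs
  have hcp : c ^ p = -d := by
    calc c ^ p = c ^ p * (c * d) := by rw [hcd, mul_one]
      _ = c ^ (p + 1) * d := by rw [← mul_assoc, pow_succ]
      _ = -d := by rw [hc, neg_one_mul]
  have hdp : d ^ p = -c := by
    have h1 : d ^ p * c ^ p = 1 := by rw [← hcomm.symm.mul_pow, hdc, one_pow]
    rw [hcp, mul_neg] at h1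
    calc d ^ p = d ^ p * d * c := by rw [mul_assoc, hdc, mul_one]
      _ = -c := by
        rw [show d ^ p * d = -1 from neg_eq_iff_eq_neg.1 h1, neg_one_mul]
  have hsp : s ^ p = -s := by rw [hs, add_pow_char_of_commute _ hcomm, hcp, hdp]; abel
  have hsinj : ∀ m : M, s m = 0 → m = 0 := by
    intro m hm
    refine hfree m ?_
    have h1 : c m = -d m := eq_neg_of_add_eq_zero_left hm
    rw [h1, map_neg]
    exact congrArg Neg.neg (DFunLike.congr_fun hcd m)
  have hυd : υ * d = c * υ := by rw [hd, ← mul_assoc, ← mul_assoc, hυ, one_mul]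
  have hυs : υ * s = s * υ := by
    have hυc' : υ * c = d * υ := by rw [hd, mul_assoc, hυ, mul_one]
    rw [hs, mul_add, add_mul, hυd, hυc', add_comm]
  set k := (p - 1) / 2 with hk
  set t : AddMonoid.End M := s ^ k with ht
  have htt : ∀ m : M, t (t m) = -m := by
    intro m
    have h1 : s * (t * t + 1) = 0 := by
      rw [mul_add, mul_one, ht, ← pow_add, ← pow_succ', show k + k + 1 = p by omega, hsp, neg_add_cancel]
    exact eq_neg_of_add_eq_zero_left (hsinj _ (DFunLike.congr_fun h1 m))
  have htW : ∀ m : M, υ m = m → υ (t m) = t m := by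
    intro m hm
    have h1 : υ * t = t * υ := (Commute.pow_right (show Commute υ s from hυs) k).eq
    rw [show υ (t m) = (υ * t) m from rfl, h1]
    exact congrArg t hm
  -- `t` permutes the non-zero fixed vectors in orbits of length four
  have hp2 : p ≠ 2 := by omega
  have hneg : ∀ m : M, m ≠ 0 → -m ≠ m := fun m hm e => by
    have h2 : (2 : ℕ) • m = 0 := by
      rw [two_nsmul]; nth_rewrite 1 [← e]; rw [neg_add_cancel]
    have h3 : addOrderOf m ∣ Nat.gcd 2 p :=
      Nat.dvd_gcd (addOrderOf_dvd_iff_nsmul_eq_zero.2 h2) (addOrderOf_dvd_iff_nsmul_eq_zero.2 (hpM m))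
    rw [(Nat.coprime_primes Nat.prime_two hp.out).2 hp2.symm, Nat.dvd_one] at h3
    exact hm (AddMonoid.addOrderOf_eq_one_iff.1 h3)
  let W := {m : M // υ m = m ∧ m ≠ 0}
  have htne : ∀ w : W, t w.1 ≠ 0 := fun w e => w.2.2 (by simpa [e] using (htt w.1).symm)
  let σ : Equiv.Perm W :=
    { toFun := fun w => ⟨t w.1, htW _ w.2.1, htne w⟩
      invFun := fun w => ⟨-t w.1, by rw [map_neg, htW _ w.2.1], by simpa using htne w⟩
      left_inv := fun w => Subtype.ext (show -t (t w.1) = w.1 by rw [htt, neg_neg])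
      right_inv := fun w => Subtype.ext (show t (-t w.1) = w.1 by rw [map_neg, htt, neg_neg]) }
  have hσ2 : ∀ w : W, ((σ ^ 2) w).1 = -w.1 := fun w => by
    rw [pow_two, Equiv.Perm.mul_apply]; exact htt w.1
  have hσ4 : σ ^ 4 = 1 := Equiv.ext fun w => Subtype.ext (by
    show ((σ ^ (2 * 2)) w).1 = w.1
    rw [pow_mul, pow_two (σ ^ 2), Equiv.Perm.mul_apply, hσ2, hσ2, neg_neg])
  have hfix2 : ∀ w : W, (σ ^ 2) w ≠ w := fun w e => hneg w.1 w.2.2 (by rw [← hσ2, e])
  have hdvd : 4 ∣ Nat.card W := by
    by_cases hW : IsEmpty W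
    · simp
    rw [not_isEmpty_iff] at hW
    obtain ⟨w₀⟩ := hW
    have hord : orderOf σ = 2 ^ 2 := by
      refine orderOf_eq_prime_pow (p := 2) (n := 1) ?_ (by simpa using hσ4)
      intro e
      exact hfix2 w₀ (by rw [show σ ^ 2 = 1 by simpa using e]; rfl)
    have hstab : ∀ w : W, MulAction.stabilizer ↥(Subgroup.zpowers σ) w = ⊥ := by
      intro w
      rw [eq_bot_iff]
      rintro ⟨g, hg⟩ hgw
      obtain ⟨i, rfl⟩ := Subgroup.mem_zpowers_iff.1 hg
      have hw : (σ ^ i) w = w := MulAction.mem_stabilizer_iff.1 hgw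
      refine Subgroup.mem_bot.2 (Subtype.ext ?_)
      show σ ^ i = 1
      have h4 : σ ^ i = σ ^ (i % 4) := by
        rw [show (4 : ℤ) = ((orderOf σ : ℕ) : ℤ) by rw [hord]; norm_num, zpow_mod_orderOf]
      rcases (show i % 4 = 0 ∨ i % 4 = 1 ∨ i % 4 = 2 ∨ i % 4 = 3 by omega) with e | e | e | e <;>
        rw [h4, e] at hw ⊢
      · simp
      all_goals exfalso
      · rw [zpow_one] at hw
        exact hfix2 w (by rw [pow_two, Equiv.Perm.mul_apply, hw, hw])
      · exact hfix2 w hw
      · have hw3 : (σ ^ (3 : ℕ)) w = w := hw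
        refine hfix2 w ?_
        have h1 : σ w = w := by
          conv_rhs => rw [← show (σ ^ 4) w = w by rw [hσ4]; rfl]
          rw [show (4 : ℕ) = 1 + 3 from rfl, pow_add, pow_one, Equiv.Perm.mul_apply, hw3]
        rw [pow_two, Equiv.Perm.mul_apply, h1, h1]
    rw [Nat.card_congr (MulAction.selfEquivOrbitsQuotientProd hstab), Nat.card_prod, Nat.card_zpowers, hord]
    exact dvd_mul_left _ _
  have hsplit : Nat.card {m : M // υ m = m} = Nat.card W + 1 := by
    rw [← Finite.card_option]
    refine Nat.card_congr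
      { toFun := fun m => if h : m.1 = 0 then none else some ⟨m.1, m.2, h⟩
        invFun := fun o => o.elim ⟨0, map_zero υ⟩ fun w => ⟨w.1, w.2.1⟩
        left_inv := fun m => by
          by_cases h : m.1 = 0
          · simp only [h, dite_true, Option.elim_none]; exact Subtype.ext h.symm
          · simp [h]
        right_inv := fun o => by
          cases o with
          | none => simp
          | some w => simp [w.2.2] }
  rw [hsplit]
  omega

end Cfsg.Agent.Perm.TwoStab
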