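import Cfsg.Agent.Lib.Perm.TwoStab.FixW
import Cfsg.Agent.Lib.Perm.TwoStab.PSLCent
import Cfsg.Agent.Lib.Invol.GW.Consumers.Socle
import Cfsg.Agent.Lib.Invol.GW.Consumers.Dihedral
import Cfsg.Agent.Lib.Invol.GW.Dihedral.ThreeDoneFinal
import Cfsg.Agent.Lib.Classical.PSLBinaryTorus

/-!
# Odd degree, four interchanging elements in the class of `v`: impossible

The action on the fixed points of `u` then is doubly transitive with two-point stabilisers of order two, one class of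
involutions, a four group as Sylow subgroup and no regular normal subgroup.  Its socle would be a `PSL₂(q)` whose
involution centraliser is too small for the number of involutions.
-/

set_option autoImplicit false
set_option linter.unusedSectionVars false
set_option linter.style.haveILetI false

namespace Cfsg.Agent.Perm.TwoStab

open MulAction Subgroup

universe u₁ u₂

/-- Doubly transitive groups with two-point stabilisers `{1, t}`, one class of involutions, and the numbers of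
fixed points that occur. -/
structure Thin {X : Type u₁} [Group X] {Φ : Type u₂} [MulAction X Φ] (A B : Φ) (t s : X) : Prop where
  move : ∀ c d c' d' : Φ, c ≠ d → c' ≠ d' → ∃ g : X, g • c = c' ∧ g • d = d'
  faith : ∀ g : X, (∀ x : Φ, g • x = x) → g = 1
  ne : A ≠ B
  stab : ∀ q : X, q • A = A → q • B = B → q = 1 ∨ q = t
  tA : t • A = A
  tB : t • B = B
  tt : t * t = 1
  t1 : t ≠ 1
  sA : s • A = B
  ss : s * s = 1
  st : s * t = t * s
  conj : ∀ q : X, q * q = 1 → q ≠ 1 → ∃ g : X, g * q * g⁻¹ = t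
  godd : Odd (Nat.card ↥(Fx Φ t))
  deg : Nat.card Φ + Nat.card ↥(Fx Φ t) = 2 * (Nat.card ↥(Fx Φ t) * Nat.card ↥(Fx Φ t))

namespace Thin

variable {X : Type u₁} [Group X] {Φ : Type u₂} [MulAction X Φ] {A B : Φ} {t s : X} (h : Thin A B t s)
include h

theorem sB : s • B = A := by rw [← h.sA, smul_smul, h.ss, one_smul]

theorem tord : orderOf t = 2 := orderOf_two_iff.2 ⟨h.tt, h.t1⟩

theorem pres {x : X} (hx : x * t = t * x) {c : Φ} (hc : c ∈ Fx Φ t) : x • c ∈ Fx Φ t := by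
  show t • x • c = x • c
  rw [smul_smul, ← hx, mul_smul, mem_Fx.1 hc]

theorem stab_eq {q : X} {c d : Φ} (hcd : c ≠ d) (hq1 : q ≠ 1) (hc : c ∈ Fx Φ t) (hd : d ∈ Fx Φ t) (hqc : q • c = c)
    (hqd : q • d = d) : q = t := by
  obtain ⟨g, h1, h2⟩ := h.move c d A B hcd h.ne
  have key : ∀ p : X, p ≠ 1 → p • c = c → p • d = d → g * p * g⁻¹ = t := by
    intro p hp hpc hpd
    refine (h.stab _ ?_ ?_).resolve_left fun e => hp ?_
    · rw [← h1, mul_smul, mul_smul, inv_smul_smul, hpc]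
    · rw [← h2, mul_smul, mul_smul, inv_smul_smul, hpd]
    · rwa [mul_inv_eq_one, mul_eq_left] at e
  exact mul_left_cancel (mul_right_cancel ((key q hq1 hqc hqd).trans (key t h.t1 hc hd).symm))

theorem cent_move {c d c' d' : Φ} (hcd : c ≠ d) (hcd' : c' ≠ d') (hc : c ∈ Fx Φ t) (hd : d ∈ Fx Φ t)
    (hc' : c' ∈ Fx Φ t) (hd' : d' ∈ Fx Φ t) : ∃ g : X, g * t = t * g ∧ g • c = c' ∧ g • d = d' := by
  obtain ⟨g, h1, h2⟩ := h.move c d c' d' hcd hcd'
  refine ⟨g, mul_inv_eq_iff_eq_mul.1 (h.stab_eq hcd' (fun e => h.t1 ?_) hc' hd' ?_ ?_), h1, h2⟩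
  · rwa [mul_inv_eq_one, mul_eq_left] at e
  · rw [← h1, mul_smul, mul_smul, inv_smul_smul, mem_Fx.1 hc]
  · rw [← h2, mul_smul, mul_smul, inv_smul_smul, mem_Fx.1 hd]

theorem g_ge [Finite Φ] : 3 ≤ Nat.card ↥(Fx Φ t) := by
  have h1 : 2 ≤ Nat.card ↥(Fx Φ t) := by
    rw [Nat.card_coe_set_eq]
    exact (Set.one_lt_ncard (Set.toFinite _)).2 ⟨A, h.tA, B, h.tB, h.ne⟩
  obtain ⟨k, hk⟩ := h.godd
  omega

theorem card_stab : Nat.card ↥(pairStab X A B) = 2 := by
  rw [Nat.card_eq_two_iff]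
  refine ⟨⟨1, one_mem _⟩, ⟨t, h.tA, h.tB⟩, fun e => h.t1 (congrArg Subtype.val e).symm, ?_⟩
  refine Set.eq_univ_of_forall fun q => ?_
  rcases h.stab q q.2.1 q.2.2 with e | e
  · left; exact Subtype.ext e
  · right; exact Subtype.ext e

theorem card_all [Finite X] [Finite Φ] : Nat.card X = Nat.card Φ * (Nat.card Φ - 1) * 2 := by
  have h1 := card_eq_pairs (⊤ : Subgroup X) (a := A) (b := B) (offPairs (Set.univ : Set Φ)) ⟨h.ne, trivial, trivial⟩
    (fun g _ => ⟨fun e => h.ne (smul_left_cancel g e), trivial, trivial⟩)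
    (fun p hp => by
      obtain ⟨g, h1, h2⟩ := h.move A B p.1 p.2 h.ne hp.1
      exact ⟨g, mem_top _, Prod.ext h1 h2⟩)
  rwa [card_offPairs, Nat.card_congr (Equiv.Set.univ Φ), top_inf_eq, h.card_stab,
    Subgroup.card_top] at h1

theorem card_centralizer [Finite X] [Finite Φ] : Nat.card ↥(centralizer ({t} : Set X)) =
    Nat.card ↥(Fx Φ t) * (Nat.card ↥(Fx Φ t) - 1) * 2 := by
  have h1 := card_eq_pairs (centralizer ({t} : Set X)) (a := A) (b := B) (offPairs (Fx Φ t)) ⟨h.ne, h.tA, h.tB⟩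
    (fun g hg => ⟨fun e => h.ne (smul_left_cancel g e), h.pres (mem_centralizer_singleton_iff.1 hg) h.tA,
      h.pres (mem_centralizer_singleton_iff.1 hg) h.tB⟩)
    (fun p hp => by
      obtain ⟨g, hg, h1, h2⟩ := h.cent_move h.ne hp.1 h.tA h.tB hp.2.1 hp.2.2
      exact ⟨g, mem_centralizer_singleton_iff.2 hg, Prod.ext h1 h2⟩)
  have h2 : centralizer ({t} : Set X) ⊓ pairStab X A B = pairStab X A B := inf_eq_right.2 fun q hq => by
    rw [mem_centralizer_singleton_iff]
    rcases h.stab q hq.1 hq.2 with e | e <;> simp [e]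
  rwa [card_offPairs, h2, h.card_stab] at h1

/-- The number of involutions. -/
theorem index_eq [Finite X] [Finite Φ] : Nat.card X = Nat.card ↥(centralizer ({t} : Set X)) *
    ((2 * Nat.card ↥(Fx Φ t) - 1) * (2 * Nat.card ↥(Fx Φ t) + 1)) := by
  have hg := h.g_ge
  have hd := h.deg
  rw [h.card_all, h.card_centralizer]
  obtain ⟨k, hk⟩ : ∃ k, Nat.card ↥(Fx Φ t) = k + 1 := ⟨_, (Nat.succ_pred_eq_of_pos (by omega)).symm⟩
  rw [hk] at hd ⊢
  have hn : Nat.card Φ = (k + 1) * (2 * k + 1) := by linarith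
  rw [hn, show (k + 1) * (2 * k + 1) - 1 = k * (2 * k + 3) by
    rw [show (k + 1) * (2 * k + 1) = k * (2 * k + 3) + 1 by ring]; rfl,
    show k + 1 - 1 = k by omega, show 2 * (k + 1) - 1 = 2 * k + 1 by omega]
  ring

/-- An element of the centraliser inducing an involution on the fixed points of `t` is an involution. -/
theorem sq_one {x : X} (hxt : x * t = t * x) (hx : x * x = 1 ∨ x * x = t) (hne : ¬ (x = 1 ∨ x = t)) : x * x = 1 := by
  obtain ⟨c, hc, hxc⟩ : ∃ c ∈ Fx Φ t, x • c ≠ c := by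
    by_contra hall
    push Not at hall
    exact hne (h.stab x (hall A h.tA) (hall B h.tB))
  have hxx : x • x • c = c := by
    rw [smul_smul]
    rcases hx with e | e <;> rw [e]
    exacts [one_smul _ c, hc]
  obtain ⟨g, hg, h1, h2⟩ := h.cent_move (fun e => hxc e.symm) h.ne hc (h.pres hxt hc) h.tA h.tB
  have ha : (g * x * g⁻¹) • A = B := by rw [← h1, mul_smul, mul_smul, inv_smul_smul, h2]
  have hb : (g * x * g⁻¹) • B = A := by rw [← h2, mul_smul, mul_smul, inv_smul_smul, hxx, h1]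
  have h3 : s * (g * x * g⁻¹) = 1 ∨ s * (g * x * g⁻¹) = t :=
    h.stab _ (by rw [mul_smul, ha, h.sB]) (by rw [mul_smul, hb, h.sA])
  have h4 : g * x * g⁻¹ = s * (s * (g * x * g⁻¹)) := by rw [← mul_assoc, h.ss, one_mul]
  have h5 : g * x * g⁻¹ * (g * x * g⁻¹) = 1 := by
    rcases h3 with e | e <;> rw [h4, e]
    · rw [mul_one, h.ss]
    · rw [mul_assoc, ← mul_assoc t, ← h.st, mul_assoc s t t, h.tt, mul_one, h.ss]
  rw [show g * x * g⁻¹ * (g * x * g⁻¹) = g * (x * x) * g⁻¹ by group, mul_inv_eq_one, mul_eq_left] at h5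
  exact h5

/-- The elements inducing involutions on the fixed points of `t`. -/
theorem two_group [Finite X] [Finite Φ] (R : Subgroup X) (hRC : R ≤ centralizer ({t} : Set X)) (hR : IsPGroup 2 ↥R)
    {x y : X} (hx : x ∈ R) (hy : y ∈ R) (hx2 : x * x = 1 ∨ x * x = t) (hy2 : y * y = 1 ∨ y * y = t)
    (hxn : ¬ (x = 1 ∨ x = t)) (hyn : ¬ (y = 1 ∨ y = t)) : y = x ∨ y = x * t := by
  classical
  haveI : Fact (Nat.Prime 2) := ⟨Nat.prime_two⟩
  set C := centralizer ({t} : Set X) with hC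
  set J : Set X := {z | z * t = t * z ∧ z * z = 1 ∧ z ≠ 1 ∧ z ≠ t} with hJ
  have hJconj : ∀ g ∈ C, ∀ z ∈ J, g * z * g⁻¹ ∈ J := by
    intro g hg z hz
    obtain ⟨z1, z2, z3, z4⟩ := hz
    have hgt : Commute g t := mem_centralizer_singleton_iff.1 hg
    refine ⟨((hgt.mul_left z1).mul_left hgt.inv_left).eq, ?_, fun e => z3 ?_, fun e => z4 ?_⟩
    · rw [show g * z * g⁻¹ * (g * z * g⁻¹) = g * (z * z) * g⁻¹ by group, z2]; group
    · rwa [mul_inv_eq_one, mul_eq_left] at e
    · rw [mul_inv_eq_iff_eq_mul, ← hgt.eq] at e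
      exact mul_left_cancel e
  have huniq : ∀ z ∈ J, ∀ c ∈ Fx Φ t, ∀ d ∈ Fx Φ t, z • c = c → z • d = d → c = d := fun z hz c hc d hd h1 h2 => by
    by_contra hcd
    exact hz.2.2.2 (h.stab_eq hcd hz.2.2.1 hc hd h1 h2)
  have hex : ∀ z : ↥J, ∃ c : ↥(Fx Φ t), (z : X) • (c : Φ) = c := fun z => by
    obtain ⟨c, hc, h1⟩ := exists_fix_of_odd z.2.2.1 (Fx Φ t) (fun c hc => h.pres z.2.1 hc) h.godd
    exact ⟨⟨c, hc⟩, h1⟩
  choose φ hφ using hex
  have hg3 := h.g_ge
  have hsJ : s ∈ J := ⟨h.st, h.ss, fun e => h.ne (by rw [← h.sA, e, one_smul]), fun e => h.ne (by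
    rw [← h.sA, e, h.tA])⟩
  have hstJ : s * t ∈ J := by
    refine ⟨by rw [mul_assoc, ← mul_assoc t, ← h.st, mul_assoc], ?_, fun e => hsJ.2.2.2 ?_, fun e => hsJ.2.2.1 ?_⟩
    · rw [mul_assoc, ← mul_assoc t, ← h.st, mul_assoc s t t, h.tt, mul_one, h.ss]
    · calc s = s * t * t := by rw [mul_assoc, h.tt, mul_one]
        _ = t := by rw [e, one_mul]
    · calc s = s * t * t := by rw [mul_assoc, h.tt, mul_one]
        _ = 1 := by rw [e, h.tt]
  have hswap2 : Nat.card {z : ↥J // (z : X) • A = B} = 2 := by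
    rw [Nat.card_eq_two_iff]
    refine ⟨⟨⟨s, hsJ⟩, h.sA⟩, ⟨⟨s * t, hstJ⟩, by show (s * t) • A = B; rw [mul_smul, h.tA, h.sA]⟩, fun e => h.t1 ?_,
      Set.eq_univ_of_forall fun z => ?_⟩
    · exact mul_eq_left.1 (congrArg (fun z : {z : ↥J // (z : X) • A = B} => (z.1 : X)) e).symm
    · have hb : (z.1 : X) • B = A := smul_swap z.1.2.2.1 z.2
      have h4 : (z.1 : X) = s * (s * (z.1 : X)) := by rw [← mul_assoc, h.ss, one_mul]
      rcases h.stab (s * (z.1 : X)) (by rw [mul_smul, z.2, h.sB]) (by rw [mul_smul, hb, h.sA]) with e | e <;>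
        rw [e] at h4
      · left; exact Subtype.ext (Subtype.ext (h4.trans (mul_one s)))
      · right; exact Subtype.ext (Subtype.ext h4)
  have hcardJ := incidence C (a := A) (b := B) (offPairs (Fx Φ t))
    (fun g hg p hp => ⟨fun e => hp.1 (smul_left_cancel g e), h.pres (mem_centralizer_singleton_iff.1 hg) hp.2.1,
      h.pres (mem_centralizer_singleton_iff.1 hg) hp.2.2⟩)
    (fun p hp => by
      obtain ⟨g, hg, h1, h2⟩ := h.cent_move h.ne hp.1 h.tA h.tB hp.2.1 hp.2.2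
      exact ⟨g, mem_centralizer_singleton_iff.2 hg, Prod.ext h1 h2⟩)
    J hJconj (fun z c d => z • c = d)
    (fun g _ z c d hz => by rw [mul_smul, mul_smul, inv_smul_smul, hz])
    (Nat.card ↥(Fx Φ t) - 1) (fun z hz => by
      rw [card_swapped hz.2.1 (Fx Φ t) (fun c hc => h.pres hz.1 hc)]
      congr 1
      rw [Nat.card_eq_one_iff_unique]
      exact ⟨⟨fun c d => Subtype.ext (huniq z hz c c.2.1 d d.2.1 c.2.2 d.2.2)⟩,
        ⟨⟨(φ ⟨z, hz⟩ : ↥(Fx Φ t)), (φ ⟨z, hz⟩).2, hφ ⟨z, hz⟩⟩⟩⟩)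
  rw [card_offPairs, hswap2] at hcardJ
  have hJ2 : Nat.card ↥J = Nat.card ↥(Fx Φ t) * 2 := by
    refine Nat.eq_of_mul_eq_mul_right (show 0 < Nat.card ↥(Fx Φ t) - 1 by omega) ?_
    rw [hcardJ]; ring
  have hfib : ∀ c : ↥(Fx Φ t), Nat.card {z : ↥J // φ z = c} = 2 := by
    intro c
    have h1 := fiber_card (P := Fx Φ t) φ (fun c d => ?_) c
    · rw [hJ2] at h1
      exact Nat.eq_of_mul_eq_mul_left (by omega) h1
    obtain ⟨g, hg, hgc⟩ : ∃ g : X, g * t = t * g ∧ g • (c : Φ) = d := by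
      by_cases hcd : c = d
      · exact ⟨1, by simp, by rw [one_smul, hcd]⟩
      obtain ⟨g, hg, h1, -⟩ := h.cent_move (fun e => hcd (Subtype.ext e)) (fun e => hcd (Subtype.ext e).symm) c.2 d.2
        d.2 c.2
      exact ⟨g, hg, h1⟩
    refine ⟨g, hgc, fun z hz => ⟨hJconj g (mem_centralizer_singleton_iff.2 hg) z z.2, Subtype.ext ?_⟩⟩
    refine huniq _ (hJconj g (mem_centralizer_singleton_iff.2 hg) z z.2) _ (φ _).2 _ d.2 (hφ ⟨_, _⟩) ?_
    rw [← hgc, mul_smul, mul_smul, inv_smul_smul, ← hz, hφ z]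
  -- a common fixed point
  obtain ⟨c, hc, hfix⟩ : ∃ c ∈ Fx Φ t, ∀ z ∈ R, z • c = c := by
    have hp : IsPGroup 2 ↥(R.subgroupOf C) := hR.of_equiv (subgroupOfEquivOfLe hRC).symm
    haveI : Finite ↥(fixSub Φ t) := Subtype.finite
    obtain ⟨c, hc⟩ := hp.nonempty_fixed_point_of_prime_not_dvd_card ↥(fixSub Φ t)
      (fun h2 => (Nat.not_even_iff_odd.2 h.godd) (even_iff_two_dvd.2 h2))
    exact ⟨c, c.2, fun z hz => congrArg Subtype.val (hc ⟨⟨z, hRC hz⟩, mem_subgroupOf.2 hz⟩)⟩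
  have hmem : ∀ z ∈ R, (z * z = 1 ∨ z * z = t) → ¬ (z = 1 ∨ z = t) → z ∈ J := fun z hz h2 hn => by
    push Not at hn
    exact ⟨mem_centralizer_singleton_iff.1 (hRC hz), h.sq_one (mem_centralizer_singleton_iff.1 (hRC hz)) h2
      (by push Not; exact hn), hn.1, hn.2⟩
  have hxJ := hmem x hx hx2 hxn
  have hyJ := hmem y hy hy2 hyn
  have hxt := hxJ.1
  have hxtJ : x * t ∈ J := by
    refine ⟨by rw [mul_assoc, ← mul_assoc t, ← hxt, mul_assoc], ?_, fun e => hxJ.2.2.2 ?_, fun e => hxJ.2.2.1 ?_⟩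
    · rw [mul_assoc, ← mul_assoc t, ← hxt, mul_assoc x t t, h.tt, mul_one, hxJ.2.1]
    · calc x = x * t * t := by rw [mul_assoc, h.tt, mul_one]
        _ = t := by rw [e, one_mul]
    · calc x = x * t * t := by rw [mul_assoc, h.tt, mul_one]
        _ = 1 := by rw [e, h.tt]
  have hφx : φ ⟨x, hxJ⟩ = ⟨c, hc⟩ := Subtype.ext (huniq x hxJ _ (φ _).2 _ hc (hφ ⟨x, hxJ⟩) (hfix x hx))
  have hφy : φ ⟨y, hyJ⟩ = ⟨c, hc⟩ := Subtype.ext (huniq y hyJ _ (φ _).2 _ hc (hφ ⟨y, hyJ⟩) (hfix y hy))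
  have hφxt : φ ⟨x * t, hxtJ⟩ = ⟨c, hc⟩ := Subtype.ext (huniq _ hxtJ _ (φ _).2 _ hc (hφ ⟨x * t, hxtJ⟩) (by
    rw [mul_smul, mem_Fx.1 hc]; exact hfix x hx))
  have h2' := hfib ⟨c, hc⟩
  rw [Nat.card_eq_two_iff' ⟨⟨x, hxJ⟩, hφx⟩] at h2'
  by_cases hyx : y = x
  · exact Or.inl hyx
  obtain ⟨z, -, hz⟩ := h2'
  have e1 := hz ⟨_, hφy⟩ (fun e => hyx (congrArg (fun q : {q : ↥J // φ q = ⟨c, hc⟩} => (q.1 : X)) e))
  have e2 := hz ⟨_, hφxt⟩ (fun e => h.t1 (mul_eq_left.1
    (congrArg (fun q : {q : ↥J // φ q = ⟨c, hc⟩} => (q.1 : X)) e)))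
  exact Or.inr (congrArg (fun q : {q : ↥J // φ q = ⟨c, hc⟩} => (q.1 : X)) (e1.trans e2.symm))

/-- The Sylow subgroups are four groups. -/
theorem exists_sylow_klein [Finite X] [Finite Φ] : ∃ T : Sylow 2 X, t ∈ (T : Subgroup X) ∧ s ∈ (T : Subgroup X) ∧
    IsKleinFour ↥(T : Subgroup X) := by
  classical
  haveI : Fact (Nat.Prime 2) := ⟨Nat.prime_two⟩
  set C := centralizer ({t} : Set X) with hC
  set t' : ↥C := ⟨t, mem_centralizer_singleton_iff.2 rfl⟩
  set s' : ↥C := ⟨s, mem_centralizer_singleton_iff.2 h.st⟩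
  let E : Subgroup ↥C :=
    { carrier := {x | x = 1 ∨ x = t' ∨ x = s' ∨ x = s' * t'}
      one_mem' := Or.inl rfl
      inv_mem' := by
        have e1 : t'⁻¹ = t' := inv_eq_of_mul_eq_one_right (Subtype.ext h.tt)
        have e2 : s'⁻¹ = s' := inv_eq_of_mul_eq_one_right (Subtype.ext h.ss)
        have e3 : t' * s' = s' * t' := Subtype.ext h.st.symm
        rintro x (rfl | rfl | rfl | rfl)
        · exact Or.inl inv_one
        · exact Or.inr (Or.inl e1)
        · exact Or.inr (Or.inr (Or.inl e2))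
        · exact Or.inr (Or.inr (Or.inr (by rw [mul_inv_rev, e1, e2, e3])))
      mul_mem' := by
        have e1 : t' * t' = 1 := Subtype.ext h.tt
        have e2 : s' * s' = 1 := Subtype.ext h.ss
        have e3 : t' * s' = s' * t' := Subtype.ext h.st.symm
        have e4 : s' * t' * t' = s' := by rw [mul_assoc, e1, mul_one]
        have e5 : s' * (s' * t') = t' := by rw [← mul_assoc, e2, one_mul]
        have e6 : t' * (s' * t') = s' := by rw [← mul_assoc, e3, e4]
        have e7 : s' * t' * s' = t' := by rw [mul_assoc, e3, e5]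
        have e8 : s' * t' * (s' * t') = 1 := by rw [← mul_assoc, e7, e1]
        intro x y hx hy
        show x * y = 1 ∨ x * y = t' ∨ x * y = s' ∨ x * y = s' * t'
        rcases hx with rfl | rfl | rfl | rfl <;> rcases hy with rfl | rfl | rfl | rfl <;>
          simp only [one_mul, mul_one, e1, e2, e3, e4, e5, e6, e7, e8, true_or, or_true] }
  have hEp : IsPGroup 2 ↥E := fun x => ⟨1, Subtype.ext (by
    show (x : ↥C) ^ 2 ^ 1 = 1
    rw [pow_one, pow_two]
    rcases x.2 with e | e | e | e <;> rw [e]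
    · exact one_mul 1
    · exact Subtype.ext h.tt
    · exact Subtype.ext h.ss
    · exact Subtype.ext (show s * t * (s * t) = 1 by
        rw [mul_assoc, ← mul_assoc t, ← h.st, mul_assoc s t t, h.tt, mul_one, h.ss]))⟩
  obtain ⟨P, hP⟩ := hEp.exists_le_sylow
  set T₀ := (P : Subgroup ↥C).map C.subtype with hT₀
  have hT₀C : T₀ ≤ C := map_subtype_le _
  have hT₀p : IsPGroup 2 ↥T₀ := P.isPGroup'.map _
  have htT : t ∈ T₀ := ⟨t', hP (Or.inr (Or.inl rfl)), rfl⟩
  have hsT : s ∈ T₀ := ⟨s', hP (Or.inr (Or.inr (Or.inl rfl))), rfl⟩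
  have hsn : ¬ (s = 1 ∨ s = t) := by
    rintro (e | e) <;> exact h.ne (by rw [← h.sA, e]; first | rw [one_smul] | rw [h.tA])
  have hsmall : ∀ x ∈ T₀, (x * x = 1 ∨ x * x = t) → x = 1 ∨ x = t ∨ x = s ∨ x = s * t := by
    intro x hx h2
    by_cases hx' : x = 1 ∨ x = t
    · rcases hx' with e | e
      · exact Or.inl e
      · exact Or.inr (Or.inl e)
    · rcases h.two_group T₀ hT₀C hT₀p hsT hx (Or.inl h.ss) h2 hsn hx' with e | e
      · exact Or.inr (Or.inr (Or.inl e))
      · exact Or.inr (Or.inr (Or.inr e))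
  have hstep : ∀ x ∈ T₀, (x * x = 1 ∨ x * x = t ∨ x * x = s ∨ x * x = s * t) →
      x = 1 ∨ x = t ∨ x = s ∨ x = s * t := by
    intro x hx h2
    rcases (show (x * x = 1 ∨ x * x = t) ∨ (x * x = s ∨ x * x = s * t) by tauto) with e | e
    · exact hsmall x hx e
    exfalso
    have hxt : x * t = t * x := mem_centralizer_singleton_iff.1 (hT₀C hx)
    have hz2 : x * x * (x * x) = 1 := by
      rcases e with e | e <;> rw [e]
      · exact h.ss
      · rw [mul_assoc, ← mul_assoc t, ← h.st, mul_assoc s t t, h.tt, mul_one, h.ss]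
    have hz1 : x * x ≠ 1 ∧ x * x ≠ t := by
      rcases e with e | e <;> rw [e]
      · exact ⟨fun e' => hsn (Or.inl e'), fun e' => hsn (Or.inr e')⟩
      · refine ⟨fun e' => hsn (Or.inr ?_), fun e' => hsn (Or.inl ?_)⟩
        · calc s = s * t * t := by rw [mul_assoc, h.tt, mul_one]
            _ = t := by rw [e', one_mul]
        · calc s = s * t * t := by rw [mul_assoc, h.tt, mul_one]
            _ = 1 := by rw [e', h.tt]
    obtain ⟨g, hg⟩ := h.conj _ hz2 hz1.1
    set R := (T₀ ⊓ centralizer ({x * x} : Set X)).map (MulAut.conj g).toMonoidHom with hR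
    have hRC : R ≤ C := by
      rintro _ ⟨y, ⟨-, hy⟩, rfl⟩
      rw [hC, mem_centralizer_singleton_iff, ← hg]
      show g * y * g⁻¹ * (g * (x * x) * g⁻¹) = g * (x * x) * g⁻¹ * (g * y * g⁻¹)
      rw [show g * y * g⁻¹ * (g * (x * x) * g⁻¹) = g * (y * (x * x)) * g⁻¹ by group,
        mem_centralizer_singleton_iff.1 hy]
      group
    have hRp : IsPGroup 2 ↥R := (hT₀p.to_le inf_le_left).map _
    have hxR : g * x * g⁻¹ ∈ R := ⟨x, ⟨hx, mem_centralizer_singleton_iff.2 (by rw [mul_assoc])⟩, rfl⟩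
    have htR : g * t * g⁻¹ ∈ R := ⟨t, ⟨htT, mem_centralizer_singleton_iff.2 (by
      rw [← mul_assoc, ← hxt, mul_assoc x t x, ← hxt, mul_assoc])⟩, rfl⟩
    have hconj : ∀ p : X, g * p * g⁻¹ = t → p = x * x := fun p hp => mul_left_cancel (mul_right_cancel (hp.trans hg.symm))
    have hx3 : x ≠ 1 ∧ x ≠ t ∧ x ≠ x * x := by
      refine ⟨fun e' => hz1.1 (by rw [e', one_mul]), fun e' => hz1.1 (by rw [e', h.tt]), fun e' => ?_⟩
      have e'' : x = 1 := mul_eq_left.1 e'.symm
      exact hz1.1 (by rw [e'', one_mul])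
    rcases h.two_group R hRC hRp htR hxR (Or.inl (by
        rw [show g * t * g⁻¹ * (g * t * g⁻¹) = g * (t * t) * g⁻¹ by group, h.tt]; group))
        (Or.inr (by rw [show g * x * g⁻¹ * (g * x * g⁻¹) = g * (x * x) * g⁻¹ by group, hg]))
        (by
          rintro (e' | e')
          · rw [mul_inv_eq_one, mul_eq_left] at e'
            exact h.t1 e'
          · exact hz1.2 (hconj t e').symm)
        (by
          rintro (e' | e')
          · rw [mul_inv_eq_one, mul_eq_left] at e'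
            exact hx3.1 e'
          · exact hx3.2.2 (hconj x e')) with e' | e'
    · exact hx3.2.1 (mul_left_cancel (mul_right_cancel e'))
    · have h6 : g * (t * (x * x)) * g⁻¹ = g * t * g⁻¹ * (g * (x * x) * g⁻¹) := by group
      rw [hg] at h6
      rw [← h6] at e'
      have e'' : x = t * (x * x) := mul_left_cancel (mul_right_cancel e')
      have e3 : x * x = x * t := by
        calc x * x = t * (t * (x * x)) * 1 := by rw [mul_one, ← mul_assoc, h.tt, one_mul]
          _ = x * t := by rw [← e'', mul_one, hxt]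
      exact hx3.2.1 (mul_left_cancel e3)
  have hall : ∀ x ∈ T₀, x = 1 ∨ x = t ∨ x = s ∨ x = s * t := by
    intro x hx
    obtain ⟨k, hk⟩ := hT₀p ⟨x, hx⟩
    have hk' : x ^ 2 ^ k = 1 := congrArg Subtype.val hk
    clear hk
    induction k generalizing x with
    | zero => exact Or.inl (by simpa using hk')
    | succ k ih =>
      refine hstep x hx ?_
      exact ih (x * x) (T₀.mul_mem hx hx) (by rw [← pow_two, ← pow_mul, ← pow_succ']; exact hk')
  have hcard : Nat.card ↥T₀ = 4 := by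
    have hset : (T₀ : Set X) = {1, t, s, s * t} := Set.ext fun x => ⟨fun hx => by
      rcases hall x hx with e | e | e | e <;> simp [e], fun hx => by
      rcases hx with e | e | e | e <;> rw [e]
      exacts [one_mem _, htT, hsT, T₀.mul_mem hsT htT]⟩
    have hst1 : (1 : X) ≠ s * t := fun e => hsn (Or.inr (by
      calc s = s * t * t := by rw [mul_assoc, h.tt, mul_one]
        _ = t := by rw [← e, one_mul]))
    rw [← SetLike.coe_sort_coe, Nat.card_coe_set_eq, hset, Set.ncard_insert_of_notMem, Set.ncard_insert_of_notMem,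
      Set.ncard_pair]
    · exact fun e => h.t1 (mul_eq_left.1 e.symm)
    · rintro (e | e)
      · exact hsn (Or.inr e.symm)
      · exact hsn (Or.inl (by
          calc s = s * t * t := by rw [mul_assoc, h.tt, mul_one]
            _ = 1 := by rw [← (show t = s * t from e), h.tt]))
    · rintro (e | e | e)
      · exact h.t1 e.symm
      · exact hsn (Or.inl e.symm)
      · exact hst1 e
  have hfac : Nat.card ↥T₀ = 2 ^ (Nat.card X).factorization 2 := by
    have h1 := P.card_eq_multiplicity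
    rw [hT₀, Nat.card_congr ((P : Subgroup ↥C).equivMapOfInjective C.subtype C.subtype_injective).toEquiv.symm, h1]
    congr 1
    have hg := h.g_ge
    rw [h.index_eq, Nat.factorization_mul Nat.card_pos.ne' (Nat.mul_ne_zero (by omega) (by omega)),
      Finsupp.add_apply, Nat.factorization_eq_zero_of_not_dvd (n := (2 * Nat.card ↥(Fx Φ t) - 1) * _) (p := 2),
      add_zero]
    intro h2
    rcases (Nat.Prime.dvd_mul Nat.prime_two).1 h2 with h2 | h2 <;> omega
  haveI : IsKleinFour ↥T₀ :=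
    { card_four := hcard
      exponent_two := by
        haveI : Nontrivial ↥T₀ := ⟨⟨⟨t, htT⟩, 1, fun e => h.t1 (congrArg Subtype.val e)⟩⟩
        refine (Monoid.exponent_eq_prime_iff Nat.prime_two).2 fun x hx1 => orderOf_two_iff.2 ⟨Subtype.ext ?_, hx1⟩
        show (x : X) * x = 1
        rcases hall x x.2 with e | e | e | e <;> rw [e]
        · exact one_mul 1
        · exact h.tt
        · exact h.ss
        · rw [mul_assoc, ← mul_assoc t, ← h.st, mul_assoc s t t, h.tt, mul_one, h.ss] }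
  exact ⟨Sylow.ofCard T₀ hfac, htT, hsT, inferInstanceAs (IsKleinFour ↥T₀)⟩

theorem mem_of_normal [Finite X] [Finite Φ] {N : Subgroup X} (hN : N.Normal) (hN1 : N ≠ ⊥) : t ∈ N := by
  classical
  haveI := hN
  by_contra htN
  have hfrob : ∀ n ∈ N, n ≠ 1 → ∀ c d : Φ, n • c = c → n • d = d → c = d := by
    intro n hn hn1 c d hnc hnd
    by_contra hcd
    obtain ⟨g, h1, h2⟩ := h.move c d A B hcd h.ne
    have e : g * n * g⁻¹ = t := (h.stab _ (by rw [← h1, mul_smul, mul_smul, inv_smul_smul, hnc])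
      (by rw [← h2, mul_smul, mul_smul, inv_smul_smul, hnd])).resolve_left fun e' => hn1 (by
        rwa [mul_inv_eq_one, mul_eq_left] at e')
    exact htN (e ▸ hN.conj_mem n hn g)
  obtain ⟨R, hR, -, htr, hreg⟩ := exists_regular_normal (a := A) N (normal_transitive h.move h.faith hN hN1) hfrob
  obtain ⟨p, k, hp, -, hpk, -, -, -⟩ := regular_elem h.move h.ne R hR htr hreg
  have hg := h.g_ge
  have hd := h.deg
  have hf : Nat.card Φ = Nat.card ↥(Fx Φ t) * (2 * Nat.card ↥(Fx Φ t) - 1) := by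
    have e : Nat.card ↥(Fx Φ t) * (2 * Nat.card ↥(Fx Φ t) - 1) + Nat.card ↥(Fx Φ t) =
        2 * (Nat.card ↥(Fx Φ t) * Nat.card ↥(Fx Φ t)) := by
      rw [Nat.mul_sub, mul_one, Nat.sub_add_cancel (Nat.le_mul_of_pos_right _ (by omega))]; ring
    omega
  have hcop : Nat.Coprime (Nat.card ↥(Fx Φ t)) (2 * Nat.card ↥(Fx Φ t) - 1) := by
    refine Nat.coprime_of_dvd' fun d _ h1 h2 => ?_
    have h3 := Nat.dvd_sub (h1.mul_left 2) h2
    rwa [show 2 * Nat.card ↥(Fx Φ t) - (2 * Nat.card ↥(Fx Φ t) - 1) = 1 by omega] at h3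
  have key : ∀ m, 1 < m → m ∣ p ^ k → p ∣ m := fun m hm hmk => by
    obtain ⟨i, -, rfl⟩ := (Nat.dvd_prime_pow hp).1 hmk
    cases i with
    | zero => simp at hm
    | succ i => exact dvd_pow_self p (Nat.succ_ne_zero i)
  rw [hf] at hpk
  exact hp.not_dvd_one (hcop ▸ Nat.dvd_gcd (key _ (by omega) ⟨_, hpk.symm⟩)
    (key _ (by omega) ⟨_, hpk.symm.trans (mul_comm _ _)⟩))

theorem oddCore_eq_bot [Finite X] [Finite Φ] : Cfsg.oddCore X = ⊥ := by
  by_contra hO
  have h1 := Subgroup.orderOf_dvd_natCard _ (h.mem_of_normal Grp.pPrimeCore_isNormal hO)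
  rw [h.tord] at h1
  haveI : Fact (Nat.Prime 2) := ⟨Nat.prime_two⟩
  exact Grp.pPrimeCore_not_dvd h1

theorem not_solvable [Finite X] [Finite Φ] : ¬ Group.IsSolvable X := by
  intro hs
  obtain ⟨n, hn⟩ := hs.solvable
  have hP : ∃ m, derivedSeries X m = ⊥ := ⟨n, hn⟩
  classical
  obtain ⟨m, hm⟩ : ∃ m, Nat.find hP = m + 1 := by
    refine ⟨Nat.find hP - 1, (Nat.succ_pred_eq_of_pos ((Nat.find_pos hP).2 ?_)).symm⟩
    intro e
    rw [derivedSeries_zero] at e
    exact h.t1 ((Subgroup.mem_bot).1 (e ▸ mem_top t))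
  have hA : derivedSeries X m ≠ ⊥ := Nat.find_min hP (hm ▸ Nat.lt_succ_self m)
  have hcomm : ⁅derivedSeries X m, derivedSeries X m⁆ = ⊥ := by
    have h2 := Nat.find_spec hP
    rwa [hm, derivedSeries_succ] at h2
  have hnorm := derivedSeries_normal X m
  have htA := h.mem_of_normal hnorm hA
  refine h.t1 (h.faith t fun c => ?_)
  obtain ⟨r, hr, rfl⟩ := normal_transitive h.move h.faith hnorm hA A c
  have h2 : r * t = t * r :=
    mem_centralizer_iff.1 (Subgroup.commutator_eq_bot_iff_le_centralizer.1 hcomm htA) r hr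
  rw [smul_smul, ← h2, mul_smul, h.tA]

theorem false [Finite X] [Finite Φ] : False := by
  classical
  obtain ⟨T, htT, hsT, hK⟩ := h.exists_sylow_klein
  haveI := hK
  obtain ⟨e⟩ := IsKleinFour.nonempty_mulEquiv (G₁ := ↥(T : Subgroup X)) (G₂ := DihedralGroup 2)
  obtain ⟨L, hLn, hmodel, -⟩ := Invol.GW.exists_socle Invol.GW.Dihedral.gwStatement_holds h.oddCore_eq_bot
    h.not_solvable T e
  haveI := hLn
  rcases hmodel with ⟨F, hF, hFf, hodd, h3, ⟨φ⟩⟩ | ⟨⟨φ⟩⟩
  swap
  · have h8 : 8 ∣ Nat.card X := by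
      refine dvd_trans ?_ (Subgroup.card_subgroup_dvd_card L)
      rw [Nat.card_congr φ.toEquiv, nat_card_alternatingGroup, Nat.card_eq_fintype_card, Fintype.card_fin]
      decide
    haveI : Fact (Nat.Prime 2) := ⟨Nat.prime_two⟩
    have h2 := T.pow_dvd_card_of_pow_dvd_card (n := 3) h8
    rw [IsKleinFour.card_four] at h2
    norm_num at h2
  obtain ⟨k, hk⟩ := hodd
  have h5 : 5 ≤ Fintype.card F := by omega
  have hL1 : L ≠ ⊥ := by
    intro e'
    haveI := Invol.GW.isSimple_of_model (Y := ↥L) (Or.inl ⟨F, hF, hFf, ⟨k, hk⟩, h3, ⟨φ⟩⟩)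
    exact not_subsingleton ↥L (by rw [e']; infer_instance)
  have htL : t ∈ L := h.mem_of_normal hLn hL1
  have hinvL : ∀ q : X, q * q = 1 → q ≠ 1 → q ∈ L := fun q hq hq1 => by
    obtain ⟨g, hg⟩ := h.conj q hq hq1
    have := hLn.conj_mem t htL g⁻¹
    rwa [← hg, show g⁻¹ * (g * q * g⁻¹) * g⁻¹⁻¹ = q by group] at this
  have hsn : s ≠ 1 ∧ t ≠ s := ⟨fun e' => h.ne (by rw [← h.sA, e', one_smul]), fun e' => h.ne (by
    rw [← h.sA, ← e', h.tA])⟩
  obtain ⟨x, hxL, hxt, htx, hinv, hsx, hcover, hCL, hq1, hq3⟩ :=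
    psl_centralizer L ⟨k, hk⟩ h5 φ htL (hinvL s h.ss hsn.1) h.tord (orderOf_two_iff.2 ⟨h.ss, hsn.1⟩) h.st.symm hsn.2
  set C := centralizer ({t} : Set X) with hC
  have h2F : (2 : F) ≠ 0 := by
    intro e'
    haveI : CharP F 2 := CharTwo.of_one_ne_zero_of_two_eq_zero one_ne_zero e'
    have := FiniteField.even_card_of_char_two (F := F) (ringChar.eq F 2)
    omega
  have hsup : L ⊔ C = ⊤ := by
    refine eq_top_iff.2 fun g _ => ?_
    obtain ⟨l, hl⟩ := PSLBin.invol_conj h2F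
      (x := φ ⟨g * t * g⁻¹, hLn.conj_mem t htL g⟩) (y := φ ⟨t, htL⟩)
      (by rw [← map_mul]; exact (congrArg φ (Subtype.ext (show g * t * g⁻¹ * (g * t * g⁻¹) = 1 by
        rw [show g * t * g⁻¹ * (g * t * g⁻¹) = g * (t * t) * g⁻¹ by group, h.tt]; group))).trans φ.map_one)
      (fun e' => h.t1 (by
        have := congrArg Subtype.val (φ.injective (e'.trans φ.map_one.symm))
        simpa using this))
      (by rw [← map_mul]; exact (congrArg φ (Subtype.ext h.tt)).trans φ.map_one)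
      (fun e' => h.t1 (congrArg Subtype.val (φ.injective (e'.trans φ.map_one.symm))))
    have h1 : ((φ.symm l : ↥L) : X) * (g * t * g⁻¹) * ((φ.symm l : ↥L) : X)⁻¹ = t := by
      have := congrArg (fun z => ((φ.symm z : ↥L) : X)) hl
      simpa using this
    have h2 : ((φ.symm l : ↥L) : X) * g ∈ C := mem_centralizer_singleton_iff.2 (mul_inv_eq_iff_eq_mul.1 (by
      rw [show ((φ.symm l : ↥L) : X) * g * t * (((φ.symm l : ↥L) : X) * g)⁻¹ =
        ((φ.symm l : ↥L) : X) * (g * t * g⁻¹) * ((φ.symm l : ↥L) : X)⁻¹ by group, h1]))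
    rw [show g = ((φ.symm l : ↥L) : X)⁻¹ * (((φ.symm l : ↥L) : X) * g) by rw [inv_mul_cancel_left]]
    exact Subgroup.mul_mem_sup (L.inv_mem (φ.symm l).2) h2
  have hidx : L.index = L.relIndex C := by
    rw [← relIndex_top_right, ← hsup, relIndex_sup_left]
  have hLX := L.card_mul_index
  have hLC : Nat.card ↥(L ⊓ C : Subgroup X) * L.relIndex C = Nat.card ↥C := by
    have h1 := (L.subgroupOf C).card_mul_index
    rwa [← inf_subgroupOf_right, Nat.card_congr (subgroupOfEquivOfLe inf_le_right).toEquiv, inf_subgroupOf_right] at h1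
  set g := Nat.card ↥(Fx Φ t) with hgdef
  have hg := h.g_ge
  have hL2 : Nat.card ↥L = 2 * orderOf x * ((2 * g - 1) * (2 * g + 1)) := by
    have hr : 0 < L.relIndex C := Nat.pos_of_ne_zero fun e' => by
      rw [e', mul_zero] at hLC; exact Nat.card_pos.ne' hLC.symm
    refine Nat.eq_of_mul_eq_mul_right hr ?_
    rw [← hidx, hLX, hidx, h.index_eq, ← hC, ← hgdef, ← hLC, hCL]; ring
  have hPSL := Invol.GW.card_PSLTwo (F := F) ⟨k, hk⟩
  rw [← Nat.card_congr φ.toEquiv, hL2] at hPSL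
  have hxo2 : 2 ≤ orderOf x := by
    obtain ⟨i, hi⟩ := Subgroup.mem_zpowers_iff.1 htx
    by_contra hlt
    have h0 := orderOf_pos x
    rw [orderOf_eq_one_iff.1 (show orderOf x = 1 by omega), one_zpow] at hi
    exact h.t1 hi.symm
  obtain ⟨gk, hgk⟩ := h.godd
  by_cases hord : orderOf x = 2
  · have hq5 : Fintype.card F = 5 := by
      rcases (show Fintype.card F % 4 = 1 ∨ Fintype.card F % 4 = 3 by omega) with h4 | h4
      · have := hq1 h4; omega
      · have := hq3 h4; omega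
    rw [hord, hq5] at hPSL
    norm_num at hPSL
    have h15 : (2 * g - 1) * (2 * g + 1) = 15 := by omega
    have : g ≤ 3 := by
      by_contra hlt
      have : 7 * 9 ≤ (2 * g - 1) * (2 * g + 1) := Nat.mul_le_mul (by omega) (by omega)
      omega
    rw [show g = 3 by omega] at h15
    norm_num at h15
  -- the cyclic group is normal and regular up to `t`
  have hxnorm : ∀ c ∈ C, c * x * c⁻¹ ∈ zpowers x := by
    intro c hc
    have hcc : Commute c t := mem_centralizer_singleton_iff.1 hc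
    refine (hcover _ (hLn.conj_mem x hxL c) ((hcc.mul_left hxt).mul_left hcc.inv_left).eq).resolve_right fun hm => hord ?_
    obtain ⟨i, hi⟩ := Subgroup.mem_zpowers_iff.1 hm
    set y := c * x * c⁻¹ with hy
    have hss' : s⁻¹ = s := inv_eq_of_mul_eq_one_right h.ss
    have hy2 : y * y = 1 := by
      rw [show y = x ^ i * s by rw [hi, mul_assoc, h.ss, mul_one]]
      have : s * x ^ i * s = (x ^ i)⁻¹ := by
        have h1 : s * x ^ i * s⁻¹ = (x ^ i)⁻¹ := by
          rw [← conj_zpow, hinv, inv_zpow]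
        rwa [hss'] at h1
      rw [mul_assoc, ← mul_assoc s, this, mul_inv_cancel]
    have : x * x = 1 := by
      rw [hy, show c * x * c⁻¹ * (c * x * c⁻¹) = c * (x * x) * c⁻¹ by group, mul_inv_eq_one, mul_eq_left] at hy2
      exact hy2
    exact le_antisymm (Nat.le_of_dvd two_pos (orderOf_dvd_of_pow_eq_one (by rw [pow_two, this]))) hxo2
  obtain ⟨c₁, hc₁, hxc₁⟩ : ∃ c₁ ∈ Fx Φ t, x • c₁ ≠ c₁ := by
    by_contra hall
    push Not at hall
    rcases h.stab x (hall A h.tA) (hall B h.tB) with e' | e'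
    · rw [e', orderOf_one] at hxo2; omega
    · exact hord (e' ▸ h.tord)
  have htr : ∀ d : ↥(Fx Φ t), ∃ p ∈ zpowers x, p • A = (d : Φ) := by
    intro d
    by_cases hd : A = (d : Φ)
    · exact ⟨1, one_mem _, by rw [one_smul, hd]⟩
    obtain ⟨c, hc, h1, h2⟩ := h.cent_move (fun e' => hxc₁ e'.symm) hd hc₁ (h.pres hxt hc₁) h.tA d.2
    refine ⟨c * x * c⁻¹, hxnorm c (mem_centralizer_singleton_iff.2 hc), ?_⟩
    rw [← h1, mul_smul, mul_smul, inv_smul_smul, h2]
  choose p hp hpA using htr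
  have hstabA : ∀ q ∈ zpowers x, q • A = A → q = 1 ∨ q = t := by
    intro q hq hqA
    refine h.stab q hqA ?_
    have hB : p ⟨B, h.tB⟩ • A = B := hpA ⟨B, h.tB⟩
    rw [← hB, smul_smul]
    obtain ⟨i, hi⟩ := Subgroup.mem_zpowers_iff.1 hq
    obtain ⟨j, hj⟩ := Subgroup.mem_zpowers_iff.1 (hp ⟨B, h.tB⟩)
    rw [← hi, ← hj, zpow_mul_comm, hj, hi, mul_smul, hqA]
  have hxg : orderOf x = g * 2 := by
    rw [← Nat.card_zpowers, hgdef, ← Nat.card_eq_fintype_card (α := Bool) |>.trans Fintype.card_bool, ← Nat.card_prod]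
    refine (Nat.card_congr (Equiv.ofBijective (fun q : ↥(Fx Φ t) × Bool =>
      (⟨p q.1 * (if q.2 then t else 1), mul_mem (hp q.1) (by split <;> first | exact htx | exact one_mem _)⟩ :
        ↥(zpowers x))) ⟨?_, ?_⟩)).symm
    · rintro ⟨d, e₁⟩ ⟨d', e₂⟩ he
      have he' := congrArg Subtype.val he
      have hd : d = d' := Subtype.ext (by
        have h1 := congrArg (· • A) he'
        simp only [mul_smul] at h1
        have h2 : ∀ e : Bool, (if e then t else 1) • A = A := by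
          intro e; cases e
          · simp
          · simp [h.tA]
        rwa [h2, h2, hpA, hpA] at h1)
      subst hd
      have h1 := mul_left_cancel he'
      cases e₁ <;> cases e₂ <;> simp only [Bool.false_eq_true, if_false, if_true] at h1
      · rfl
      · exact absurd h1.symm h.t1
      · exact absurd h1 h.t1
      · rfl
    · rintro ⟨q, hq⟩
      have hqF : q • A ∈ Fx Φ t := by
        obtain ⟨i, hi⟩ := Subgroup.mem_zpowers_iff.1 hq
        exact h.pres (by rw [← hi]; exact ((show Commute x t from hxt).zpow_left i).eq) h.tA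
      set d : ↥(Fx Φ t) := ⟨q • A, hqF⟩
      have hdq : ((p d)⁻¹ * q) • A = A := by rw [mul_smul, ← show p d • A = q • A from hpA d, inv_smul_smul]
      rcases hstabA _ (mul_mem (inv_mem (hp d)) hq) hdq with e' | e'
      · exact ⟨(d, Bool.false), Subtype.ext (by simpa using inv_mul_eq_one.1 e')⟩
      · exact ⟨(d, Bool.true), Subtype.ext (by simp [← e'])⟩
  have hq : Fintype.card F = 4 * g + 1 ∨ Fintype.card F + 1 = 4 * g := by
    rcases (show Fintype.card F % 4 = 1 ∨ Fintype.card F % 4 = 3 by omega) with h4 | h4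
    · have := hq1 h4; omega
    · have := hq3 h4; omega
  rw [hxg] at hPSL
  obtain ⟨g', hg'⟩ : ∃ g', g = g' + 3 := ⟨g - 3, by omega⟩
  rw [hg', show 2 * (g' + 3) - 1 = 2 * g' + 5 by omega] at hPSL
  rcases hq with e' | e'
  · rw [e', hg', show 4 * (g' + 3) + 1 - 1 = 4 * g' + 12 by omega] at hPSL
    nlinarith [Nat.zero_le (g' * g' * g'), Nat.zero_le (g' * g')]
  · rw [show Fintype.card F = 4 * g' + 11 by omega, show 4 * g' + 11 - 1 = 4 * g' + 10 by omega] at hPSL
    nlinarith [Nat.zero_le (g' * g' * g'), Nat.zero_le (g' * g')]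

end Thin

namespace Swap

variable {G : Type u₁} [Group G] {Ω : Type u₂} [MulAction G Ω] {a b : Ω} {u v w : G} (hw : Swap a b w)
include hw

theorem odd_four_false [Finite G] [Finite Ω] (h : Cfg G a b u v) (hn : Odd (Nat.card Ω))
    (hmv : ∃ c ∈ Fx Ω u, v • c ≠ c) (h4 : Nat.card {x : ↥(Cfg.cls₂ u v) // (x : G) • a = b} = 4) : False := by
  classical
  have hc := h
  obtain ⟨-, hgodd, hgf⟩ := hw.odd_numbers h hn hmv
  have hloc := hc.local_eq (Ω := Ω)
  rw [h4] at hloc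
  have hall : w ∈ Cfg.cls₂ u v ∧ w * v ∈ Cfg.cls₂ u v := by
    have hcard : Set.ncard {x : G | x ∈ Cfg.cls₂ u v ∧ x • a = b} = 4 := by
      rw [← Nat.card_coe_set_eq, ← h4]
      exact Nat.card_congr
        { toFun := fun x => ⟨⟨x, x.2.1⟩, x.2.2⟩
          invFun := fun x => ⟨x.1, x.1.2, x.2⟩
          left_inv := fun x => rfl
          right_inv := fun x => rfl }
    by_contra hnot
    rw [not_and_or] at hnot
    have hle : Set.ncard {x : G | x ∈ Cfg.cls₂ u v ∧ x • a = b} ≤ 3 := by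
      rcases hnot with hn' | hn'
      · refine (Set.ncard_le_ncard (t := {w * u, w * v, w * (u * v)}) (fun x hx => ?_) (Set.toFinite _)).trans ?_
        · rcases hw.swap_cls_subset hc hx.1 hx.2 with e | e | e | e
          · exact absurd (e ▸ hx.1) hn'
          all_goals simp [e]
        · exact (Set.ncard_insert_le _ _).trans (Nat.succ_le_succ ((Set.ncard_insert_le _ _).trans (by simp)))
      · refine (Set.ncard_le_ncard (t := {w, w * u, w * (u * v)}) (fun x hx => ?_) (Set.toFinite _)).trans ?_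
        · rcases hw.swap_cls_subset hc hx.1 hx.2 with e | e | e | e
          · simp [e]
          · simp [e]
          · exact absurd (e ▸ hx.1) hn'
          · simp [e]
        · exact (Set.ncard_insert_le _ _).trans (Nat.succ_le_succ ((Set.ncard_insert_le _ _).trans (by simp)))
    omega
  have hwmem := hw.mem_centralizer hc
  have hcard : Nat.card ↥(Fx ↥(fixSub Ω u) ((fixRep Ω u).rangeRestrict ⟨v, hc.v_mem_centralizer⟩)) =
      Nat.card ↥(Fx Ω u ∩ Fx Ω v) :=
    Nat.card_congr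
      { toFun := fun c => ⟨c.1.1, c.1.2, congrArg Subtype.val c.2⟩
        invFun := fun c => ⟨⟨c.1, c.2.1⟩, Subtype.ext c.2.2⟩
        left_inv := fun c => rfl
        right_inv := fun c => rfl }
  refine Thin.false (X := ↥(fixRep Ω u).range) (Φ := ↥(fixSub Ω u)) (A := ⟨a, hc.u_a⟩) (B := ⟨b, hc.u_b⟩)
    (t := (fixRep Ω u).rangeRestrict ⟨v, hc.v_mem_centralizer⟩) (s := (fixRep Ω u).rangeRestrict ⟨w, hwmem⟩)
    ⟨hc.fix_move, Cfg.fix_faithful, fun e => h.ne (congrArg Subtype.val e), fun q => hc.fix_stab, Subtype.ext hc.v_a,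
      Subtype.ext hc.v_b, hc.fix_v_sq, hc.fix_v_ne hmv, Subtype.ext hw.mapA, ?_, ?_, ?_, hcard ▸ hgodd, ?_⟩
  · rw [← map_mul, show (⟨w, hwmem⟩ : ↥(centralizer ({u} : Set G))) * ⟨w, hwmem⟩ = 1 from Subtype.ext hw.sq, map_one]
  · rw [← map_mul, ← map_mul]
    exact congrArg _ (Subtype.ext (hw.comm v hc.v_mem))
  · intro q hq hq1
    obtain ⟨x, rfl⟩ := (fixRep Ω u).rangeRestrict_surjective q
    have hxu := mem_centralizer_singleton_iff.1 x.2
    obtain ⟨c, hcF, hne⟩ : ∃ c ∈ Fx Ω u, (x : G) • c ≠ c := by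
      by_contra hall'
      push Not at hall'
      exact hq1 (Cfg.fix_faithful _ fun c => Subtype.ext (hall' c c.2))
    have hxx : (x : G) • (x : G) • c = c := by
      have h1 : (fixRep Ω u).rangeRestrict x • (fixRep Ω u).rangeRestrict x • (⟨c, hcF⟩ : ↥(fixSub Ω u)) = ⟨c, hcF⟩ := by
        rw [smul_smul, hq, one_smul]
      exact congrArg Subtype.val h1
    obtain ⟨g, hg, -, hg'⟩ := hw.lift_cases hc hxu hcF hne hxx
    have hm : g * (x : G) * g⁻¹ ∈ Cfg.cls₂ u v := by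
      rcases hg' with e | e | e | e <;> rw [e]
      · exact hall.1
      · exact hw.mul_u_mem hc hall.1
      · exact hall.2
      · have h1 := hw.mul_u_mem hc hall.2
        rwa [mul_assoc, ← hc.comm] at h1
    have hxm : (x : G) ∈ Cfg.cls₂ u v := by
      have h1 := Cfg.cls₂_conj (g := g⁻¹) ((show Commute g u from hg).inv_left).eq hm
      rwa [show g⁻¹ * (g * (x : G) * g⁻¹) * g⁻¹⁻¹ = x by group] at h1
    exact hc.fix_cls₂ hxm
  · rw [hcard, show Nat.card ↥(fixSub Ω u) = Nat.card ↥(Fx Ω u) from rfl]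
    have hg1 : 1 ≤ Nat.card ↥(Fx Ω u ∩ Fx Ω v) := le_trans one_le_two hc.fx_v_ge
    obtain ⟨g', hg'⟩ : ∃ g', Nat.card ↥(Fx Ω u ∩ Fx Ω v) = g' + 1 := ⟨_, (Nat.succ_pred_eq_of_pos hg1).symm⟩
    rw [hg'] at hloc hgf ⊢
    rw [show g' + 1 - 1 = g' by omega] at hloc
    have : 2 * (g' + 1) * (g' + 1) = 2 * ((g' + 1) * (g' + 1)) := by ring
    have h2 : (g' + 1) * g' = (g' + 1) * (g' + 1) - (g' + 1) := by
      rw [show (g' + 1) * (g' + 1) = (g' + 1) * g' + (g' + 1) by ring, Nat.add_sub_cancel]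
    have h3 : g' + 1 ≤ (g' + 1) * (g' + 1) := Nat.le_mul_of_pos_left _ (Nat.succ_pos _)
    omega

end Swap

end Cfsg.Agent.Perm.TwoStab
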