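import Cfsg.Agent.Lib.Perm.TwoStab.FixW

/-!
# Odd degree, two interchanging elements in the class of `v`: impossible

The other class of involutions on the fixed points of `u` fixes one point each, so it is isolated and yields a regular
normal subgroup; the stabiliser of a point then contains a four group avoiding the inverting involution, which is
impossible.
-/

set_option autoImplicit false
set_option linter.unusedSectionVars false
set_option linter.style.haveILetI false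

namespace Cfsg.Agent.Perm.TwoStab

open MulAction Subgroup
open Cfg (cls₂ cls₂_conj)

universe u₁ u₂

variable {G : Type u₁} [Group G] {Ω : Type u₂} [MulAction G Ω] {a b : Ω} {u v w : G}

/-- Elements of `C(u)` of square one outside the class of `v` moving a fixed point of `u`. -/
def otherCls (Ω : Type u₂) [MulAction G Ω] (u v : G) : Set G :=
  {x | x * u = u * x ∧ x * x = 1 ∧ x ∉ cls₂ u v ∧ ∃ c ∈ Fx Ω u, x • c ≠ c}

namespace Swap

variable (hw : Swap a b w)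
include hw

theorem odd_two_false [Finite G] [Finite Ω] (h : Stab G a b u v) (hn : Odd (Nat.card Ω)) (hwc : w ∈ cls u)
    (hmv : ∃ c ∈ Fx Ω u, v • c ≠ c) (h2 : Nat.card {x : ↥(cls₂ u v) // (x : G) • a = b} = 2) : False := by
  classical
  have hc := h.toCfg
  obtain ⟨hfodd, hgodd, hgf⟩ := hw.odd_numbers hc hn hmv
  obtain ⟨k, hk⟩ := hwc
  have hpair : (w ∈ cls₂ u v ∧ w * v ∉ cls₂ u v) ∨ (w ∉ cls₂ u v ∧ w * v ∈ cls₂ u v) := by
    rcases hw.j_cases hc hmv with e | ⟨-, e⟩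
    · omega
    · exact e
  have huV : u ∈ four u v := hc.mem_four.2 (by simp)
  have hvV : v ∈ four u v := hc.mem_four.2 (by simp)
  -- the interchanging element outside the class of `v`
  obtain ⟨o, ho2, hoa, houc, hout, hswap⟩ : ∃ o : G, o * o = 1 ∧ o • a = b ∧ o * u = u * o ∧ o ∉ cls₂ u v ∧
      ∀ y : G, y * y = 1 → y * u = u * y → y • a = b → y ∉ cls₂ u v → y = o ∨ y = o * u := by
    have hmu : ∀ y : G, y ∈ cls₂ u v → y * u ∈ cls₂ u v := fun y hy => (hc.cls₂_props hy).2.2.2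
    have hwuu : w * u * u = w := by rw [mul_assoc, hc.uu, mul_one]
    have hwvu : w * (u * v) * u = w * v := by
      rw [mul_assoc w, mul_assoc u, ← hc.comm, ← mul_assoc u u, hc.uu, one_mul]
    have hcases : ∀ y : G, y * y = 1 → y * u = u * y → y • a = b →
        y = w ∨ y = w * u ∨ y = w * v ∨ y = w * (u * v) := fun y hy hyu hya => by
      obtain ⟨hm, -⟩ := hw.mem_of_swap hy hya
      have hmu' : w * y * u = u * (w * y) := by rw [mul_assoc, hyu, ← mul_assoc, hw.comm u hc.u_mem, mul_assoc]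
      have hy' : y = w * (w * y) := by rw [← mul_assoc, hw.sq, one_mul]
      rcases hc.cent _ hm hmu' with e | e | e | e <;> rw [e] at hy'
      · exact Or.inl (by rw [hy', mul_one])
      · exact Or.inr (Or.inl hy')
      · exact Or.inr (Or.inr (Or.inl hy'))
      · exact Or.inr (Or.inr (Or.inr hy'))
    rcases hpair with ⟨h1, h3⟩ | ⟨h1, h3⟩
    · refine ⟨w * v, hw.wu_sq hc hvV, by rw [mul_smul, hc.v_a, hw.mapA], ?_, h3, fun y hy hyu hya hyn => ?_⟩
      · rw [mul_assoc, ← hc.comm, ← mul_assoc, hw.comm u hc.u_mem, mul_assoc]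
      rcases hcases y hy hyu hya with e | e | e | e
      · exact absurd (e ▸ h1) hyn
      · exact absurd (e ▸ hmu w h1) hyn
      · exact Or.inl e
      · exact Or.inr (by rw [e, hc.comm, mul_assoc])
    · refine ⟨w, hw.sq, hw.mapA, hw.comm u hc.u_mem, h1, fun y hy hyu hya hyn => ?_⟩
      rcases hcases y hy hyu hya with e | e | e | e
      · exact Or.inl e
      · exact Or.inr e
      · exact absurd (e ▸ h3) hyn
      · refine absurd (e ▸ ?_) hyn
        have h4 := hmu _ h3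
        rwa [mul_assoc, ← hc.comm] at h4
  have hob := smul_swap ho2 hoa
  set Z := otherCls Ω u v with hZ
  have hZconj : ∀ g : G, g * u = u * g → ∀ x ∈ Z, g * x * g⁻¹ ∈ Z := by
    intro g hg x hx
    obtain ⟨hxu, hxx, hxn, c, hc', hne⟩ := hx
    refine ⟨(((show Commute g u from hg).mul_left (show Commute x u from hxu)).mul_left
      (show Commute g u from hg).inv_left).eq, ?_, fun hm => hxn ?_, g • c, ?_, ?_⟩
    · rw [show g * x * g⁻¹ * (g * x * g⁻¹) = g * (x * x) * g⁻¹ by group, hxx]; group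
    · have := cls₂_conj (g := g⁻¹) ((show Commute g u from hg).inv_left).eq hm
      rwa [show g⁻¹ * (g * x * g⁻¹) * g⁻¹⁻¹ = x by group] at this
    · show u • g • c = g • c
      rw [← mul_smul, ← hg, mul_smul, hc']
    · rw [mul_smul, mul_smul, inv_smul_smul]
      exact fun e => hne (smul_left_cancel g e)
  have hZu : ∀ x ∈ Z, x * u ∈ Z := by
    rintro x ⟨hxu, hxx, hxn, c, hc', hne⟩
    refine ⟨by rw [mul_assoc, hc.uu, mul_one, ← mul_assoc, ← hxu, mul_assoc, hc.uu, mul_one], ?_, fun hm => hxn ?_,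
      c, hc', ?_⟩
    · rw [show x * u * (x * u) = x * (u * x) * u by group, ← hxu, show x * (x * u) * u = x * x * (u * u) by group, hxx,
        hc.uu, one_mul]
    · have := (hc.cls₂_props hm).2.2.2
      rwa [mul_assoc, hc.uu, mul_one] at this
    · rwa [mul_smul, hc']
  have huniq : ∀ x ∈ Z, ∀ c ∈ Fx Ω u, ∀ d ∈ Fx Ω u, x • c = c → x • d = d → c = d := by
    intro x hx c hcF d hdF h1 h3
    by_contra hcd
    obtain ⟨g, hg, g1, g2⟩ := hc.cent_u_pairs hcd hcF hdF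
    obtain ⟨hyu, hyy, hyn, e, he, hne⟩ := hZconj g (mem_centralizer_singleton_iff.1 hg) x hx
    have hm : g * x * g⁻¹ ∈ pairStab G a b := by
      refine ⟨?_, ?_⟩
      · show (g * x * g⁻¹) • a = a
        rw [← g1, mul_smul, mul_smul, inv_smul_smul, h1]
      · show (g * x * g⁻¹) • b = b
        rw [← g2, mul_smul, mul_smul, inv_smul_smul, h3]
    rcases hc.cent _ hm hyu with e' | e' | e' | e'
    · exact hne (by rw [e', one_smul])
    · exact hne (by rw [e']; exact he)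
    · exact hyn (e' ▸ hc.v_mem_cls₂)
    · exact hyn (e' ▸ ⟨1, by simp, Or.inr (by simp)⟩)
  have hpresF : ∀ x : G, x * u = u * x → ∀ c ∈ Fx Ω u, x • c ∈ Fx Ω u := fun x hx c hc' => by
    show u • x • c = x • c
    rw [← mul_smul, ← hx, mul_smul, mem_Fx.1 hc']
  have hex : ∀ x : ↥Z, ∃ c : ↥(Fx Ω u), (x : G) • (c : Ω) = c := fun x => by
    obtain ⟨c, hc', h1⟩ := exists_fix_of_odd x.2.2.1 (Fx Ω u) (hpresF _ x.2.1) hfodd
    exact ⟨⟨c, hc'⟩, h1⟩
  choose φ hφ using hex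
  have hswap2 : Nat.card {x : ↥Z // (x : G) • a = b} = 2 := by
    have hoZ : o ∈ Z := ⟨houc, ho2, hout, a, hc.u_a, by rw [hoa]; exact h.ne.symm⟩
    rw [Nat.card_eq_two_iff]
    refine ⟨⟨⟨o, hoZ⟩, hoa⟩, ⟨⟨o * u, hZu o hoZ⟩, by show (o * u) • a = b; rw [mul_smul, hc.u_a, hoa]⟩, fun e => ?_, ?_⟩
    · have e' : o = o * u := congrArg (fun z : {x : ↥Z // (x : G) • a = b} => (z.1 : G)) e
      exact hc.u_ne (mul_eq_left.1 e'.symm)
    · refine Set.eq_univ_of_forall fun z => ?_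
      rcases hswap (z.1 : G) z.1.2.2.1 z.1.2.1 z.2 z.1.2.2.2.1 with e | e
      · left; exact Subtype.ext (Subtype.ext e)
      · right; exact Subtype.ext (Subtype.ext e)
  have hcardZ := incidence (centralizer ({u} : Set G)) (a := a) (b := b) (offPairs (Fx Ω u))
    (fun g hg p hp => ⟨fun e => hp.1 (smul_left_cancel g e), hpresF g (mem_centralizer_singleton_iff.1 hg) _ hp.2.1,
      hpresF g (mem_centralizer_singleton_iff.1 hg) _ hp.2.2⟩)
    (fun p hp => by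
      obtain ⟨g, hg, g1, g2⟩ := hc.cent_u_pairs hp.1 hp.2.1 hp.2.2
      exact ⟨g⁻¹, inv_mem hg, Prod.ext (inv_smul_eq_iff.2 g1.symm) (inv_smul_eq_iff.2 g2.symm)⟩)
    Z (fun g hg x hx => hZconj g (mem_centralizer_singleton_iff.1 hg) x hx) (fun x c d => x • c = d)
    (fun g _ x c d hx => by rw [mul_smul, mul_smul, inv_smul_smul, hx])
    (Nat.card ↥(Fx Ω u) - 1) (fun x hx => by
      rw [card_swapped hx.2.1 (Fx Ω u) (hpresF x hx.1)]
      congr 1
      rw [Nat.card_eq_one_iff_unique]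
      exact ⟨⟨fun c d => Subtype.ext (huniq x hx c c.2.1 d d.2.1 c.2.2 d.2.2)⟩,
        ⟨⟨(φ ⟨x, hx⟩ : ↥(Fx Ω u)), (φ ⟨x, hx⟩).2, hφ ⟨x, hx⟩⟩⟩⟩)
  rw [card_offPairs, hswap2] at hcardZ
  have hf2 := hc.fx_u_ge (Ω := Ω)
  have hZ2 : Nat.card ↥Z = Nat.card ↥(Fx Ω u) * 2 := by
    refine Nat.eq_of_mul_eq_mul_right (show 0 < Nat.card ↥(Fx Ω u) - 1 by omega) ?_
    rw [hcardZ]; ring
  have hfib : ∀ c : ↥(Fx Ω u), Nat.card {x : ↥Z // φ x = c} = 2 := by
    intro c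
    have h1 := fiber_card (P := Fx Ω u) φ (fun c d => ?_) c
    · rw [hZ2] at h1
      exact Nat.eq_of_mul_eq_mul_left (by omega) h1
    obtain ⟨g, hg, hgc⟩ : ∃ g : G, g * u = u * g ∧ g • (c : Ω) = d := by
      by_cases hcd : c = d
      · exact ⟨1, by simp, by rw [one_smul, hcd]⟩
      obtain ⟨g1, m1, a1, b1⟩ := hc.cent_u_pairs (fun e => hcd (Subtype.ext e)) c.2 d.2
      obtain ⟨g2, m2, a2, b2⟩ := hc.cent_u_pairs (fun e => hcd (Subtype.ext e).symm) d.2 c.2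
      exact ⟨g2⁻¹ * g1, mem_centralizer_singleton_iff.1 (mul_mem (inv_mem m2) m1),
        by rw [mul_smul, a1, inv_smul_eq_iff, a2]⟩
    refine ⟨g, hgc, fun x hx => ⟨hZconj g hg x x.2, Subtype.ext ?_⟩⟩
    refine huniq _ (hZconj g hg x x.2) _ (φ _).2 _ d.2 (hφ ⟨_, hZconj g hg x x.2⟩) ?_
    rw [← hgc, mul_smul, mul_smul, inv_smul_smul, ← hx, hφ x]
  -- two elements with the same fixed point differ by `u`
  have hsame : ∀ x : ↥Z, ∀ y ∈ Z, y • ((φ x : ↥(Fx Ω u)) : Ω) = φ x → y = x ∨ y = (x : G) * u := by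
    intro x y hy hyx
    have hxu' : (⟨(x : G) * u, hZu x x.2⟩ : ↥Z) ≠ x := fun e => hc.u_ne (mul_eq_left.1 (congrArg Subtype.val e))
    have hφu : φ ⟨(x : G) * u, hZu x x.2⟩ = φ x := Subtype.ext (huniq _ (hZu x x.2) _ (φ _).2 _ (φ x).2
      (hφ ⟨(x : G) * u, hZu x x.2⟩) (by rw [mul_smul, (φ x).2]; exact hφ x))
    have hφy : φ ⟨y, hy⟩ = φ x := Subtype.ext (huniq y hy _ (φ _).2 _ (φ x).2 (hφ ⟨y, hy⟩) hyx)
    have h2' := hfib (φ x)
    rw [Nat.card_eq_two_iff' ⟨x, rfl⟩] at h2'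
    by_cases hyx' : (⟨y, hy⟩ : ↥Z) = x
    · exact Or.inl (congrArg Subtype.val hyx')
    obtain ⟨z, -, hz⟩ := h2'
    have e1 := hz ⟨_, hφy⟩ (fun e => hyx' (congrArg Subtype.val e))
    have e2 := hz ⟨_, hφu⟩ (fun e => hxu' (congrArg Subtype.val e))
    exact Or.inr (congrArg (fun q : {q : ↥Z // φ q = φ x} => (q.1 : G)) (e1.trans e2.symm))
  -- an isolated involution on the fixed points
  set ρ := (fixRep Ω u).rangeRestrict with hρ
  have hoZ : o ∈ Z := ⟨houc, ho2, hout, a, hc.u_a, by rw [hoa]; exact h.ne.symm⟩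
  set x₀ : ↥Z := ⟨o, hoZ⟩ with hx₀
  set z₀ : ↥(centralizer ({u} : Set G)) := ⟨o, mem_centralizer_singleton_iff.2 houc⟩ with hz₀
  set z := ρ z₀ with hz
  set c₀ : ↥(fixSub Ω u) := ⟨((φ x₀ : ↥(Fx Ω u)) : Ω), (φ x₀).2⟩ with hc₀
  have hzc : z • c₀ = c₀ := Subtype.ext (hφ x₀)
  have hz1 : z ≠ 1 := hc.fixRep_ne_one (c := a) hc.u_a (by rw [show ((z₀ : G)) = o from rfl, hoa]; exact h.ne.symm)
  have hzz : z * z = 1 := by rw [hz, ← map_mul, show z₀ * z₀ = 1 from Subtype.ext ho2, map_one]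
  have hzuniq : ∀ d : ↥(fixSub Ω u), z • d = d → d = c₀ := fun d hd =>
    Subtype.ext (huniq o hoZ _ d.2 _ (φ x₀).2 (congrArg Subtype.val hd) (hφ x₀))
  have hρu : ∀ g : ↥(centralizer ({u} : Set G)), (g : G) = o ∨ (g : G) = o * u → ρ g = z := by
    rintro g (e | e)
    · exact congrArg ρ (Subtype.ext e)
    · rw [show g = z₀ * ⟨u, mem_centralizer_singleton_iff.2 rfl⟩ from Subtype.ext e, map_mul, hρ, hc.fix_u, mul_one]
  have hconjz : ∀ q : ↥(fixRep Ω u).range, (q * z * q⁻¹) • c₀ = c₀ → q * z * q⁻¹ = z := by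
    intro q hq
    obtain ⟨g, rfl⟩ := (fixRep Ω u).rangeRestrict_surjective q
    rw [hz, ← hρ, ← map_inv, ← map_mul, ← map_mul] at hq ⊢
    exact hρu _ (hsame x₀ _ (hZconj g (mem_centralizer_singleton_iff.1 g.2) o hoZ) (congrArg Subtype.val hq))
  have hiso : Cfsg.IsIsolatedInvolution z := by
    refine ⟨orderOf_two_iff.2 ⟨hzz, hz1⟩, fun q hq => hconjz q ?_⟩
    have h1 : z • q • c₀ = q • c₀ := by
      have : (q * z * q⁻¹) • (z • q • c₀) = z • q • c₀ := by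
        have hq' : z * (q * z * q⁻¹) = q * z * q⁻¹ * z := hq
        calc (q * z * q⁻¹) • z • q • c₀ = (q * z * q⁻¹ * z) • q • c₀ := (mul_smul _ _ _).symm
          _ = (z * (q * z * q⁻¹)) • q • c₀ := by rw [hq']
          _ = z • q • z • c₀ := by rw [mul_smul, mul_smul, mul_smul, inv_smul_smul]
          _ = _ := by rw [hzc]
      obtain ⟨g, rfl⟩ := (fixRep Ω u).rangeRestrict_surjective q
      refine Subtype.ext (huniq _ (hZconj g (mem_centralizer_singleton_iff.1 g.2) o hoZ) _ (hpresF o houc _ ((fixRep Ω u).rangeRestrict g • c₀).2) _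
        ((fixRep Ω u).rangeRestrict g • c₀).2 ?_ ?_)
      · rw [show ((fixRep Ω u).rangeRestrict g * z * ((fixRep Ω u).rangeRestrict g)⁻¹) = ρ (g * z₀ * g⁻¹) by
          rw [map_mul, map_mul, map_inv]] at this
        exact congrArg Subtype.val this
      · show ((g : G) * o * (g : G)⁻¹) • ((g : G) • (c₀ : Ω)) = (g : G) • (c₀ : Ω)
        rw [mul_smul, mul_smul, inv_smul_smul]
        exact congrArg _ (hφ x₀)
    have h3 : q • c₀ = c₀ := hzuniq _ h1
    rw [mul_smul, mul_smul, show q⁻¹ • c₀ = c₀ from inv_smul_eq_iff.2 h3.symm, hzc, h3]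
  obtain ⟨N, hN, hNodd, hNz⟩ := ZStar.exists_odd_normal hiso
  haveI := hN
  have hN1 : N ≠ ⊥ := fun e => by
    have hcen : ∀ q, z * q = q * z := fun q => by
      have h1 := hNz q
      rw [e, mem_bot, mul_inv_eq_one, mul_inv_eq_iff_eq_mul] at h1
      exact h1
    have h1 : ∀ d : ↥(fixSub Ω u), z • d = d := fun d => by
      by_cases hd : d = c₀
      · rw [hd, hzc]
      obtain ⟨q, hq, -⟩ := hc.fix_move c₀ d d c₀ (fun e => hd e.symm) hd
      rw [← hq, smul_smul, hcen, mul_smul, hzc]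
    exact hz1 (Cfg.fix_faithful _ h1)
  have hvN : ρ ⟨v, hc.v_mem_centralizer⟩ ∉ N := fun hm => by
    have h1 := Subgroup.orderOf_dvd_natCard N hm
    rw [hρ, orderOf_two_iff.2 ⟨hc.fix_v_sq, hc.fix_v_ne hmv⟩] at h1
    exact (Nat.not_even_iff_odd.2 hNodd) (even_iff_two_dvd.2 h1)
  obtain ⟨R, hR, -, htr, hreg⟩ := exists_regular_normal (a := c₀) N
    (normal_transitive hc.fix_move Cfg.fix_faithful hN hN1) (hc.fix_frobenius hN hvN)
  haveI := hR
  obtain ⟨p, e, hp, -, hfp, hRp, hexp, hcomm⟩ := regular_elem hc.fix_move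
    (a := (⟨a, hc.u_a⟩ : ↥(fixSub Ω u))) (b := ⟨b, hc.u_b⟩) (fun e => h.ne (congrArg Subtype.val e)) R hR htr hreg
  -- the conjugate stabiliser in the stabiliser of `c₀`
  have hkc : ∀ d : ↥(pairStab G a b), k * (d : G) * k⁻¹ ∈ centralizer ({u} : Set G) := fun d =>
    mem_centralizer_singleton_iff.2 (by
      rw [← hk, show k * (d : G) * k⁻¹ * (k * w * k⁻¹) = k * ((d : G) * w) * k⁻¹ by group, ← hw.comm d d.2]; group)
  let τ : ↥(pairStab G a b) →* ↥(fixRep Ω u).range :=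
    ρ.comp (MonoidHom.mk' (fun d => (⟨k * (d : G) * k⁻¹, hkc d⟩ : ↥(centralizer ({u} : Set G)))) fun d d' =>
      Subtype.ext (show k * ((d : G) * d') * k⁻¹ = k * d * k⁻¹ * (k * d' * k⁻¹) by group))
  have hτinj : Function.Injective τ := by
    rw [← MonoidHom.ker_eq_bot_iff]
    by_contra e'
    have h1 : τ ⟨u, hc.u_mem⟩ = 1 := MonoidHom.mem_ker.1 (h.normal_mem τ.ker inferInstance e')
    rcases hc.fix_kernel hmv h1 with e1 | e1
    · have e1' : k * u * k⁻¹ = 1 := e1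
      exact hc.u_ne (by rwa [mul_inv_eq_one, mul_eq_left] at e1')
    · have e1' : k * u * k⁻¹ = k * w * k⁻¹ := e1.trans hk.symm
      have huw : u = w := mul_left_cancel (mul_right_cancel e1')
      exact h.ne (by rw [← hw.mapA, ← huw, hc.u_a])
  choose rr hrr hrrc using fun q : ↥(fixRep Ω u).range => htr c₀ (q • c₀)
  let π : ↥(fixRep Ω u).range → ↥(fixRep Ω u).range := fun q => (rr q)⁻¹ * q
  have hπc : ∀ q, π q • c₀ = c₀ := fun q => by rw [mul_smul, ← hrrc q, inv_smul_smul]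
  have hπmem : ∀ q, QuotientGroup.mk' R (π q) = QuotientGroup.mk' R q := fun q => by
    rw [map_mul, map_inv, show QuotientGroup.mk' R (rr q) = 1 from (QuotientGroup.eq_one_iff _).2 (hrr q), inv_one, one_mul]
  let ψ : ↥(pairStab G a b) →* ↥(fixRep Ω u).range := MonoidHom.mk' (fun d => π (τ d)) fun d d' => by
    have h1 : (π (τ d) * π (τ d'))⁻¹ * π (τ (d * d')) ∈ R := by
      rw [← QuotientGroup.eq_one_iff]
      show QuotientGroup.mk' R _ = 1
      rw [map_mul, map_inv, map_mul, hπmem, hπmem, hπmem, map_mul τ, map_mul, inv_mul_cancel]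
    have h3 := hreg _ h1 c₀ (by rw [mul_smul, hπc, inv_smul_eq_iff, mul_smul, hπc, hπc])
    exact (inv_mul_eq_one.1 h3).symm
  have hψinj : Function.Injective ψ := by
    rw [← MonoidHom.ker_eq_bot_iff]
    by_contra e'
    have h1 : π (τ ⟨u, hc.u_mem⟩) = 1 := MonoidHom.mem_ker.1 (h.normal_mem ψ.ker inferInstance e')
    have hτR : τ ⟨u, hc.u_mem⟩ ∈ R := by
      rw [← QuotientGroup.eq_one_iff]
      have h3 := hπmem (τ ⟨u, hc.u_mem⟩)
      rw [h1, map_one] at h3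
      exact h3.symm
    have h2 : τ ⟨u, hc.u_mem⟩ * τ ⟨u, hc.u_mem⟩ = 1 := by
      rw [← map_mul, show (⟨u, hc.u_mem⟩ : ↥(pairStab G a b)) * ⟨u, hc.u_mem⟩ = 1 from Subtype.ext hc.uu, map_one]
    have h3 : τ ⟨u, hc.u_mem⟩ ≠ 1 := fun e'' =>
      hc.u_ne (congrArg Subtype.val (hτinj (e''.trans τ.map_one.symm)))
    have h4 := Subgroup.orderOf_dvd_natCard R hτR
    rw [orderOf_two_iff.2 ⟨h2, h3⟩, hRp, ← hfp] at h4
    exact (Nat.not_even_iff_odd.2 hfodd) (even_iff_two_dvd.2 h4)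
  have hψc : ∀ d, ψ d • c₀ = c₀ := fun d => hπc _
  -- `z` is central in the stabiliser
  have hzcen : ∀ q : ↥(fixRep Ω u).range, q • c₀ = c₀ → q * z = z * q := fun q hq => by
    refine mul_inv_eq_iff_eq_mul.1 (hconjz q ?_)
    rw [mul_smul, mul_smul, show q⁻¹ • c₀ = c₀ from inv_smul_eq_iff.2 hq.symm, hzc, hq]
  have hne_z : ∀ d : ↥(pairStab G a b), ψ d ≠ z := fun d hd => by
    have hd1 : d = 1 := Subtype.ext (h.center_triv d d.2 fun d' hd' =>
      congrArg Subtype.val (hψinj (show ψ (⟨d', hd'⟩ * d) = ψ (d * ⟨d', hd'⟩) by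
        rw [map_mul, map_mul, hd]; exact hzcen _ (hψc _))))
    rw [hd1, map_one] at hd
    exact hz1 hd.symm
  set q₁ := ψ ⟨u, hc.u_mem⟩ with hq₁
  set q₂ := ψ ⟨v, hc.v_mem⟩ with hq₂
  have hq₁₁ : q₁ ≠ 1 := fun e' => hc.u_ne (congrArg Subtype.val (hψinj (e'.trans ψ.map_one.symm)))
  have hq₂₁ : q₂ ≠ 1 := fun e' => hc.v_ne (congrArg Subtype.val (hψinj (e'.trans ψ.map_one.symm)))
  have hq₁q₁ : q₁ * q₁ = 1 := by
    rw [hq₁, ← map_mul, show (⟨u, hc.u_mem⟩ : ↥(pairStab G a b)) * ⟨u, hc.u_mem⟩ = 1 from Subtype.ext hc.uu, map_one]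
  have hq₂q₂ : q₂ * q₂ = 1 := by
    rw [hq₂, ← map_mul, show (⟨v, hc.v_mem⟩ : ↥(pairStab G a b)) * ⟨v, hc.v_mem⟩ = 1 from Subtype.ext hc.vv, map_one]
  have hq₁₂ : q₁ * q₂ = q₂ * q₁ := by
    rw [hq₁, hq₂, ← map_mul, ← map_mul]; exact congrArg ψ (Subtype.ext hc.comm)
  have hq12ne : q₁ ≠ q₂ := fun e' => hc.ne_uv (congrArg Subtype.val (hψinj e'))
  -- `q₁` fixes a second point
  obtain ⟨c₁, hc₁, hq₁c₁⟩ : ∃ c₁ : ↥(fixSub Ω u), c₁ ≠ c₀ ∧ q₁ • c₁ = c₁ := by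
    obtain ⟨g, hg⟩ := (fixRep Ω u).rangeRestrict_surjective q₁
    obtain ⟨d, hd⟩ : ∃ d : ↥(fixSub Ω u), q₁ • d ≠ d := by
      by_contra hall
      push Not at hall
      exact hq₁₁ (Cfg.fix_faithful _ hall)
    have hgd : (g : G) • (d : Ω) ≠ d := fun e' => hd (Subtype.ext (by rw [← hg]; exact e'))
    have hgg : (g : G) • (g : G) • (d : Ω) = d := by
      have h1 : q₁ • q₁ • d = d := by rw [smul_smul, hq₁q₁, one_smul]
      rw [← hg] at h1
      exact congrArg Subtype.val h1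
    have hgu := mem_centralizer_singleton_iff.1 g.2
    have hgsq := hw.lift_sq hc hgu d.2 hgd hgg
    by_cases hgZ : (g : G) ∈ cls₂ u v
    · have hcardg := hc.fx_cls₂ (Ω := Ω) hgZ
      have hg2 := hc.fx_v_ge (Ω := Ω)
      by_contra hall
      push Not at hall
      haveI : Nonempty Ω := ⟨a⟩
      have hone : Nat.card ↥(Fx Ω u ∩ Fx Ω (g : G)) ≤ 1 := by
        rw [Nat.card_coe_set_eq, Set.ncard_le_one_iff_subset_singleton]
        refine ⟨c₀, fun d' hd' => ?_⟩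
        have hd'' := hall ⟨d', hd'.1⟩
        by_contra hne
        exact hd'' (fun e' => hne (congrArg Subtype.val e')) (Subtype.ext (by rw [← hg]; exact hd'.2))
      omega
    · exfalso
      have hm : (g : G) ∈ Z := ⟨hgu, hgsq, hgZ, d, d.2, hgd⟩
      have hfixc : (g : G) • ((φ x₀ : ↥(Fx Ω u)) : Ω) = φ x₀ := by
        have h1 := hψc ⟨u, hc.u_mem⟩
        rw [← hq₁, ← hg] at h1
        exact congrArg Subtype.val h1
      exact hne_z _ ((hg.symm.trans (hρu g (hsame x₀ _ hm hfixc)) : q₁ = z))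
  obtain ⟨r, hrR, hrc⟩ := htr c₀ c₁
  have hr1 : r ≠ 1 := fun e' => hc₁ (by rw [← hrc, e', one_smul])
  have hr1c : q₁ * r * q₁⁻¹ = r := by
    have h1 := hreg _ (R.mul_mem (R.inv_mem hrR) (hR.conj_mem r hrR q₁)) c₀ (by
      rw [mul_smul, mul_smul, mul_smul, show q₁⁻¹ • c₀ = c₀ from inv_smul_eq_iff.2 (hψc _).symm, hrc, hq₁c₁, ← hrc,
        inv_smul_smul])
    exact (inv_mul_eq_one.1 h1).symm
  have hinv : ∀ s ∈ R, ∀ q : ↥(fixRep Ω u).range, q * q = 1 →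
      ∀ hfix : (∀ m ∈ R, q * m * q⁻¹ = m → q₁ * m * q₁⁻¹ = m → m = 1), q₁ * s * q₁⁻¹ = s → q * q₁ = q₁ * q →
      q * s * q⁻¹ = s⁻¹ := by
    intro s hs q hq hfix hqs hqq
    have hs' : q * s * q⁻¹ ∈ R := hR.conj_mem s hs q
    have h1 := hfix (s * (q * s * q⁻¹)) (R.mul_mem hs hs') (by
      calc q * (s * (q * s * q⁻¹)) * q⁻¹ = q * s * q⁻¹ * (q * q * s * (q * q)⁻¹) := by group
        _ = q * s * q⁻¹ * s := by rw [hq]; group
        _ = _ := hcomm _ hs' _ hs) (by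
      calc q₁ * (s * (q * s * q⁻¹)) * q₁⁻¹ = q₁ * s * q₁⁻¹ * ((q₁ * q) * s * (q₁ * q)⁻¹) := by group
        _ = s * ((q * q₁) * s * (q * q₁)⁻¹) := by rw [hqs, hqq]
        _ = s * (q * (q₁ * s * q₁⁻¹) * q⁻¹) := by group
        _ = _ := by rw [hqs])
    exact (inv_eq_of_mul_eq_one_right h1).symm
  have hz' : z * r * z⁻¹ = r⁻¹ := by
    refine hinv r hrR z hzz (fun m hm hmz _ => hreg m hm c₀ (hzuniq _ ?_)) hr1c (hzcen _ (hψc _)).symm
    rw [smul_smul, mul_inv_eq_iff_eq_mul.1 hmz, mul_smul, hzc]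
  have hq₂' : q₂ * r * q₂⁻¹ = r⁻¹ := by
    refine hinv r hrR q₂ hq₂q₂ (fun m hm hm2 hm1 => ?_) hr1c hq₁₂.symm
    by_contra hm0
    have hne : m • c₀ ≠ c₀ := fun e' => hm0 (hreg m hm c₀ e')
    refine hq12ne (hc.fix_stab_unique hne hq₁₁ hq₂₁ ?_ (hψc _) ?_ (hψc _))
    · rw [smul_smul, mul_inv_eq_iff_eq_mul.1 hm1, mul_smul, hq₁, hψc]
    · rw [smul_smul, mul_inv_eq_iff_eq_mul.1 hm2, mul_smul, hq₂, hψc]
  have hfix : (z⁻¹ * q₂) • c₁ = c₁ := by
    have e1 : (z⁻¹ * q₂) * r = r * (z⁻¹ * q₂) := by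
      calc (z⁻¹ * q₂) * r = z⁻¹ * (q₂ * r * q₂⁻¹) * q₂ := by group
        _ = z⁻¹ * (z * r * z⁻¹) * q₂ := by rw [hq₂', hz']
        _ = _ := by group
    rw [← hrc, smul_smul, e1, mul_smul, mul_smul z⁻¹, hq₂, hψc, show z⁻¹ • c₀ = c₀ from inv_smul_eq_iff.2 hzc.symm]
  have hfix0 : (z⁻¹ * q₂) • c₀ = c₀ := by
    rw [mul_smul, hq₂, hψc, show z⁻¹ • c₀ = c₀ from inv_smul_eq_iff.2 hzc.symm]
  by_cases h1 : z⁻¹ * q₂ = 1
  · exact hne_z _ ((inv_mul_eq_one.1 h1).symm : ψ ⟨v, hc.v_mem⟩ = z)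
  · have h3 := hc.fix_stab_unique hc₁ h1 hq₁₁ hfix hfix0 hq₁c₁ (hψc _)
    refine hne_z (⟨v, hc.v_mem⟩ * ⟨u, hc.u_mem⟩) ?_
    rw [map_mul, ← hq₁, ← hq₂]
    rw [← h3, inv_eq_of_mul_eq_one_right hzz]
    calc q₂ * (z * q₂) = q₂ * (q₂ * z) := by rw [← hzcen q₂ (hψc _)]
      _ = z := by rw [← mul_assoc, hq₂q₂, one_mul]

end Swap

end Cfsg.Agent.Perm.TwoStab
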