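import Cfsg.Agent.Lib.Perm.TwoStab.QDFour
import Cfsg.Agent.Lib.Perm.TwoStab.Dihedral
import Cfsg.Agent.Lib.Invol.Order7920Unique
import Cfsg.Agent.Lib.Invol.Order7920Nse
import Cfsg.Agent.Lib.Fus.MathieuTwoGroups

/-!
# Semidihedral Sylow 2-subgroups: the group is `M₁₁` on twelve points
-/

set_option autoImplicit false
set_option linter.unusedSectionVars false
set_option linter.style.haveILetI false

namespace Cfsg.Agent.Perm.TwoStab

open MulAction Subgroup Invol

universe u₁ u₂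

variable {G : Type u₁} [Group G] {Ω : Type u₂} [MulAction G Ω] {a b : Ω} {u v : G}

namespace Cfg

variable (h : Cfg G a b u v)
include h

theorem sixteen_le [Finite G] [Finite Ω] {T : Sylow 2 G} {n : ℕ} {x y : ↥(T : Subgroup G)}
    (hQ : QD ↥(T : Subgroup G) n x y) (hu : ((x ^ (2 * qq n) : ↥(T : Subgroup G)) : G) = u) :
    (T : Subgroup G) ≤ centralizer ({u} : Set G) ∧ 16 ≤ Nat.card ↥(centralizer ({u} : Set G)) := by
  have hTC : (T : Subgroup G) ≤ centralizer ({u} : Set G) := fun t ht => mem_centralizer_singleton_iff.2 (by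
    rw [← hu]; exact congrArg Subtype.val (hQ.z_central ⟨t, ht⟩))
  refine ⟨hTC, le_trans ?_ (Subgroup.card_le_of_le hTC)⟩
  rw [hQ.card]
  calc 16 = 2 ^ 4 := rfl
    _ ≤ _ := Nat.pow_le_pow_right two_pos (by have := hQ.hn; omega)

/-- A regular normal 2-subgroup of the induced group has at most four elements. -/
theorem two_regular_le [Finite G] [Finite Ω] (hmv : ∃ c ∈ Fx Ω u, v • c ≠ c) {T : Sylow 2 G} {n : ℕ}
    {x y : ↥(T : Subgroup G)} (hQ : QD ↥(T : Subgroup G) n x y)
    (hTC : (T : Subgroup G) ≤ centralizer ({u} : Set G)) (R : Subgroup ↥(fixRep Ω u).range) [R.Normal]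
    (hexp : ∀ r ∈ R, r ^ 2 = 1) : Nat.card ↥R ≤ 4 := by
  classical
  haveI : Fact (Nat.Prime 2) := ⟨Nat.prime_two⟩
  set ρ := (fixRep Ω u).rangeRestrict with hρ
  set U := R.comap ρ with hU
  haveI : U.Normal := (inferInstance : R.Normal).comap ρ
  have h4 : ∀ g ∈ U, g ^ 4 = 1 := fun g hg => by
    have h1 : ρ (g ^ 2) = 1 := by rw [map_pow]; exact hexp _ hg
    have h2 : ((g ^ 2 : ↥(centralizer ({u} : Set G))) : G) * ((g ^ 2 : ↥(centralizer ({u} : Set G))) : G) = 1 := by
      rcases h.fix_kernel hmv h1 with e | e <;> rw [e]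
      · exact one_mul 1
      · exact h.uu
    rw [show (4 : ℕ) = 2 * 2 from rfl, pow_mul, pow_two (g ^ 2)]
    exact Subtype.ext h2
  have hU2 : IsPGroup 2 ↥U := fun g => ⟨2, Subtype.ext (h4 g g.2)⟩
  have hUT : U ≤ ((T.subtype hTC : Sylow 2 ↥(centralizer ({u} : Set G))) : Subgroup _) := by
    obtain ⟨P, hP⟩ := hU2.exists_le_sylow
    obtain ⟨g, hg⟩ := MulAction.exists_smul_eq ↥(centralizer ({u} : Set G)) P (T.subtype hTC)
    intro z hz
    rw [← hg, Sylow.coe_subgroup_smul, Subgroup.mem_pointwise_smul_iff_inv_smul_mem]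
    exact hP (by simpa using (inferInstance : U.Normal).conj_mem z hz g⁻¹)
  have hUT' : ∀ z ∈ U, (z : G) ∈ (T : Subgroup G) := fun z hz => by
    have := hUT hz
    rwa [Sylow.coe_subtype, mem_subgroupOf] at this
  set U₀ : Subgroup ↥(T : Subgroup G) := U.comap (inclusion hTC) with hU₀
  have h8 : Nat.card ↥U₀ ≤ 8 := qd_small_sq hQ U₀ fun r hr => Subtype.ext (by
    have := congrArg Subtype.val (h4 _ hr)
    simpa using this)
  have hUU₀ : Nat.card ↥U ≤ Nat.card ↥U₀ := Nat.card_le_card_of_injective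
    (fun z => (⟨⟨((z : ↥(centralizer ({u} : Set G))) : G), hUT' z z.2⟩, z.2⟩ : ↥U₀))
    fun z z' e => Subtype.ext (Subtype.ext (congrArg (fun w : ↥U₀ => ((w : ↥(T : Subgroup G)) : G)) e))
  -- the preimage is twice as large
  set u' : ↥(centralizer ({u} : Set G)) := ⟨u, mem_centralizer_singleton_iff.2 rfl⟩ with hu'
  have hsurj := (fixRep Ω u).rangeRestrict_surjective
  choose s hs using fun r : ↥R => hsurj (r : ↥(fixRep Ω u).range)
  have hinj : Nat.card (↥R × Bool) ≤ Nat.card ↥U := by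
    refine Nat.card_le_card_of_injective (fun q => (⟨if q.2 then s q.1 * u' else s q.1, ?_⟩ : ↥U)) ?_
    · show ρ _ ∈ R
      split_ifs
      · rw [map_mul, hρ, hs, hu', h.fix_u, mul_one]; exact q.1.2
      · rw [hρ, hs]; exact q.1.2
    · rintro ⟨r, i⟩ ⟨r', i'⟩ e
      have e' := congrArg Subtype.val e
      simp only at e'
      have hr : r = r' := by
        have h1 := congrArg ρ e'
        refine Subtype.ext ?_
        cases i <;> cases i' <;> simpa [hρ, hs, hu', map_mul, h.fix_u] using h1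
      subst hr
      cases i <;> cases i' <;> first
        | rfl
        | (exfalso; simp at e'; exact h.u_ne (congrArg Subtype.val e'))
  rw [Nat.card_prod, Nat.card_eq_fintype_card (α := Bool), Fintype.card_bool] at hinj
  omega

/-- `u` fixes four points. -/
theorem fx_eq_four [Finite G] [Finite Ω] (hS : NoSwap a b u v) {T : Sylow 2 G} {n : ℕ} {x y : ↥(T : Subgroup G)}
    (hQ : QD ↥(T : Subgroup G) n x y) (hu : ((x ^ (2 * qq n) : ↥(T : Subgroup G)) : G) = u)
    (hT : four u v ≤ (T : Subgroup G)) : Nat.card ↥(Fx Ω u) = 4 := by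
  classical
  haveI : Fact (Nat.Prime 2) := ⟨Nat.prime_two⟩
  have hmv := h.exists_moved hQ hu hT
  obtain ⟨hTC, h16⟩ := h.sixteen_le hQ hu
  obtain ⟨N, hN, hNi, hNV⟩ := h.exists_half hQ hu hT
  haveI := hN
  obtain ⟨R, p, k, hR, hp, hk, hf, hRc, hexp, hcomm, htr, hreg⟩ := h.exists_fix_regular hmv h16 N hNi hNV
  haveI := hR
  by_cases hp2 : p = 2
  · subst hp2
    have h4 := h.two_regular_le hmv hQ hTC R hexp
    rw [hRc] at h4
    have hk2 : k ≤ 2 := (Nat.pow_le_pow_iff_right (le_refl 2)).1 h4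
    rcases (show k = 1 ∨ k = 2 by omega) with e | e
    · exfalso
      rw [h.card_cent, hf, e] at h16
      norm_num at h16
    · rw [hf, e]; norm_num
  exfalso
  -- a Sylow subgroup fixing `a`
  set Ka : Subgroup G := centralizer ({u} : Set G) ⊓ stabilizer G a with hKa
  have hVK : four u v ≤ Ka := fun z hz =>
    ⟨mem_centralizer_singleton_iff.2 (h.four_comm hz (h.mem_four.2 (by simp))), (h.four_le hz).1⟩
  have hKpair : Ka ⊓ pairStab G a b = four u v := by
    refine le_antisymm (fun z hz => ?_) (le_inf hVK h.four_le)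
    rw [← h.cent_inf]
    exact ⟨hz.1.1, hz.2⟩
  set S₀ : Set (Ω × Ω) := {q | q.1 = a ∧ q.2 ∈ Fx Ω u \ {a}} with hS₀
  have hKcard : Nat.card ↥Ka = 4 * (Nat.card ↥(Fx Ω u) - 1) := by
    rw [card_eq_pairs Ka (a := a) (b := b) S₀ ⟨rfl, h.u_b, h.ne.symm⟩ (fun g hg => ?_) (fun q hq => ?_), hKpair,
      h.card_four, mul_comm]
    · congr 1
      have e : Nat.card ↥S₀ = Nat.card ↥(Fx Ω u \ {a}) := Nat.card_congr
        { toFun := fun q => ⟨q.1.2, q.2.2⟩
          invFun := fun c => ⟨(a, c.1), rfl, c.2⟩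
          left_inv := fun q => Subtype.ext (Prod.ext q.2.1.symm rfl)
          right_inv := fun c => rfl }
      rw [e, Nat.card_coe_set_eq, Set.ncard_sdiff_singleton_of_mem (show a ∈ Fx Ω u from h.u_a), ← Nat.card_coe_set_eq]
    · have hga : g • a = a := hg.2
      have hgu : g * u = u * g := mem_centralizer_singleton_iff.1 hg.1
      refine ⟨hga, ?_, fun e => h.ne.symm (smul_left_cancel g (e.trans hga.symm))⟩
      show u • g • b = g • b
      rw [← mul_smul, ← hgu, mul_smul, h.u_b]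
    · obtain ⟨q1, q2⟩ := q
      obtain ⟨rfl, hq2, hqa⟩ := hq
      obtain ⟨g, hg, h1, h2⟩ := h.cent_u_pairs (fun e => hqa e.symm) h.u_a hq2
      exact ⟨g⁻¹, ⟨(centralizer ({u} : Set G)).inv_mem hg, mem_stabilizer_iff.2 (inv_smul_eq_iff.2 h1.symm)⟩,
        Prod.ext (inv_smul_eq_iff.2 h1.symm) (inv_smul_eq_iff.2 h2.symm)⟩
  have hfodd : Odd (Nat.card ↥(Fx Ω u)) := by rw [hf]; exact (hp.odd_of_ne_two hp2).pow
  obtain ⟨P, hP⟩ := ((IsPGroup.of_card (G := ↥(four u v)) (p := 2) (n := 2) h.card_four).of_equiv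
    (subgroupOfEquivOfLe hVK).symm).exists_le_sylow
  have hCidx : Odd (centralizer ({u} : Set G)).index := by
    have h1 : (centralizer ({u} : Set G)).index ∣ (T : Subgroup G).index := index_dvd_of_le hTC
    exact Odd.of_dvd_nat (Nat.not_even_iff_odd.1 fun he => T.not_dvd_index (even_iff_two_dvd.1 he)) h1
  have hKidx : Odd Ka.index := by
    have h1 := Ka.card_mul_index
    have h2 := (centralizer ({u} : Set G)).card_mul_index
    rw [h.card_cent, ← h1, hKcard] at h2
    have hpos : 0 < 4 * (Nat.card ↥(Fx Ω u) - 1) := by have := h.fx_u_ge (Ω := Ω); omega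
    have h3 : Ka.index = Nat.card ↥(Fx Ω u) * (centralizer ({u} : Set G)).index :=
      Nat.eq_of_mul_eq_mul_left hpos (by rw [← h2]; ring)
    rw [h3]
    exact hfodd.mul hCidx
  set P₂ : Subgroup G := (P : Subgroup ↥Ka).map Ka.subtype with hP₂
  set T₂ : Sylow 2 G := (P.isPGroup'.map Ka.subtype).toSylow (by
    rw [index_map_subtype, Nat.prime_two.dvd_mul]
    exact fun e => e.elim P.not_dvd_index fun e' => (Nat.not_even_iff_odd.2 hKidx) (even_iff_two_dvd.2 e')) with hT₂
  have hT₂mem : ∀ {z : G}, z ∈ (T₂ : Subgroup G) ↔ z ∈ P₂ := fun {z} => Iff.rfl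
  have hT₂K : (T₂ : Subgroup G) ≤ Ka := map_subtype_le _
  have hVT₂ : four u v ≤ (T₂ : Subgroup G) := fun z hz => ⟨⟨z, hVK hz⟩, hP (mem_subgroupOf.2 hz), rfl⟩
  obtain ⟨e⟩ : Nonempty (↥(T : Subgroup G) ≃* ↥(T₂ : Subgroup G)) := ⟨Sylow.equiv T T₂⟩
  have hQ₂ := qd_map hQ e
  set s : ↥(T₂ : Subgroup G) := ⟨u, hVT₂ (h.mem_four.2 (by simp))⟩ with hs
  have hu₂ : ((e x ^ (2 * qq n) : ↥(T₂ : Subgroup G)) : G) = u := by
    have hso : orderOf s = 2 := by rw [hs, Subgroup.orderOf_mk, h.u_ord]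
    have hsc : e x * s = s * e x := Subtype.ext
      (mem_centralizer_singleton_iff.1 (hT₂K (e x).2).1)
    exact (congrArg Subtype.val (qd_central hQ₂ hso hsc)).symm
  refine h.odd_regular_false hS hmv T₂ hQ₂ hu₂ hVT₂ (fun t => (hT₂K t.2).2) ?_ R p k hR hp hp2 hf hexp hcomm htr hreg
  have hle : (T₂ : Subgroup G) ≤ centralizer ({u} : Set G) := fun t ht => (hT₂K ht).1
  refine ⟨((T₂ : Subgroup G).subgroupOf (centralizer ({u} : Set G))).index, ?_, ?_⟩
  · refine Nat.not_even_iff_odd.1 fun he => T₂.not_dvd_index ?_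
    rw [← relIndex_mul_index hle]
    exact (even_iff_two_dvd.1 he).mul_right _
  · rw [← Nat.card_congr (subgroupOfEquivOfLe hle).toEquiv, card_mul_index]

end Cfg

/-- The semidihedral case. -/
theorem Five.semidihedral_case [Finite G] [Finite Ω] (h : Five G a b u v) (hS : NoSwap a b u v) (T₀ : Sylow 2 G)
    (hT₀ : four u v ≤ (T₀ : Subgroup G)) (hqd : Cfsg.IsQuasiDihedral ↥(T₀ : Subgroup G)) :
    Nat.card Ω = 12 ∧ Cfsg.Spor.IsoM11 G := by
  classical
  obtain ⟨T, n, x, y, hT, hQ, hu⟩ := h.toCfg.exists_center hS T₀ hT₀ hqd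
  have hf := h.toCfg.fx_eq_four hS hQ hu hT
  obtain ⟨k, hk1, hk2⟩ := h.toCfg.exists_conj_swap h.u_ord
  set s : G := k * u * k⁻¹ with hs
  have hso : orderOf s = 2 := by rw [hs, ← MulAut.conj_apply, MulEquiv.orderOf_eq, h.u_ord]
  have hss := (orderOf_two_iff.1 hso).1
  have hδ : Nat.card {z : ↥(cls u) // (z : G) • a = b} = 10 := by
    rw [← h.card_swappers hss hk1 hS]
    refine Nat.card_congr
      { toFun := fun z => ⟨⟨s * z.1.1, ?_, ?_⟩, ?_⟩
        invFun := fun d => ⟨⟨s * d.1.1, h.toCfg.one_class hQ hu hT (orderOf_two_iff.2 ⟨d.2, ?_⟩)⟩, ?_⟩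
        left_inv := fun z => Subtype.ext (Subtype.ext (show s * (s * (z.1 : G)) = z.1 by rw [← mul_assoc, hss, one_mul]))
        right_inv := fun d => Subtype.ext (Subtype.ext (show s * (s * (d.1 : G)) = d.1 by rw [← mul_assoc, hss, one_mul])) }
    · show (s * (z.1 : G)) • a = a
      rw [mul_smul, z.2, hk2]
    · show (s * (z.1 : G)) • b = b
      rw [mul_smul, smul_swap (h.toCfg.cls_sq z.1.2) z.2, hk1]
    · show s * (s * (z.1 : G)) * (s * (s * (z.1 : G))) = 1
      rw [← mul_assoc s s, hss, one_mul, h.toCfg.cls_sq z.1.2]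
    · intro e
      have hd : (d.1 : G) = s := by
        calc (d.1 : G) = s * (s * (d.1 : G)) := by rw [← mul_assoc, hss, one_mul]
          _ = s * 1 := by rw [e]
          _ = s := mul_one s
      have h2 : (d.1 : G) • a = b := by rw [hd, hk1]
      exact h.ne (d.1.2.1.symm.trans h2)
    · show (s * (d.1 : G)) • a = b
      rw [mul_smul, d.1.2.1, hk1]
  have hn := h.toCfg.degree_eq
  rw [h.card_invols, hδ, hf] at hn
  have hn12 : Nat.card Ω = 12 := by
    have := h.toCfg.fx_le (Ω := Ω)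
    omega
  refine ⟨hn12, ?_⟩
  have hG : Nat.card G = 7920 := by rw [h.toCfg.card_group, h.card_D, hn12]
  have hGa : Nat.card ↥(stabilizer G a) = 660 := by
    haveI : IsPretransitive G Ω := ⟨fun c d => by
      by_cases hcd : c = d
      · exact ⟨1, by rw [one_smul, hcd]⟩
      · obtain ⟨g, hg, -⟩ := h.toCfg.move c d d c hcd (fun e => hcd e.symm)
        exact ⟨g, hg⟩⟩
    have h1 := (stabilizer G a).card_mul_index
    rw [index_stabilizer_of_transitive, hn12, hG] at h1
    omega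
  have hsimple : IsSimpleGroup G := by
    haveI : Nontrivial G := ⟨⟨u, 1, h.toCfg.u_ne⟩⟩
    refine ⟨fun N hN => ?_⟩
    by_cases hN1 : N = ⊥
    · exact Or.inl hN1
    refine Or.inr ?_
    haveI := hN
    have hD := h.le_of_normal N hN1
    have htr := h.toCfg.transitive_of_normal N hN1
    set Na := N ⊓ stabilizer G a with hNa
    have hDNa : pairStab G a b ≤ Na := le_inf hD inf_le_left
    have h60 : 60 ∣ Nat.card ↥Na := h.card_D ▸ card_dvd_of_le hDNa
    have h660 : Nat.card ↥Na ∣ 660 := hGa ▸ card_dvd_of_le inf_le_right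
    have hNa' : Nat.card ↥Na = 60 ∨ Nat.card ↥Na = 660 := by
      obtain ⟨c, hc⟩ := h60
      rw [hc] at h660 ⊢
      have h11 : c ∣ 11 := (Nat.mul_dvd_mul_iff_left (by norm_num : 0 < 60)).1 (by simpa using h660)
      rcases (Nat.dvd_prime (by norm_num)).1 h11 with e | e <;> omega
    rcases hNa' with e | e
    · exfalso
      have heq : pairStab G a b = Na := eq_of_le_of_card_ge hDNa (by rw [e, h.card_D])
      apply h.toCfg.u_ne
      refine h.toCfg.faithful u fun c => ?_
      by_cases hca : c = a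
      · rw [hca, h.toCfg.u_a]
      obtain ⟨g, hga, hgc⟩ := h.toCfg.move a b a c h.ne (fun e' => hca e'.symm)
      have hm : g⁻¹ * u * g ∈ pairStab G a b := by
        rw [heq]
        refine ⟨by simpa using hN.conj_mem u (hD h.u_mem) g⁻¹, ?_⟩
        show (g⁻¹ * u * g) • a = a
        rw [mul_smul, mul_smul, hga, h.toCfg.u_a, inv_smul_eq_iff, hga]
      have h2 : (g⁻¹ * u * g) • b = b := hm.2
      rw [mul_smul, mul_smul, hgc, inv_smul_eq_iff, hgc] at h2
      exact h2
    · have hGaN : stabilizer G a ≤ N := by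
        rw [show stabilizer G a = Na from (eq_of_le_of_card_ge inf_le_right (by rw [hGa, ← e])).symm]
        exact inf_le_left
      refine eq_top_iff.2 fun g _ => ?_
      obtain ⟨z, hz, hzg⟩ := htr (g • a) a
      have h1 : z * g ∈ N := hGaN (mem_stabilizer_iff.2 (by rw [mul_smul, hzg]))
      exact (N.mul_mem_cancel_left hz).1 h1
  haveI := Invol.M11Ord.m11_simple'
  exact Invol.M11Ord.mulEquiv_of_card hG Fus.Mathieu.card11

end Cfsg.Agent.Perm.TwoStab
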