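import Cfsg.Agent.Lib.Perm.TwoStab.Dihedral
import Cfsg.Agent.Lib.Perm.TwoStab.SemiDihedral
import Cfsg.Agent.Lib.Perm.TwoStab.OddTwo
import Cfsg.Agent.Lib.Perm.TwoStab.OddFour
import Cfsg.Agent.Lib.Perm.TwoStab.EvenW

/-!
# Doubly transitive groups whose two-point stabiliser is the alternating group of degree five
-/

set_option autoImplicit false
set_option linter.unusedSectionVars false
set_option linter.style.haveILetI false

namespace Cfsg.Agent.Perm.TwoStab

open MulAction Subgroup

universe u₁ u₂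

variable {G : Type u₁} [Group G] {Ω : Type u₂} [MulAction G Ω] {a b : Ω} {u v : G}

theorem Five.classification [Finite G] [Finite Ω] (h : Five G a b u v) :
    (Nat.card Ω = 7 ∧ Nonempty (G ≃* ↥(alternatingGroup (Fin 7)))) ∨ (Nat.card Ω = 12 ∧ Cfsg.Spor.IsoM11 G) := by
  by_cases hS : NoSwap a b u v
  · obtain ⟨T, hT⟩ := h.toCfg.exists_sylow
    rcases h.toCfg.sylow_shape hS T hT with ⟨m, -, ⟨e⟩⟩ | hqd
    · exact Or.inl (h.dihedral_case T e)
    · exact Or.inr (h.semidihedral_case hS T hT hqd)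
  · exfalso
    simp only [NoSwap, not_forall] at hS
    obtain ⟨s, hsa, hsb, hsu, hsv, -⟩ := hS
    obtain ⟨w, h1, h2, h3, h4⟩ := h.exists_central_swap hsa hsb hsu hsv
    have hw : Swap a b w := ⟨h1, h2, h3, h4⟩
    rcases Nat.even_or_odd (Nat.card Ω) with hn | hn
    · exact hw.even_false h hn
    · have hwc := hw.odd_w_mem h hn
      have hmv := hw.odd_moved h.toStab hn hwc
      rcases hw.j_cases h.toCfg hmv with e | ⟨e, -⟩
      · exact hw.odd_four_false h.toCfg hn hmv e
      · exact hw.odd_two_false h.toStab hn hwc hmv e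

end Cfsg.Agent.Perm.TwoStab
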