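import Cfsg.Agent.Lib.Perm.TwoStab.NoSwapFour
import Cfsg.Agent.Lib.Perm.TwoStab.AffineFour
import Cfsg.Agent.Lib.Perm.TwoStab.OddTwo
import Cfsg.Agent.Lib.Perm.TwoStab.OddFour
import Cfsg.Agent.Lib.Invol.ZStar
import Cfsg.Agent.Lib.Grp.PComponents

/-!
# Doubly transitive groups whose two-point stabiliser is the alternating group of degree four
-/

set_option autoImplicit false
set_option linter.unusedSectionVars false
set_option linter.style.haveILetI false

namespace Cfsg.Agent.Perm.TwoStab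

open MulAction Subgroup
open Cfsg.Agent.Spor.Cos (F4)

universe u₁ u₂

variable {G : Type u₁} [Group G] {Ω : Type u₂} [MulAction G Ω] {a b : Ω} {u v : G}

/-- An isolated involution centralises the group modulo the odd core. -/
theorem centralizer_sup_oddCore [Finite G] {t : G} (ht : Cfsg.IsIsolatedInvolution t) :
    Subgroup.centralizer ({t} : Set G) ⊔ Cfsg.oddCore G = ⊤ := by
  haveI : Fact (Nat.Prime 2) := ⟨Nat.prime_two⟩
  haveI : (Cfsg.pPrimeCore 2 G).Normal := Grp.pPrimeCore_isNormal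
  show Subgroup.centralizer ({t} : Set G) ⊔ Cfsg.pPrimeCore 2 G = ⊤
  have hP : IsPGroup 2 ↥(zpowers t) := IsPGroup.of_card (n := 1) (by rw [Nat.card_zpowers, ht.1, pow_one])
  have h1 := Grp.map_centralizer_pGroup hP
  rw [zpowers_eq_closure, centralizer_closure, ← zpowers_eq_closure, MonoidHom.map_zpowers, zpowers_eq_closure,
    centralizer_closure] at h1
  have h2 : Subgroup.centralizer ({QuotientGroup.mk' (Cfsg.pPrimeCore 2 G) t} : Set (G ⧸ Cfsg.pPrimeCore 2 G)) = ⊤ := by
    refine (eq_top_iff' _).2 fun x => mem_centralizer_singleton_iff.2 ?_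
    obtain ⟨g, rfl⟩ := QuotientGroup.mk'_surjective _ x
    have h3 : QuotientGroup.mk' (Cfsg.pPrimeCore 2 G) (t * g * t⁻¹ * g⁻¹) = 1 :=
      (QuotientGroup.eq_one_iff _).2 (ZStar.commutator_mem_oddCore _ G rfl t ht g)
    rw [map_mul, map_mul, map_mul, map_inv, map_inv, mul_inv_eq_one, mul_inv_eq_iff_eq_mul] at h3
    exact h3.symm
  rw [h2] at h1
  have h4 := congrArg (Subgroup.comap (QuotientGroup.mk' (Cfsg.pPrimeCore 2 G))) h1
  rwa [comap_map_eq, QuotientGroup.ker_mk', comap_top] at h4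

theorem Four.classification [Finite G] [Finite Ω] (h : Four G a b u v) :
    (Nat.card Ω = 6 ∧ Nonempty (G ≃* ↥(alternatingGroup (Fin 6)))) ∨
      (Nat.card Ω = 15 ∧ Nonempty (G ≃* ↥(alternatingGroup (Fin 7)))) ∨
      (Nat.card Ω = 16 ∧ ∃ (F : Type) (_ : Field F) (_ : Fintype F), Fintype.card F = 4 ∧
        Nonempty (G ≃* ((Fin 2 → F) ≃ᵃ[F] (Fin 2 → F)))) ∨
      (∃ J : G, orderOf J = 2 ∧ Subgroup.centralizer ({J} : Set G) ⊔ Cfsg.oddCore G = ⊤) := by
  by_cases hS : NoSwap a b u v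
  · obtain ⟨T, hT⟩ := h.toCfg.exists_sylow
    rcases h.toCfg.sylow_shape hS T hT with ⟨m, -, ⟨e⟩⟩ | hqd
    · rcases h.noSwap_dihedral hS T e with h6 | h15
      · exact Or.inl h6
      · exact Or.inr (Or.inl h15)
    · exact (h.noSwap_semidihedral hS T hT hqd).elim
  · simp only [NoSwap, not_forall] at hS
    obtain ⟨s, hsa, hsb, hsu, hsv, -⟩ := hS
    obtain ⟨w, hw⟩ := h.exists_central_swap hsa hsb hsu hsv
    rcases Nat.even_or_odd (Nat.card Ω) with hn | hn
    · obtain ⟨h16, -, O, hOn, hO, L, hLn, hLs, hLc, h60⟩ := hw.even_sixteen h hn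
      haveI := hOn
      haveI := hLn
      obtain ⟨R, hRn, hR2, hRc, hRt, hRf⟩ := h.sixteen_regular h16 hO hLs hLc h60
      haveI := hRn
      obtain ⟨-, -, -, z, hz3, -, hza, hzc, hzfix, -⟩ := h.sixteen_stab h16 hO hLs hLc h60
      exact Or.inr (Or.inr (Or.inl ⟨h16, F4, inferInstance, inferInstance, F4.card_eq,
        h.affine h16 hz3 hza hzc hzfix hR2 hRc hRt hRf⟩))
    · by_cases hwc : w ∈ cls u
      · exfalso
        have hmv := hw.odd_moved h.toStab hn hwc
        rcases hw.j_cases h.toCfg hmv with e | ⟨e, -⟩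
        · exact hw.odd_four_false h.toCfg hn hmv e
        · exact hw.odd_two_false h.toStab hn hwc hmv e
      · have hiso := hw.odd_isolated h.toCfg hn hwc
        exact Or.inr (Or.inr (Or.inr ⟨w, hiso.1, centralizer_sup_oddCore hiso⟩))

end Cfsg.Agent.Perm.TwoStab
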