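import Cfsg.Agent.Lib.Perm.TwoStab.AltFour
import Cfsg.Agent.Lib.Perm.TwoStab.Dihedral
import Cfsg.Agent.Lib.Perm.TwoStab.SemiDihedral

/-!
# Two-point stabiliser `A₄`, no element centralising the four group interchanges the points

Then six involutions interchange the points, so the degree is `f (2 f - 1)`, which is not a prime power; the group has
no regular normal subgroup and the Sylow subgroups decide it: `A₆` on six or `A₇` on fifteen points.
-/

set_option autoImplicit false
set_option linter.unusedSectionVars false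
set_option linter.style.haveILetI false

namespace Cfsg.Agent.Perm.TwoStab

open MulAction Subgroup Invol
open Cfg (cls₂ cls₂_conj)

universe u₁ u₂

variable {G : Type u₁} [Group G] {Ω : Type u₂} [MulAction G Ω] {a b : Ω} {u v : G}

namespace Four

variable (h : Four G a b u v)
include h

theorem exists_swapper : ∃ s : G, s ∈ cls u ∧ s * s = 1 ∧ s • a = b ∧ s • b = a := by
  obtain ⟨k, hk1, hk2⟩ := h.toCfg.exists_conj_swap h.u_ord
  refine ⟨k * u * k⁻¹, cls_conj k ⟨1, by simp⟩, ?_, hk1, hk2⟩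
  rw [show k * u * k⁻¹ * (k * u * k⁻¹) = k * (u * u) * k⁻¹ by group, h.toCfg.uu]; group

theorem delta_six [Finite G] (hS : NoSwap a b u v) :
    Nat.card {z : ↥(cls u) // (z : G) • a = b} = 6 := by
  obtain ⟨s, hs, hss, hsa, hsb⟩ := h.exists_swapper
  obtain ⟨h6, -, hconj⟩ := h.swappers hss hsa hS
  rw [← h6]
  refine Nat.card_congr
    { toFun := fun z => ⟨⟨s * z.1.1, ?_, ?_⟩, ?_⟩
      invFun := fun d => ⟨⟨s * d.1.1, ?_⟩, ?_⟩
      left_inv := fun z => Subtype.ext (Subtype.ext (show s * (s * (z.1 : G)) = z.1 by rw [← mul_assoc, hss, one_mul]))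
      right_inv := fun d => Subtype.ext (Subtype.ext (show s * (s * (d.1 : G)) = d.1 by rw [← mul_assoc, hss, one_mul])) }
  · show (s * (z.1 : G)) • a = a
    rw [mul_smul, z.2, hsb]
  · show (s * (z.1 : G)) • b = b
    rw [mul_smul, smul_swap (h.toCfg.cls_sq z.1.2) z.2, hsa]
  · show s * (s * (z.1 : G)) * (s * (s * (z.1 : G))) = 1
    rw [← mul_assoc s s, hss, one_mul, h.toCfg.cls_sq z.1.2]
  · obtain ⟨g, -, e⟩ := hconj 1 d.1 (by simp [hss]) d.2
    rw [← e]
    exact cls_conj g (by simpa using hs)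
  · show (s * (d.1 : G)) • a = b
    rw [mul_smul, d.1.2.1, hsa]

/-- The degree. -/
theorem noSwap_degree [Finite G] [Finite Ω] (hS : NoSwap a b u v) :
    Nat.card Ω + Nat.card ↥(Fx Ω u) = 2 * (Nat.card ↥(Fx Ω u) * Nat.card ↥(Fx Ω u)) := by
  have h1 := h.toCfg.degree_eq (Ω := Ω)
  rw [h.card_invols, h.delta_six hS] at h1
  have h2 := h.toCfg.fx_lt (Ω := Ω)
  have h3 := h.toCfg.fx_u_ge (Ω := Ω)
  obtain ⟨f, hf⟩ : ∃ f, Nat.card ↥(Fx Ω u) = f + 1 := ⟨Nat.card ↥(Fx Ω u) - 1, by omega⟩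
  rw [hf] at h1 h2 ⊢
  rw [Nat.add_sub_cancel] at h1
  obtain ⟨i, hi⟩ : ∃ i, Nat.card Ω = f + 1 + i := ⟨Nat.card Ω - (f + 1), by omega⟩
  rw [hi, Nat.add_sub_cancel_left] at h1
  rw [hi]
  linarith

theorem u_mem_of_normal [Finite G] [Finite Ω] (hS : NoSwap a b u v) (N : Subgroup G) [N.Normal] (hN : N ≠ ⊥) :
    u ∈ N ∧ v ∈ N := by
  have hu : u ∈ N := by
    by_contra huN
    have hc := h.toCfg
    have hbot : N.subgroupOf (pairStab G a b) = ⊥ := by
      by_contra e
      exact huN (mem_subgroupOf.1 (h.toStab.normal_mem _ inferInstance e))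
    obtain ⟨K, hK, -, hKt, hKf⟩ := exists_regular_normal (a := a) N (hc.transitive_of_normal N hN)
      fun n hn hn1 c d hcn hd => by
        by_contra hcd
        obtain ⟨g, h1, h2⟩ := hc.move c d a b hcd h.ne
        have hm : g * n * g⁻¹ ∈ pairStab G a b := by
          refine ⟨?_, ?_⟩
          · show (g * n * g⁻¹) • a = a
            rw [← h1, mul_smul, mul_smul, inv_smul_smul, hcn]
          · show (g * n * g⁻¹) • b = b
            rw [← h2, mul_smul, mul_smul, inv_smul_smul, hd]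
        have h3 : (⟨_, hm⟩ : ↥(pairStab G a b)) ∈ N.subgroupOf (pairStab G a b) :=
          mem_subgroupOf.2 ((inferInstance : N.Normal).conj_mem n hn g)
        rw [hbot, mem_bot] at h3
        refine hn1 ?_
        have h4 : g * n * g⁻¹ = 1 := congrArg Subtype.val h3
        rwa [mul_inv_eq_one, mul_eq_left] at h4
    obtain ⟨p, k, hp, -, hpk, -, -, -⟩ := regular_elem (fun c d c' d' hcd hcd' => hc.move c d c' d' hcd hcd')
      h.ne K hK hKt hKf
    have hd := h.noSwap_degree hS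
    have hf := hc.fx_u_ge (Ω := Ω)
    have hn : Nat.card Ω = Nat.card ↥(Fx Ω u) * (2 * Nat.card ↥(Fx Ω u) - 1) := by
      have e : Nat.card ↥(Fx Ω u) * (2 * Nat.card ↥(Fx Ω u) - 1) + Nat.card ↥(Fx Ω u) =
          2 * (Nat.card ↥(Fx Ω u) * Nat.card ↥(Fx Ω u)) := by
        rw [Nat.mul_sub, mul_one, Nat.sub_add_cancel (Nat.le_mul_of_pos_right _ (by omega))]; ring
      omega
    have hcop : Nat.Coprime (Nat.card ↥(Fx Ω u)) (2 * Nat.card ↥(Fx Ω u) - 1) := by
      refine Nat.coprime_of_dvd' fun d _ h1 h2 => ?_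
      have h3 := Nat.dvd_sub (h1.mul_left 2) h2
      rwa [show 2 * Nat.card ↥(Fx Ω u) - (2 * Nat.card ↥(Fx Ω u) - 1) = 1 by omega] at h3
    have key : ∀ m, 1 < m → m ∣ p ^ k → p ∣ m := fun m hm hmk => by
      obtain ⟨i, -, rfl⟩ := (Nat.dvd_prime_pow hp).1 hmk
      cases i with
      | zero => simp at hm
      | succ i => exact dvd_pow_self p (Nat.succ_ne_zero i)
    rw [hn] at hpk
    exact hp.not_dvd_one (hcop ▸ Nat.dvd_gcd (key _ (by omega) ⟨_, hpk.symm⟩)
      (key _ (by omega) ⟨_, hpk.symm.trans (mul_comm _ _)⟩))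
  refine ⟨hu, ?_⟩
  obtain ⟨d, -, hd⟩ := h.conj v h.v_mem h.v_ord
  have := (inferInstance : N.Normal).conj_mem u hu d⁻¹
  rwa [← hd, show d⁻¹ * (d * v * d⁻¹) * d⁻¹⁻¹ = v by group] at this

theorem noSwap_oddCore [Finite G] [Finite Ω] (hS : NoSwap a b u v) : Cfsg.oddCore G = ⊥ := by
  haveI : Fact (Nat.Prime 2) := ⟨Nat.prime_two⟩
  haveI : (Cfsg.oddCore G).Normal := Grp.pPrimeCore_isNormal (p := 2)
  by_contra hO
  have h1 := Subgroup.orderOf_dvd_natCard _ (h.u_mem_of_normal hS _ hO).1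
  rw [h.u_ord] at h1
  exact Grp.pPrimeCore_not_dvd h1

theorem noSwap_not_solvable [Finite G] [Finite Ω] (hS : NoSwap a b u v) : ¬ Group.IsSolvable G := by
  intro hs
  obtain ⟨n, hn⟩ := hs.solvable
  have hP : ∃ m, derivedSeries G m = ⊥ := ⟨n, hn⟩
  classical
  obtain ⟨m, hm⟩ : ∃ m, Nat.find hP = m + 1 := by
    refine ⟨Nat.find hP - 1, (Nat.succ_pred_eq_of_pos ((Nat.find_pos hP).2 ?_)).symm⟩
    intro e
    rw [derivedSeries_zero] at e
    exact h.toCfg.u_ne ((Subgroup.mem_bot).1 (e ▸ mem_top u))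
  have hA : derivedSeries G m ≠ ⊥ := Nat.find_min hP (hm ▸ Nat.lt_succ_self m)
  have hcomm : ⁅derivedSeries G m, derivedSeries G m⁆ = ⊥ := by
    have h2 := Nat.find_spec hP
    rwa [hm, derivedSeries_succ] at h2
  haveI := derivedSeries_normal G m
  have huA := (h.u_mem_of_normal hS _ hA).1
  refine h.toCfg.u_ne (h.faithful u fun c => ?_)
  obtain ⟨r, hr, rfl⟩ := h.toCfg.transitive_of_normal _ hA a c
  have h2 : r * u = u * r :=
    mem_centralizer_iff.1 (Subgroup.commutator_eq_bot_iff_le_centralizer.1 hcomm huA) r hr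
  rw [smul_smul, ← h2, mul_smul, h.toCfg.u_a]

/-- Six points. -/
theorem six_points [Finite G] [Finite Ω] (hn : Nat.card Ω = 6) :
    Nonempty (G ≃* ↥(alternatingGroup (Fin 6))) := by
  classical
  haveI := Fintype.ofFinite Ω
  have hG : Nat.card G = 360 := by rw [h.toCfg.card_group, h.card_D, hn]
  let f : G →* Equiv.Perm Ω := MulAction.toPermHom G Ω
  have hf : Function.Injective f := (injective_iff_map_eq_one f).2 fun g hg => h.faithful g fun c => by
    exact Equiv.ext_iff.1 hg c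
  have hr : Nat.card ↥f.range = 360 := by rw [← hG]; exact (Nat.card_congr (MonoidHom.ofInjective hf).toEquiv).symm
  have hidx : f.range.index = 2 := by
    have h1 := f.range.card_mul_index
    rw [hr, Nat.card_perm, hn, show Nat.factorial 6 = 720 by decide] at h1
    omega
  have h2 := Equiv.Perm.eq_alternatingGroup_of_index_eq_two hidx
  have eΩ : Ω ≃ Fin 6 := Finite.equivFinOfCardEq hn
  exact ⟨((MonoidHom.ofInjective hf).trans (MulEquiv.subgroupCongr h2)).trans eΩ.altCongrHom⟩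

/-- The dihedral case. -/
theorem noSwap_dihedral [Finite G] [Finite Ω] (hS : NoSwap a b u v) (T : Sylow 2 G) {m : ℕ}
    (e : ↥(T : Subgroup G) ≃* DihedralGroup m) :
    (Nat.card Ω = 6 ∧ Nonempty (G ≃* ↥(alternatingGroup (Fin 6)))) ∨
      (Nat.card Ω = 15 ∧ Nonempty (G ≃* ↥(alternatingGroup (Fin 7)))) := by
  classical
  have hd := h.noSwap_degree hS
  have hf2 := h.toCfg.fx_u_ge (Ω := Ω)
  have hG : Nat.card G = Nat.card Ω * (Nat.card Ω - 1) * 12 := by rw [h.toCfg.card_group, h.card_D]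
  obtain ⟨f, hf⟩ : ∃ f, Nat.card ↥(Fx Ω u) = f := ⟨_, rfl⟩
  rw [hf] at hd hf2
  by_cases hf_two : f = 2
  · subst hf_two
    have hn : Nat.card Ω = 6 := by omega
    exact Or.inl ⟨hn, h.six_points hn⟩
  refine Or.inr ?_
  obtain ⟨L, hLn, hmodel, hCL⟩ := Invol.GW.exists_socle Invol.GW.Dihedral.gwStatement_holds (h.noSwap_oddCore hS)
    (h.noSwap_not_solvable hS) T e
  haveI := hLn
  haveI hLs : IsSimpleGroup ↥L := Invol.GW.isSimple_of_model hmodel
  have hL1 : L ≠ ⊥ := fun e' => by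
    haveI := hLs.toNontrivial
    exact (Subgroup.nontrivial_iff_ne_bot L).1 inferInstance e'
  obtain ⟨huL, hvL⟩ := h.u_mem_of_normal hS L hL1
  have hinj : Function.Injective (MulAut.conjNormal (H := L) : G →* MulAut ↥L) := by
    rw [← MonoidHom.ker_eq_bot_iff, eq_bot_iff, ← hCL]
    intro g hg
    refine mem_centralizer_iff.2 fun l hl => ?_
    have := congrArg Subtype.val (DFunLike.congr_fun (MonoidHom.mem_ker.1 hg) ⟨l, hl⟩)
    rw [MulAut.conjNormal_apply] at this
    exact (mul_inv_eq_iff_eq_mul.1 this).symm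
  haveI : Finite (MulAut ↥L) := inferInstance
  have h1 := Nat.card_le_card_of_injective _ hinj
  have hbound : ∀ M, Nat.card G ≤ M → M < 8064 → f = 3 := fun M hM hM' => by
    by_contra hne
    have h4 : 4 ≤ f := by omega
    have hn : 28 ≤ Nat.card Ω := by nlinarith
    have := Nat.mul_le_mul hn (show 27 ≤ Nat.card Ω - 1 by omega)
    omega
  rcases hmodel with ⟨F, hF, hFf, hodd, h3, ⟨φ⟩⟩ | ⟨φ⟩
  · exfalso
    have h9 := h.toCfg.field_small L huL hvL hodd φ
    have hq : Fintype.card F = 5 ∨ Fintype.card F = 7 ∨ Fintype.card F = 9 := by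
      obtain ⟨k, hk⟩ := hodd; omega
    rw [Nat.card_congr (MulAut.congr φ).toEquiv] at h1
    have h2 := card_aut_small hq
    have hf3 := hbound 1440 (h1.trans h2) (by norm_num)
    subst hf3
    rw [hG, show Nat.card Ω = 15 by omega] at h1
    omega
  · obtain ⟨φ⟩ := φ
    have hS7 : Nat.card (MulAut ↥(alternatingGroup (Fin 7))) ≤ 5040 := by
      refine (Nat.card_le_card_of_surjective _ (Cfsg.Agent.S2119.result 7 (by norm_num) (by norm_num)).2).trans ?_
      rw [Nat.card_perm]; simp [Nat.factorial]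
    have hLc : Nat.card ↥L = 2520 := by
      rw [Nat.card_congr φ.toEquiv, nat_card_alternatingGroup]; simp [Nat.factorial]
    rw [Nat.card_congr (MulAut.congr φ).toEquiv] at h1
    have hf3 := hbound 5040 (h1.trans hS7) (by norm_num)
    subst hf3
    have hn : Nat.card Ω = 15 := by omega
    refine ⟨hn, ⟨(Subgroup.topEquiv.symm.trans (MulEquiv.subgroupCongr (Subgroup.eq_top_of_card_eq L ?_).symm)).trans φ⟩⟩
    rw [hLc, hG, hn]

/-- The semidihedral case does not occur. -/
theorem noSwap_semidihedral [Finite G] [Finite Ω] (hS : NoSwap a b u v) (T₀ : Sylow 2 G)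
    (hT₀ : four u v ≤ (T₀ : Subgroup G)) (hqd : Cfsg.IsQuasiDihedral ↥(T₀ : Subgroup G)) : False := by
  classical
  have hc := h.toCfg
  obtain ⟨T, n, x, y, hT, hQ, hu⟩ := hc.exists_center hS T₀ hT₀ hqd
  have hf := hc.fx_eq_four hS hQ hu hT
  have hd := h.noSwap_degree hS
  rw [hf] at hd
  have hn : Nat.card Ω = 28 := by omega
  have hG : Nat.card G = 9072 := by rw [hc.card_group, h.card_D, hn]
  have hCu : Nat.card ↥(centralizer ({u} : Set G)) = 48 := by rw [hc.card_cent, hf]
  haveI : Fact (Nat.Prime 7) := ⟨by norm_num⟩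
  haveI : Fact (Nat.Prime 3) := ⟨Nat.prime_three⟩
  haveI : Fact (Nat.Prime 2) := ⟨Nat.prime_two⟩
  obtain ⟨P⟩ := (inferInstance : Nonempty (Sylow 7 G))
  have hP : Nat.card ↥(P : Subgroup G) = 7 := by
    rw [P.card_eq_multiplicity, hG, show (9072 : ℕ) = 7 ^ 1 * 1296 by norm_num,
      Nat.factorization_mul (by norm_num) (by norm_num), Finsupp.add_apply, Nat.Prime.factorization_pow (by norm_num),
      Finsupp.single_eq_same, Nat.factorization_eq_zero_of_not_dvd (by norm_num)]
    norm_num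
  set C := centralizer ((P : Subgroup G) : Set G) with hCdef
  set N := normalizer ((P : Subgroup G) : Set G) with hNdef
  have hCN : C ≤ N := centralizer_le_normalizer _
  have hCodd : ¬ 2 ∣ Nat.card ↥C := by
    intro h2
    obtain ⟨i, hi⟩ := exists_prime_orderOf_dvd_card' (G := ↥C) 2 h2
    have hiG : orderOf (i : G) = 2 := by rw [Subgroup.orderOf_coe, hi]
    obtain ⟨g, hg⟩ := hc.one_class hQ hu hT hiG
    have hle : ((P : Subgroup G).map (MulAut.conj g).toMonoidHom) ≤ centralizer ({u} : Set G) := by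
      rintro _ ⟨z, hz, rfl⟩
      rw [mem_centralizer_singleton_iff, ← hg]
      show g * z * g⁻¹ * (g * (i : G) * g⁻¹) = g * (i : G) * g⁻¹ * (g * z * g⁻¹)
      rw [show g * z * g⁻¹ * (g * (i : G) * g⁻¹) = g * (z * (i : G)) * g⁻¹ by group,
        mem_centralizer_iff.1 i.2 z hz]
      group
    have h7 := card_dvd_of_le hle
    rw [← Nat.card_congr (Subgroup.equivMapOfInjective _ _ (MulAut.conj g).injective).toEquiv, hP, hCu] at h7
    norm_num at h7
  have hC27 : ¬ 27 ∣ Nat.card ↥C := by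
    intro h27
    obtain ⟨R, hR⟩ := Sylow.exists_subgroup_card_pow_prime (G := ↥C) 3 (n := 3) (by simpa using h27)
    set R' := R.map C.subtype with hR'
    have hR'c : Nat.card ↥R' = 3 ^ 3 := by
      rw [hR', ← Nat.card_congr (Subgroup.equivMapOfInjective _ _ C.subtype_injective).toEquiv, hR]
    obtain ⟨c, hc'⟩ := (IsPGroup.of_card hR'c).nonempty_fixed_point_of_prime_not_dvd_card Ω (by rw [hn]; norm_num)
    have hfix : ∀ r ∈ R', r • c = c := fun r hr => congrArg id (hc' ⟨r, hr⟩)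
    obtain ⟨z, hz, hzc⟩ : ∃ z ∈ (P : Subgroup G), z • c ≠ c := by
      by_contra hall
      push Not at hall
      have hle : (P : Subgroup G) ≤ stabilizer G c := fun z hz => hall z hz
      have h7 := card_dvd_of_le hle
      haveI : IsPretransitive G Ω := ⟨fun x y => by
        by_cases hxy : x = y
        · exact ⟨1, by rw [one_smul, hxy]⟩
        · obtain ⟨g, hg, -⟩ := hc.move x y y x hxy (fun e => hxy e.symm)
          exact ⟨g, hg⟩⟩
      have h1 := (stabilizer G c).card_mul_index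
      rw [index_stabilizer_of_transitive, hn, hG] at h1
      rw [hP] at h7
      omega
    have hfix' : ∀ r ∈ R', r • z • c = z • c := fun r hr => by
      rw [smul_smul, ← mem_centralizer_iff.1 (map_subtype_le _ hr) z hz, mul_smul, hfix r hr]
    obtain ⟨g, h1, h2⟩ := hc.move c (z • c) a b (fun e => hzc e.symm) h.ne
    have hle : R'.map (MulAut.conj g).toMonoidHom ≤ pairStab G a b := by
      rintro _ ⟨r, hr, rfl⟩
      refine ⟨?_, ?_⟩
      · show (g * r * g⁻¹) • a = a
        rw [← h1, mul_smul, mul_smul, inv_smul_smul, hfix r hr]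
      · show (g * r * g⁻¹) • b = b
        rw [← h2, mul_smul, mul_smul, inv_smul_smul, hfix' r hr]
    have h12 := card_dvd_of_le hle
    rw [← Nat.card_congr (Subgroup.equivMapOfInjective _ _ (MulAut.conj g).injective).toEquiv, hR'c, h.card_D] at h12
    norm_num at h12
  -- the normaliser
  haveI : IsCyclic ↥(P : Subgroup G) := isCyclic_of_prime_card hP
  obtain ⟨j, hj6, hj⟩ : ∃ j, j ∣ 6 ∧ Nat.card ↥N = Nat.card ↥C * j := by
    refine ⟨(C.subgroupOf N).index, ?_, ?_⟩
    · have h1 := Subgroup.index_ker (P : Subgroup G).normalizerMonoidHom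
      rw [normalizerMonoidHom_ker] at h1
      have h2 := Subgroup.card_subgroup_dvd_card (P : Subgroup G).normalizerMonoidHom.range
      rw [IsCyclic.card_mulAut, hP, show Nat.totient 7 = 6 by decide, ← h1] at h2
      exact h2
    · rw [← (C.subgroupOf N).card_mul_index, Nat.card_congr (subgroupOfEquivOfLe hCN).toEquiv]
  have hPC : (P : Subgroup G) ≤ C := fun z hz => mem_centralizer_iff.2 fun z' hz' => by
    letI := IsCyclic.commGroup (α := ↥(P : Subgroup G))
    exact congrArg Subtype.val (mul_comm (⟨z', hz'⟩ : ↥(P : Subgroup G)) ⟨z, hz⟩)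
  have h7C := card_dvd_of_le hPC
  rw [hP] at h7C
  have hCG := Subgroup.card_subgroup_dvd_card C
  rw [hG] at hCG
  have hC63 : Nat.card ↥C ∣ 63 := by
    have h2 : Nat.Coprime (Nat.card ↥C) 16 := by
      rw [show (16 : ℕ) = 2 ^ 4 by norm_num]
      exact Nat.Coprime.pow_right 4 ((Nat.prime_two.coprime_iff_not_dvd.2 hCodd).symm)
    have h3 : Nat.card ↥C ∣ 567 := h2.dvd_of_dvd_mul_right (n := 16) (by norm_num; exact hCG)
    have h4 : Nat.card ↥C ≤ 567 := Nat.le_of_dvd (by norm_num) h3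
    obtain ⟨c, hc'⟩ := h7C
    rw [hc'] at h3 hC27 ⊢
    have h5 : c ∣ 81 := Nat.dvd_of_mul_dvd_mul_left (show 0 < 7 by norm_num) h3
    obtain ⟨i, hi, rfl⟩ := (Nat.dvd_prime_pow Nat.prime_three).1 (show c ∣ 3 ^ 4 by simpa using h5)
    interval_cases i <;> first | omega | norm_num at hC27 ⊢
  have hsyl := card_sylow_modEq_one 7 G
  have hn7 : Nat.card (Sylow 7 G) * Nat.card ↥N = 9072 := by
    rw [P.card_eq_index_normalizer, mul_comm, ← hG]
    exact N.card_mul_index
  rw [Nat.ModEq] at hsyl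
  have hC : Nat.card ↥C = 7 ∧ j = 1 := by
    obtain ⟨c, hc'⟩ := h7C
    rw [hc'] at hC63 hj
    have h5 : c ∣ 9 := Nat.dvd_of_mul_dvd_mul_left (show 0 < 7 by norm_num) hC63
    have h6 : c ≤ 9 := Nat.le_of_dvd (by norm_num) h5
    have hj7 : j ≤ 6 := Nat.le_of_dvd (by norm_num) hj6
    rw [hj] at hn7
    rw [hc']
    interval_cases j <;> interval_cases c <;> omega
  have hNC : N ≤ C := by
    have : C = N := Subgroup.eq_of_le_of_card_ge hCN (by rw [hj, hC.2, mul_one])
    exact this.ge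
  have hcomp := MonoidHom.ker_transferSylow_isComplement' P hNC
  set K := (MonoidHom.transferSylow P hNC).ker with hK
  have hKc := hcomp.card_mul
  rw [hP, hG] at hKc
  have hK1 : K ≠ ⊥ := fun e' => by rw [e', Subgroup.card_bot] at hKc; norm_num at hKc
  have htr := hc.transitive_of_normal K hK1
  have hsurj : Function.Surjective (fun k : ↥K => (k : G) • a) := fun c => by
    obtain ⟨k, hk, e'⟩ := htr a c
    exact ⟨⟨k, hk⟩, e'⟩
  haveI : IsPretransitive ↥K Ω := ⟨fun x y => by
    obtain ⟨k, hk, e'⟩ := htr x y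
    exact ⟨⟨k, hk⟩, e'⟩⟩
  have h28 := index_stabilizer_of_transitive ↥K a
  have h29 := (stabilizer ↥K a).card_mul_index
  rw [h28, hn] at h29
  omega

end Four

end Cfsg.Agent.Perm.TwoStab
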