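import Cfsg.Agent.Lib.Perm.TwoStab.Basic
import Cfsg.Agent.Lib.Invol.Bender.RegularLemmas

/-!
# Normal subgroups of doubly transitive groups

A regular normal subgroup of a doubly transitive group is elementary abelian; if a doubly transitive group has no
regular normal subgroup and a simple two-point stabiliser, every non-trivial normal subgroup contains that
stabiliser.
-/

set_option autoImplicit false
set_option linter.unusedSectionVars false
set_option linter.style.haveILetI false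

namespace Cfsg.Agent.Perm.TwoStab

open MulAction Subgroup

universe u₁ u₂

variable {G : Type u₁} [Group G] {Ω : Type u₂} [MulAction G Ω]

/-- A regular normal subgroup of a doubly transitive group is elementary abelian. -/
theorem regular_elem [Finite G] (h2 : ∀ c d c' d' : Ω, c ≠ d → c' ≠ d' → ∃ g : G, g • c = c' ∧ g • d = d')
    {a b : Ω} (hab : a ≠ b) (N : Subgroup G) (hN : N.Normal) (htr : ∀ x y : Ω, ∃ n ∈ N, n • x = y)
    (hreg : ∀ n ∈ N, ∀ x : Ω, n • x = x → n = 1) :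
    ∃ p k : ℕ, p.Prime ∧ 0 < k ∧ Nat.card Ω = p ^ k ∧ Nat.card ↥N = p ^ k ∧ (∀ x ∈ N, x ^ p = 1) ∧
      ∀ x ∈ N, ∀ y ∈ N, x * y = y * x := by
  have hconj : ∀ x ∈ N, ∀ y ∈ N, x ≠ 1 → y ≠ 1 → ∃ g : G, g * x * g⁻¹ = y := by
    intro x hx y hy hx1 hy1
    obtain ⟨g, h1, h3⟩ := h2 a (x • a) a (y • a) (fun e => hx1 (hreg x hx a e.symm)) fun e => hy1 (hreg y hy a e.symm)
    refine ⟨g, ?_⟩
    have h4 : (y⁻¹ * (g * x * g⁻¹)) • a = a := by
      rw [mul_smul, mul_smul, mul_smul, show g⁻¹ • a = a from inv_smul_eq_iff.2 h1.symm, h3, inv_smul_smul]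
    have h5 := hreg _ (N.mul_mem (N.inv_mem hy) (hN.conj_mem x hx g)) a h4
    rw [inv_mul_eq_one] at h5
    exact h5.symm
  have hcard : Nat.card ↥N = Nat.card Ω := Nat.card_eq_of_bijective (fun n : ↥N => (n : G) • a) ⟨fun n m e => by
    refine Subtype.ext ?_
    have h1 := hreg _ (N.mul_mem (N.inv_mem n.2) m.2) a (by rw [mul_smul, inv_smul_eq_iff]; exact e.symm)
    exact inv_mul_eq_one.1 h1, fun y => by
    obtain ⟨n, hn, e⟩ := htr a y
    exact ⟨⟨n, hn⟩, e⟩⟩
  have hfin : Finite Ω := Finite.of_surjective (fun n : ↥N => (n : G) • a) fun y => by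
    obtain ⟨n, hn, e⟩ := htr a y
    exact ⟨⟨n, hn⟩, e⟩
  have h1 : Nat.card ↥N ≠ 1 := by
    rw [hcard]
    haveI : Nontrivial Ω := ⟨a, b, hab⟩
    exact Finite.one_lt_card.ne'
  obtain ⟨p, hp, hpd⟩ := Nat.exists_prime_and_dvd h1
  haveI := Fact.mk hp
  obtain ⟨x₀, hx₀⟩ := exists_prime_orderOf_dvd_card' (G := ↥N) p hpd
  have hx₀1 : (x₀ : G) ≠ 1 := fun e => by
    rw [show x₀ = 1 from Subtype.ext e, orderOf_one] at hx₀
    exact hp.one_lt.ne hx₀
  have hpow : ∀ x ∈ N, x ^ p = 1 := by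
    intro x hx
    by_cases hx1 : x = 1
    · rw [hx1, one_pow]
    obtain ⟨g, rfl⟩ := hconj x₀ x₀.2 x hx hx₀1 hx1
    rw [conj_pow, ← hx₀, ← Subgroup.orderOf_coe, pow_orderOf_eq_one]
    group
  have hP : IsPGroup p ↥N := fun x => ⟨1, Subtype.ext (by simpa using hpow x x.2)⟩
  obtain ⟨k, hk⟩ := IsPGroup.iff_card.1 hP
  have hk0 : 0 < k := Nat.pos_of_ne_zero fun e => h1 (by rw [hk, e, pow_zero])
  haveI : Nontrivial ↥N := ⟨x₀, 1, fun e => hx₀1 (congrArg Subtype.val e)⟩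
  obtain ⟨z, hz, hz1⟩ := (Subgroup.nontrivial_iff_exists_ne_one _).1 hP.center_nontrivial
  refine ⟨p, k, hp, hk0, hcard ▸ hk, hk, hpow, fun x hx y hy => ?_⟩
  by_cases hx1 : x = 1
  · rw [hx1, one_mul, mul_one]
  obtain ⟨g, rfl⟩ := hconj z z.2 x hx (fun e => hz1 (Subtype.ext e)) hx1
  have hy' : g⁻¹ * y * g ∈ N := by simpa using hN.conj_mem y hy g⁻¹
  have := congrArg Subtype.val (mem_center_iff.1 hz ⟨_, hy'⟩)
  simp only [Subgroup.coe_mul] at this
  calc g * z * g⁻¹ * y = g * (z * (g⁻¹ * y * g)) * g⁻¹ := by group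
    _ = g * (g⁻¹ * y * g * z) * g⁻¹ := by rw [this]
    _ = _ := by group

/-- A normal transitive subgroup in which only the identity fixes two points yields a regular normal subgroup of
the whole group. -/
theorem exists_regular_normal [Finite G] {a : Ω} (N : Subgroup G) [N.Normal] (htr : ∀ x y : Ω, ∃ n ∈ N, n • x = y)
    (hfix : ∀ n ∈ N, n ≠ 1 → ∀ c d : Ω, n • c = c → n • d = d → c = d) :
    ∃ K : Subgroup G, K.Normal ∧ K ≤ N ∧ (∀ x y : Ω, ∃ n ∈ K, n • x = y) ∧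
      ∀ n ∈ K, ∀ x : Ω, n • x = x → n = 1 := by
  classical
  haveI : Finite Ω := Finite.of_surjective (fun n : ↥N => (n : G) • a) fun y => by
    obtain ⟨n, hn, e⟩ := htr a y
    exact ⟨⟨n, hn⟩, e⟩
  obtain ⟨R, hRn, hRt, hRf⟩ := Invol.Bender.exists_regular_of_frobenius (H := ↥N) (Φ := Ω)
    (fun x y => (htr x y).elim fun n hn => ⟨⟨n, hn.1⟩, hn.2⟩) a
    fun j hj hj1 x hx => hfix (j : G) j.2 (fun e => hj1 (Subtype.ext e)) x a hx (mem_stabilizer_iff.1 hj)
  -- an element without fixed points lies in the regular subgroup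
  have hfpf : ∀ n : ↥N, (∀ x : Ω, n • x ≠ x) → n ∈ R := by
    intro n hn
    obtain ⟨k, hk, hka⟩ := hRt a (n • a)
    set j : ↥N := k⁻¹ * n with hj
    have hja : j • a = a := by rw [hj, mul_smul, ← hka, inv_smul_smul]
    by_cases hj1 : j = 1
    · rw [hj, inv_mul_eq_one] at hj1
      exact hj1 ▸ hk
    exfalso
    let φ : ↥R → ↥R := fun r => ⟨r.1 * (j * r.1⁻¹ * j⁻¹), R.mul_mem r.2 (hRn.conj_mem _ (R.inv_mem r.2) j)⟩
    have hφ : Function.Injective φ := by
      intro r r' e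
      have e' : r.1 * (j * r.1⁻¹ * j⁻¹) = r'.1 * (j * r'.1⁻¹ * j⁻¹) := congrArg Subtype.val e
      set s : ↥N := r'.1⁻¹ * r.1 with hs
      have hcomm : s * j = j * s := by
        calc s * j = r'.1⁻¹ * (r.1 * (j * r.1⁻¹ * j⁻¹)) * j * r.1 := by rw [hs]; group
          _ = r'.1⁻¹ * (r'.1 * (j * r'.1⁻¹ * j⁻¹)) * j * r.1 := by rw [e']
          _ = j * s := by rw [hs]; group
      have hsR : s ∈ R := R.mul_mem (R.inv_mem r'.2) r.2
      have hsa : j • (s • a) = s • a := by rw [← mul_smul, ← hcomm, mul_smul, hja]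
      have h1 : s • a = a := hfix (j : G) j.2 (fun e => hj1 (Subtype.ext e)) _ _ hsa hja
      exact Subtype.ext (inv_mul_eq_one.1 (hRf s hsR a h1)).symm
    obtain ⟨r, hr⟩ := Finite.surjective_of_injective hφ ⟨k, hk⟩
    have hr' : r.1 * (j * r.1⁻¹ * j⁻¹) = k := congrArg Subtype.val hr
    apply hn (r.1 • a)
    rw [← mul_smul, show n = k * j from by rw [hj]; group, ← hr',
      show r.1 * (j * r.1⁻¹ * j⁻¹) * j * r.1 = r.1 * j by group, mul_smul, hja]
  refine ⟨R.map N.subtype, ⟨?_⟩, map_subtype_le R, fun x y => ?_, ?_⟩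
  · rintro _ ⟨r, hr, rfl⟩ g
    by_cases hr1 : (r : G) = 1
    · simp [hr1]
    refine ⟨⟨g * (r : G) * g⁻¹, (inferInstance : N.Normal).conj_mem _ r.2 g⟩, hfpf _ fun x e => ?_, rfl⟩
    refine hr1 (congrArg Subtype.val (hRf r hr (g⁻¹ • x) ?_))
    show (r : G) • g⁻¹ • x = g⁻¹ • x
    have e' : (g * (r : G) * g⁻¹) • x = x := e
    rw [mul_smul, mul_smul] at e'
    exact eq_inv_smul_iff.2 e'
  · obtain ⟨r, hr, e⟩ := hRt x y
    exact ⟨r, mem_map_of_mem _ hr, e⟩
  · rintro _ ⟨r, hr, rfl⟩ x e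
    rw [hRf r hr x e, map_one]

namespace Cfg

variable {a b : Ω} {u v : G} (h : Cfg G a b u v)
include h

theorem move (c d c' d' : Ω) (hcd : c ≠ d) (hcd' : c' ≠ d') : ∃ g : G, g • c = c' ∧ g • d = d' :=
  (is_two_pretransitive_iff.1 h.two) hcd hcd'

/-- A non-trivial normal subgroup is transitive. -/
theorem transitive_of_normal (N : Subgroup G) [N.Normal] (hN : N ≠ ⊥) : ∀ x y : Ω, ∃ n ∈ N, n • x = y := by
  have hmove : ∀ x : Ω, ∃ n ∈ N, n • x ≠ x := by
    obtain ⟨⟨n, hn⟩, hn1⟩ := (N.ne_bot_iff_exists_ne_one).1 hN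
    obtain ⟨c, hc⟩ : ∃ c : Ω, n • c ≠ c := by
      by_contra hall
      push Not at hall
      exact hn1 (Subtype.ext (h.faithful n hall))
    intro x
    by_cases hx : n • x = x
    · obtain ⟨e, he, he'⟩ : ∃ e : Ω, e ≠ x ∧ x ≠ e := by
        by_cases hax : a = x
        · exact ⟨b, fun e => h.ne (hax.trans e.symm), fun e => h.ne (hax.trans e)⟩
        · exact ⟨a, hax, fun e => hax e.symm⟩
      obtain ⟨g, hg1, -⟩ := h.move c (n • c) x e (fun e => hc e.symm) he'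
      refine ⟨g * n * g⁻¹, (inferInstance : N.Normal).conj_mem n hn g, ?_⟩
      rw [← hg1, mul_smul, mul_smul, inv_smul_smul]
      exact fun e => hc (smul_left_cancel g e)
    · exact ⟨n, hn, hx⟩
  intro x y
  by_cases hxy : x = y
  · exact ⟨1, one_mem _, by rw [one_smul, hxy]⟩
  obtain ⟨n, hn, hnx⟩ := hmove x
  obtain ⟨g, hg1, hg2⟩ := h.move x (n • x) x y (fun e => hnx e.symm) hxy
  refine ⟨g * n * g⁻¹, (inferInstance : N.Normal).conj_mem n hn g, ?_⟩
  rw [mul_smul, mul_smul, show g⁻¹ • x = x from inv_smul_eq_iff.2 hg1.symm, hg2]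

/-- Every non-trivial normal subgroup contains the two-point stabiliser. -/
theorem le_of_normal [Finite G] (hD : IsSimpleGroup ↥(pairStab G a b))
    (hnr : ∀ N : Subgroup G, N.Normal → IsPretransitive ↥N Ω → (∀ x : Ω, stabilizer ↥N x = ⊥) → False)
    (N : Subgroup G) [N.Normal] (hN : N ≠ ⊥) : pairStab G a b ≤ N := by
  haveI := hD
  rcases (inferInstance : (N.subgroupOf (pairStab G a b)).Normal).eq_bot_or_eq_top with e | e
  · exfalso
    have htr := h.transitive_of_normal N hN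
    obtain ⟨K, hK, -, hKt, hKf⟩ := exists_regular_normal (a := a) N htr fun n hn hn1 c d hc hd => by
      by_contra hcd
      obtain ⟨g, h1, h2⟩ := h.move c d a b hcd h.ne
      have hm : g * n * g⁻¹ ∈ pairStab G a b := by
        refine ⟨?_, ?_⟩
        · show (g * n * g⁻¹) • a = a
          rw [← h1, mul_smul, mul_smul, inv_smul_smul, hc]
        · show (g * n * g⁻¹) • b = b
          rw [← h2, mul_smul, mul_smul, inv_smul_smul, hd]
      have h3 : (⟨_, hm⟩ : ↥(pairStab G a b)) ∈ N.subgroupOf (pairStab G a b) :=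
        mem_subgroupOf.2 ((inferInstance : N.Normal).conj_mem n hn g)
      rw [e, mem_bot] at h3
      refine hn1 ?_
      have h4 : g * n * g⁻¹ = 1 := congrArg Subtype.val h3
      rwa [mul_inv_eq_one, mul_eq_left] at h4
    refine hnr K hK ⟨fun x y => (hKt x y).elim fun k hk => ⟨⟨k, hk.1⟩, hk.2⟩⟩ fun x => eq_bot_iff.2 fun k hk => ?_
    exact mem_bot.2 (Subtype.ext (hKf (k : G) k.2 x hk))
  · exact subgroupOf_eq_top.1 e

theorem centralizer_eq_bot [Finite G] (hD : IsSimpleGroup ↥(pairStab G a b))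
    (hnr : ∀ N : Subgroup G, N.Normal → IsPretransitive ↥N Ω → (∀ x : Ω, stabilizer ↥N x = ⊥) → False)
    (hnc : ∃ x ∈ pairStab G a b, ∃ y ∈ pairStab G a b, x * y ≠ y * x)
    (N : Subgroup G) [N.Normal] (hN : N ≠ ⊥) : centralizer (N : Set G) = ⊥ := by
  by_contra hC
  obtain ⟨x, hx, y, hy, hxy⟩ := hnc
  exact hxy ((mem_centralizer_iff.1 (h.le_of_normal hD hnr (centralizer (N : Set G)) hC hy)) x
    (h.le_of_normal hD hnr N hN hx))

theorem oddCard_eq_bot [Finite G] (hD : IsSimpleGroup ↥(pairStab G a b))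
    (hnr : ∀ N : Subgroup G, N.Normal → IsPretransitive ↥N Ω → (∀ x : Ω, stabilizer ↥N x = ⊥) → False)
    (N : Subgroup G) [N.Normal] (hodd : Odd (Nat.card ↥N)) : N = ⊥ := by
  by_contra hN
  have h1 : (2 : ℕ) ∣ Nat.card ↥N := by
    rw [← h.u_ord]
    exact Subgroup.orderOf_dvd_natCard N (h.le_of_normal hD hnr N hN h.u_mem)
  exact (Nat.not_even_iff_odd.2 hodd) (even_iff_two_dvd.2 h1)

end Cfg

end Cfsg.Agent.Perm.TwoStab
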