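import Cfsg.Agent.Lib.Perm.TwoStab.AltFive

/-!
# The properties of the two-point stabiliser shared by the alternating groups of degrees four and five
-/

set_option autoImplicit false
set_option linter.unusedSectionVars false
set_option linter.style.haveILetI false

namespace Cfsg.Agent.Perm.TwoStab

open MulAction Subgroup

universe u₁ u₂

variable {G : Type u₁} [Group G] {Ω : Type u₂} [MulAction G Ω] {a b : Ω} {u v : G}

/-- A stabiliser without centre and without sign character whose non-trivial normal subgroups contain `u`. -/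
structure Stab (G : Type u₁) [Group G] {Ω : Type u₂} [MulAction G Ω] (a b : Ω) (u v : G) : Prop
    extends Cfg G a b u v where
  center_triv : ∀ d ∈ pairStab G a b, (∀ d' ∈ pairStab G a b, d' * d = d * d') → d = 1
  no_sign : ∀ (χ : ↥(pairStab G a b) →* ℤˣ) (d : ↥(pairStab G a b)), χ d = 1
  normal_mem : ∀ N : Subgroup ↥(pairStab G a b), N.Normal → N ≠ ⊥ → ⟨u, u_mem⟩ ∈ N

theorem Five.toStab [Finite G] (h : Five G a b u v) : Stab G a b u v := by
  haveI := h.simple
  have hsign : ∀ (χ : ↥(pairStab G a b) →* ℤˣ) (d : ↥(pairStab G a b)), χ d = 1 := by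
    intro χ d
    rcases (inferInstance : χ.ker.Normal).eq_bot_or_eq_top with e | e
    · exfalso
      have h2 := Nat.card_le_card_of_injective χ ((MonoidHom.ker_eq_bot_iff χ).1 e)
      rw [h.card_D, Nat.card_eq_fintype_card, Fintype.card_units_int] at h2
      omega
    · exact MonoidHom.mem_ker.1 (e ▸ mem_top d)
  refine ⟨h.toCfg, fun d hd hcomm => ?_, hsign, fun N hN hN1 => ?_⟩
  · rcases (inferInstance : (center ↥(pairStab G a b)).Normal).eq_bot_or_eq_top with e | e
    · have hz : (⟨d, hd⟩ : ↥(pairStab G a b)) ∈ center ↥(pairStab G a b) :=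
        mem_center_iff.2 fun d' => Subtype.ext (hcomm d' d'.2)
      rw [e, mem_bot] at hz
      exact congrArg Subtype.val hz
    · obtain ⟨p, hp, q, hq, hpq⟩ := h.noncomm
      exact absurd (congrArg Subtype.val
        (mem_center_iff.1 (e ▸ mem_top (⟨q, hq⟩ : ↥(pairStab G a b))) ⟨p, hp⟩)) hpq
  · rw [hN.eq_bot_or_eq_top.resolve_left hN1]
    exact mem_top _

end Cfsg.Agent.Perm.TwoStab
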