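import Cfsg.Agent.Lib.Perm.TwoStab.TypeW
import Cfsg.Agent.Lib.Perm.TwoStab.Stab
import Cfsg.Agent.Lib.Invol.ZStar

/-!
# Odd degree, centralised interchanging involution: first reductions

If `w` fixes one point it is isolated, against Glauberman's theorem; hence `w` has two fixed points, and then `v` moves
a fixed point of `u`, since otherwise a conjugate of the stabiliser gives too many involutions with one fixed point.
-/

set_option autoImplicit false
set_option linter.unusedSectionVars false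
set_option linter.style.haveILetI false

namespace Cfsg.Agent.Perm.TwoStab

open MulAction Subgroup

universe u₁ u₂

variable {G : Type u₁} [Group G] {Ω : Type u₂} [MulAction G Ω] {a b : Ω} {u v w : G}

theorem exists_fix_of_odd [Finite Ω] {x : G} (hx : x * x = 1) (P : Set Ω) (hP : ∀ c ∈ P, x • c ∈ P)
    (hodd : Odd (Nat.card ↥P)) : ∃ c ∈ P, x • c = c := by
  classical
  haveI := Fintype.ofFinite ↥P
  haveI : Fact (Nat.Prime 2) := ⟨Nat.prime_two⟩
  let σ : Equiv.Perm ↥P :=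
    { toFun := fun c => ⟨x • (c : Ω), hP c c.2⟩
      invFun := fun c => ⟨x • (c : Ω), hP c c.2⟩
      left_inv := fun c => Subtype.ext (show x • x • (c : Ω) = c by rw [smul_smul, hx, one_smul])
      right_inv := fun c => Subtype.ext (show x • x • (c : Ω) = c by rw [smul_smul, hx, one_smul]) }
  have hσ : σ ^ 2 ^ 1 = 1 := Equiv.ext fun c => Subtype.ext (by
    show x • x • (c : Ω) = c; rw [smul_smul, hx, one_smul])
  obtain ⟨c, hc⟩ := Equiv.Perm.exists_fixed_point_of_prime (p := 2) (n := 1) (σ := σ) (by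
    rw [← Nat.card_eq_fintype_card]; exact fun h2 => (Nat.not_even_iff_odd.2 hodd) (even_iff_two_dvd.2 h2)) hσ
  exact ⟨c, c.2, congrArg Subtype.val hc⟩

/-- An invariant assignment of points to a class: all fibres have the same size. -/
theorem fiber_card [Finite G] {P : Set Ω} [Finite ↥P] {J : Set G} (φ : ↥J → ↥P)
    (hequiv : ∀ c d : ↥P, ∃ g : G, g • (c : Ω) = d ∧
      ∀ x : ↥J, φ x = c → ∃ hm : g * (x : G) * g⁻¹ ∈ J, φ ⟨_, hm⟩ = d) (c : ↥P) :
    Nat.card ↥P * Nat.card {x : ↥J // φ x = c} = Nat.card ↥J := by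
  classical
  haveI := Fintype.ofFinite ↥P
  have hall : ∀ d : ↥P, Nat.card {x : ↥J // φ x = d} = Nat.card {x : ↥J // φ x = c} := by
    have hle : ∀ c d : ↥P, Nat.card {x : ↥J // φ x = c} ≤ Nat.card {x : ↥J // φ x = d} := by
      intro c d
      obtain ⟨g, -, hg⟩ := hequiv c d
      refine Nat.card_le_card_of_injective (fun x => (⟨⟨_, (hg x.1 x.2).1⟩, (hg x.1 x.2).2⟩ : {x : ↥J // φ x = d}))
        fun x y e => Subtype.ext (Subtype.ext ?_)
      exact mul_left_cancel (mul_right_cancel (congrArg (fun z : {x : ↥J // φ x = d} => (z.1 : G)) e))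
    exact fun d => le_antisymm (hle d c) (hle c d)
  rw [← Nat.card_congr (Equiv.sigmaFiberEquiv φ), Nat.card_sigma, Finset.sum_congr rfl fun d _ => hall d,
    Finset.sum_const, smul_eq_mul, Finset.card_univ, ← Nat.card_eq_fintype_card]

namespace Swap

variable (hw : Swap a b w)
include hw

/-- In odd degree `w` is isolated unless it has two fixed points. -/
theorem odd_isolated [Finite G] [Finite Ω] (h : Cfg G a b u v) (hn : Odd (Nat.card Ω)) (hwc : w ∉ cls u) :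
    Cfsg.IsIsolatedInvolution w := by
  classical
  have hc := h
  have hwu : w * u ∈ cls u := by
    obtain ⟨g, hg1, hg2⟩ := hc.exists_conj_swap hc.u_ord
    have hy : g * u * g⁻¹ ∈ cls u := cls_conj g ⟨1, by simp⟩
    obtain ⟨hm, hsq⟩ := hw.mem_of_swap (hc.cls_sq hy) hg1
    have hne : w * (g * u * g⁻¹) ≠ 1 := fun e => hwc (by
      rw [show w = g * u * g⁻¹ by rw [← inv_eq_of_mul_eq_one_right e, inv_eq_of_mul_eq_one_right hw.sq]]
      exact hy)
    refine (hw.mul_mem_cls_iff hc hm (orderOf_two_iff.2 ⟨hsq, hne⟩)).1 ?_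
    rwa [← mul_assoc, hw.sq, one_mul]
  set W : Set G := {x | ∃ g : G, g * x * g⁻¹ = w} with hW
  have hwW : w ∈ W := ⟨1, by simp⟩
  have hWsq : ∀ x ∈ W, x * x = 1 := fun x ⟨g, e⟩ => by
    rw [show x = g⁻¹ * w * g by rw [← e]; group, show g⁻¹ * w * g * (g⁻¹ * w * g) = g⁻¹ * (w * w) * g by group, hw.sq]
    group
  have hWcls : ∀ x ∈ W, x ∉ cls u := fun x ⟨g, e⟩ hx => hwc (e ▸ cls_conj g hx)
  have hWord : ∀ x ∈ W, orderOf x = 2 := fun x ⟨g, e⟩ => by
    rw [← hw.ord hc, ← e, ← MulAut.conj_apply, MulEquiv.orderOf_eq]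
  have huniq : ∀ x ∈ W, ∀ c d : Ω, x • c = c → x • d = d → c = d := fun x hx c d h1 h2 => by
    by_contra hcd
    exact hWcls x hx (hc.mem_cls_of_fix (hWord x hx) hcd h1 h2)
  have hfix : ∀ x ∈ W, ∃ c : Ω, x • c = c := fun x hx => by
    obtain ⟨c, -, h1⟩ := exists_fix_of_odd (hWsq x hx) Set.univ (fun _ _ => trivial)
      (by rwa [Nat.card_congr (Equiv.Set.univ Ω)])
    exact ⟨c, h1⟩
  choose φ hφ using fun x : ↥W => hfix x x.2
  -- the size of the class
  have hcount := incidence (⊤ : Subgroup G) (a := a) (b := b) (offPairs (Set.univ : Set Ω))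
    (fun g _ p hp => ⟨fun e => hp.1 (smul_left_cancel g e), trivial, trivial⟩)
    (fun p hp => by
      obtain ⟨g, h1, h2⟩ := hc.pair_move hp.1
      exact ⟨g⁻¹, mem_top _, Prod.ext (inv_smul_eq_iff.2 h1.symm) (inv_smul_eq_iff.2 h2.symm)⟩)
    W (fun g _ x ⟨k, e⟩ => ⟨k * g⁻¹, by rw [← e]; group⟩) (fun x c d => x • c = d)
    (fun g _ x c d hx => by rw [mul_smul, mul_smul, inv_smul_smul, hx])
    (Nat.card Ω - 1) (fun x hx => by
      rw [card_swapped (hWsq x hx) Set.univ (fun c _ => trivial), Set.univ_inter, Nat.card_congr (Equiv.Set.univ Ω)]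
      congr 1
      rw [Nat.card_eq_one_iff_unique]
      exact ⟨⟨fun c d => Subtype.ext (huniq x hx c d c.2 d.2)⟩, ⟨⟨φ ⟨x, hx⟩, hφ ⟨x, hx⟩⟩⟩⟩)
  have hone : Nat.card {x : ↥W // (x : G) • a = b} = 1 := by
    rw [Nat.card_eq_one_iff_unique]
    refine ⟨⟨fun x y => ?_⟩, ⟨⟨⟨w, hwW⟩, hw.mapA⟩⟩⟩
    have key : ∀ z : {x : ↥W // (x : G) • a = b}, (z.1 : G) = w := fun z => by
      obtain ⟨hm, hsq⟩ := hw.mem_of_swap (hWsq _ z.1.2) z.2
      by_cases h0 : w * (z.1 : G) = 1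
      · rw [← inv_eq_of_mul_eq_one_right h0, inv_eq_of_mul_eq_one_right hw.sq]
      exfalso
      refine hWcls _ z.1.2 ?_
      have := (hw.mul_mem_cls_iff hc hm (orderOf_two_iff.2 ⟨hsq, h0⟩)).2 hwu
      rwa [← mul_assoc, hw.sq, one_mul] at this
    exact Subtype.ext (Subtype.ext ((key x).trans (key y).symm))
  rw [card_offPairs, Nat.card_congr (Equiv.Set.univ Ω), hone, mul_one] at hcount
  have hn2 : 2 ≤ Nat.card Ω := by
    haveI : Nontrivial Ω := ⟨a, b, h.ne⟩
    exact Finite.one_lt_card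
  have hWn : Nat.card ↥W = Nat.card Ω := Nat.eq_of_mul_eq_mul_right (by omega) hcount
  have hφsurj : Function.Surjective φ := by
    intro d
    have hself : ∃ g : G, g • φ ⟨w, hwW⟩ = d := by
      by_cases hcd : φ ⟨w, hwW⟩ = d
      · exact ⟨1, by rw [one_smul, hcd]⟩
      · obtain ⟨g, hg, -⟩ := hc.move _ d d _ hcd (fun e => hcd e.symm)
        exact ⟨g, hg⟩
    obtain ⟨g, hg⟩ := hself
    have hm : g * w * g⁻¹ ∈ W := ⟨g⁻¹, by group⟩
    refine ⟨⟨_, hm⟩, huniq _ hm _ _ (hφ ⟨_, hm⟩) ?_⟩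
    rw [← hg, mul_smul, mul_smul, inv_smul_smul, hφ ⟨w, hwW⟩]
  have hφinj : Function.Injective φ := by
    haveI : Finite ↥W := inferInstance
    exact ((Nat.bijective_iff_surjective_and_card φ).2 ⟨hφsurj, hWn⟩).1
  -- `w` is isolated
  have hiso : Cfsg.IsIsolatedInvolution w := by
    refine ⟨hw.ord hc, fun g hg => ?_⟩
    have hm : g * w * g⁻¹ ∈ W := ⟨g⁻¹, by group⟩
    have h1 : w • φ ⟨_, hm⟩ = φ ⟨_, hm⟩ := huniq _ hm _ _ (by
      rw [smul_smul, ← hg.eq, mul_smul, hφ ⟨_, hm⟩]) (hφ ⟨_, hm⟩)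
    exact congrArg Subtype.val (hφinj (huniq w hwW _ _ h1 (hφ ⟨w, hwW⟩)) : (⟨_, hm⟩ : ↥W) = ⟨w, hwW⟩)
  exact hiso

/-- In odd degree `w` has two fixed points. -/
theorem odd_w_mem [Finite G] [Finite Ω] (h : Five G a b u v) (hn : Odd (Nat.card Ω)) : w ∈ cls u := by
  classical
  by_contra hwc
  have hc := h.toCfg
  have hiso := hw.odd_isolated hc hn hwc
  obtain ⟨N, hN, hNodd, hNw⟩ := ZStar.exists_odd_normal hiso
  haveI := hN
  have hN1 := hc.oddCard_eq_bot h.simple h.nr N hNodd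
  have hcen : ∀ g : G, w * g = g * w := fun g => by
    have h1 := hNw g
    rw [hN1, mem_bot, mul_inv_eq_one, mul_inv_eq_iff_eq_mul] at h1
    exact h1
  haveI : (zpowers w).Normal := ⟨fun x hx g => by
    obtain ⟨i, rfl⟩ := Subgroup.mem_zpowers_iff.1 hx
    rw [← ((show Commute w g from hcen g).zpow_left i).eq, mul_inv_cancel_right]
    exact zpow_mem (mem_zpowers w) i⟩
  have h1 := h.le_of_normal (zpowers w) (zpowers_ne_bot.2 (hw.ne_one hc))
  have h2 := Subgroup.card_le_of_le h1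
  rw [h.card_D, Nat.card_zpowers, hw.ord hc] at h2
  omega

/-- Then `v` moves a fixed point of `u`. -/
theorem odd_moved [Finite G] [Finite Ω] (h : Stab G a b u v) (hn : Odd (Nat.card Ω)) (hwc : w ∈ cls u) :
    ∃ c ∈ Fx Ω u, v • c ≠ c := by
  classical
  by_contra hall
  push Not at hall
  have hc := h.toCfg
  obtain ⟨k, hk⟩ := hwc
  -- the conjugate of the stabiliser
  let θ : G → G := fun x => k * x * k⁻¹
  have hθmul : ∀ x y, θ (x * y) = θ x * θ y := fun x y => by show k * (x * y) * k⁻¹ = k * x * k⁻¹ * (k * y * k⁻¹); group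
  have hθu : ∀ d ∈ pairStab G a b, θ d * u = u * θ d := fun d hd => by
    calc θ d * u = θ d * θ w := by rw [show θ w = u from hk]
      _ = θ (d * w) := (hθmul _ _).symm
      _ = θ (w * d) := by rw [hw.comm d hd]
      _ = θ w * θ d := hθmul _ _
      _ = _ := by rw [show θ w = u from hk]
  have hpres : ∀ d ∈ pairStab G a b, θ d * v * (θ d)⁻¹ ∈ four u v := by
    intro d hd
    have hcu : θ d * u = u * θ d := hθu d hd
    have hfx : ∀ c : Ω, u • c = c → u • ((θ d)⁻¹ • c) = (θ d)⁻¹ • c := fun c hc' => by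
      rw [← mul_smul, ← ((show Commute (θ d) u from hcu).inv_left).eq, mul_smul, hc']
    refine hc.mem_four.2 (hc.cent _ ⟨?_, ?_⟩ ?_)
    · show (θ d * v * (θ d)⁻¹) • a = a
      rw [mul_smul, mul_smul, hall _ (hfx a hc.u_a), smul_inv_smul]
    · show (θ d * v * (θ d)⁻¹) • b = b
      rw [mul_smul, mul_smul, hall _ (hfx b hc.u_b), smul_inv_smul]
    · exact (((show Commute (θ d) u from hcu).mul_left (show Commute v u from hc.comm.symm)).mul_left
        (show Commute (θ d) u from hcu).inv_left).eq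
  -- it centralises the four group
  have hnotu : ∀ d ∈ pairStab G a b, θ d * v * (θ d)⁻¹ = v ∨ θ d * v * (θ d)⁻¹ = u * v := fun d hd => by
    rcases hc.mem_four.1 (hpres d hd) with e | e | e | e
    · exact absurd (by rwa [mul_inv_eq_one, mul_eq_left] at e) hc.v_ne
    · exfalso
      rw [mul_inv_eq_iff_eq_mul, ← hθu d hd] at e
      exact hc.ne_uv (mul_left_cancel e).symm
    · exact Or.inl e
    · exact Or.inr e
  have hθv : ∀ d ∈ pairStab G a b, θ d * v = v * θ d := by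
    let χ : ↥(pairStab G a b) →* ℤˣ := MonoidHom.mk' (fun d => if θ d * v * (θ d)⁻¹ = v then 1 else -1) fun d d' => by
      have hne : u * v ≠ v := fun e => hc.u_ne (mul_eq_right.1 e)
      have e0 : θ ((d : G) * (d' : G)) * v * (θ ((d : G) * (d' : G)))⁻¹ =
          θ d * (θ d' * v * (θ d')⁻¹) * (θ d)⁻¹ := by rw [hθmul]; group
      have e2 : θ d * (u * v) * (θ d)⁻¹ = u * (θ d * v * (θ d)⁻¹) := by
        rw [show θ d * (u * v) * (θ d)⁻¹ = θ d * u * v * (θ d)⁻¹ by group, hθu d d.2]; group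
      simp only [Subgroup.coe_mul, e0]
      rcases hnotu d d.2 with e | e <;> rcases hnotu d' d'.2 with e' | e' <;> rw [e']
      · simp [e]
      · rw [e2, e]; simp [hne]
      · simp [e, hne]
      · rw [e2, e, ← mul_assoc, hc.uu, one_mul]; simp [hne]
    intro d hd
    · have h1 : χ ⟨d, hd⟩ = 1 := h.no_sign χ ⟨d, hd⟩
      by_contra hne
      have hne' : ¬ θ d * v * (θ d)⁻¹ = v := fun e' => hne (mul_inv_eq_iff_eq_mul.1 e')
      simp [χ, hne'] at h1
  have hθinj : ∀ d ∈ pairStab G a b, θ d ∈ four u v → d = 1 := by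
    intro d hd hdV
    refine h.center_triv d hd fun d' hd' => ?_
    have h1 : θ d' * θ d = θ d * θ d' := by
      rcases hc.mem_four.1 hdV with e | e | e | e <;> rw [e]
      · rw [one_mul, mul_one]
      · exact hθu d' hd'
      · exact hθv d' hd'
      · rw [← mul_assoc, hθu d' hd', mul_assoc, hθv d' hd', mul_assoc]
    rw [← hθmul, ← hθmul] at h1
    exact mul_left_cancel (mul_right_cancel h1)
  -- the involutions centralising the four group and moving a common fixed point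
  set F : Set Ω := Fx Ω u ∩ Fx Ω v with hF
  have hFeq : F = Fx Ω u := Set.inter_eq_left.2 fun c hc' => hall c hc'
  have hFodd : Odd (Nat.card ↥F) := by
    rw [hFeq]
    refine Nat.not_even_iff_odd.1 fun heven => ?_
    have h1 : Nat.card ↥(Fx Ω u)ᶜ + Nat.card ↥(Fx Ω u) = Nat.card Ω := by
      simp only [Nat.card_coe_set_eq]
      rw [add_comm]
      exact Set.ncard_add_ncard_compl _
    obtain ⟨c, hc1, hc2⟩ := exists_fix_of_odd hc.uu (Fx Ω u)ᶜ
      (fun c hc1 hc2 => hc1 (smul_left_cancel u hc2)) (by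
        obtain ⟨n', hn'⟩ := hn
        obtain ⟨f', hf'⟩ := heven
        exact Nat.odd_iff.2 (by omega))
    exact hc1 hc2
  have hFu : ∀ x, (∀ y ∈ four u v, x * y = y * x) → ∀ c ∈ F, x • c ∈ F := fun x hx c hcF => by
    constructor
    · show u • x • c = x • c
      rw [← mul_smul, ← hx u (hc.mem_four.2 (by simp)), mul_smul, hcF.1]
    · show v • x • c = x • c
      rw [← mul_smul, ← hx v (hc.mem_four.2 (by simp)), mul_smul, hcF.2]
  set J : Set G := {x | (∀ y ∈ four u v, x * y = y * x) ∧ x * x = 1 ∧ x ∉ four u v} with hJ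
  have hcent : ∀ x, (∀ y ∈ four u v, x * y = y * x) → x • a = a → x • b = b → x ∈ four u v :=
    fun x hx h1 h2 => hc.mem_four.2 (hc.cent x ⟨h1, h2⟩ (hx u (hc.mem_four.2 (by simp))))
  -- conjugation by an element normalising the four group
  have hJconj : ∀ g : G, g * u * g⁻¹ = u → (∀ y ∈ four u v, g * y * g⁻¹ ∈ four u v) → ∀ x ∈ J, g * x * g⁻¹ ∈ J := by
    intro g hgu hg x hx
    haveI : Finite ↥(four u v) := inferInstance
    have hback : ∀ y ∈ four u v, g⁻¹ * y * g ∈ four u v := fun y hy => by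
      obtain ⟨⟨z, hz⟩, ez⟩ := Finite.surjective_of_injective (f := fun z : ↥(four u v) =>
        (⟨g * (z : G) * g⁻¹, hg z z.2⟩ : ↥(four u v))) (fun z z' e => Subtype.ext
          (mul_left_cancel (mul_right_cancel (congrArg Subtype.val e)))) ⟨y, hy⟩
      have e' : g * z * g⁻¹ = y := congrArg Subtype.val ez
      rw [← e', show g⁻¹ * (g * z * g⁻¹) * g = z by group]
      exact hz
    refine ⟨fun y hy => ?_, ?_, fun hm => hx.2.2 ?_⟩
    · have h1 := hx.1 _ (hback y hy)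
      calc g * x * g⁻¹ * y = g * (x * (g⁻¹ * y * g)) * g⁻¹ := by group
        _ = g * ((g⁻¹ * y * g) * x) * g⁻¹ := by rw [h1]
        _ = _ := by group
    · rw [show g * x * g⁻¹ * (g * x * g⁻¹) = g * (x * x) * g⁻¹ by group, hx.2.1]; group
    · simpa [mul_assoc] using hback _ hm
  have huniq : ∀ x ∈ J, ∀ c ∈ F, ∀ d ∈ F, x • c = c → x • d = d → c = d := by
    intro x hx c hcF d hdF h1 h2
    by_contra hcd
    obtain ⟨g, g1, g2, g3, g4⟩ := hc.norm_pairs hcd hcF hdF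
    have hm := hJconj g g3 g4 x hx
    exact hm.2.2 (hcent _ hm.1 (by rw [← g1, mul_smul, mul_smul, inv_smul_smul, h1])
      (by rw [← g2, mul_smul, mul_smul, inv_smul_smul, h2]))
  have hex : ∀ x : ↥J, ∃ c : ↥F, (x : G) • (c : Ω) = c := fun x => by
    obtain ⟨c, hcF, h1⟩ := exists_fix_of_odd x.2.2.1 F (hFu _ x.2.1) hFodd
    exact ⟨⟨c, hcF⟩, h1⟩
  choose φ hφ using hex
  -- each common fixed point is fixed by four of them
  have hswap4 : Nat.card {x : ↥J // (x : G) • a = b} = 4 := by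
    rw [← hc.card_four]
    refine Nat.card_congr
      { toFun := fun x => ⟨w * (x.1 : G), ?_⟩
        invFun := fun d => ⟨⟨w * (d : G), ?_, ?_, ?_⟩, ?_⟩
        left_inv := fun x => Subtype.ext (Subtype.ext (show w * (w * (x.1 : G)) = x.1 by rw [← mul_assoc, hw.sq, one_mul]))
        right_inv := fun d => Subtype.ext (show w * (w * (d : G)) = d by rw [← mul_assoc, hw.sq, one_mul]) }
    · obtain ⟨hm, -⟩ := hw.mem_of_swap x.1.2.2.1 x.2
      refine hcent _ (fun y hy => ?_) hm.1 hm.2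
      rw [mul_assoc, x.1.2.1 y hy, ← mul_assoc, hw.comm_four hc hy, mul_assoc]
    · intro y hy
      rw [mul_assoc, hc.four_comm d.2 hy, ← mul_assoc, hw.comm_four hc hy, mul_assoc]
    · exact hw.wu_sq hc d.2
    · intro hm
      have h1 := (hc.four_le hm).1
      have h2 : (w * (d : G)) • a = b := by rw [mul_smul, (hc.four_le d.2).1, hw.mapA]
      exact hc.ne (h1.symm.trans h2)
    · show (w * (d : G)) • a = b
      rw [mul_smul, (hc.four_le d.2).1, hw.mapA]
  set H₀ := centralizer ({u} : Set G) ⊓ normalizer (four u v : Set G) with hH₀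
  have hH₀' : ∀ g ∈ H₀, g * u * g⁻¹ = u ∧ ∀ y ∈ four u v, g * y * g⁻¹ ∈ four u v := fun g hg =>
    ⟨by rw [mem_centralizer_singleton_iff.1 hg.1]; group, fun y hy => (Subgroup.mem_normalizer_iff.1 hg.2 y).1 hy⟩
  have hmoveF : ∀ g : G, g * u * g⁻¹ = u → ∀ c ∈ F, g • c ∈ F := fun g hgu c hcF => by
    rw [hFeq]
    show u • g • c = g • c
    rw [← mul_smul, ← mul_inv_eq_iff_eq_mul.1 hgu, mul_smul, hcF.1]
  have hnormmem : ∀ g : G, g * u * g⁻¹ = u → (∀ y ∈ four u v, g * y * g⁻¹ ∈ four u v) → g ∈ H₀ := fun g h1 h4 => by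
    haveI : Finite ↥(four u v) := inferInstance
    refine ⟨mem_centralizer_singleton_iff.2 (mul_inv_eq_iff_eq_mul.1 h1), Subgroup.mem_normalizer_iff.2
      fun y => ⟨h4 y, fun hy => ?_⟩⟩
    obtain ⟨⟨z, hz⟩, ez⟩ := Finite.surjective_of_injective (f := fun z : ↥(four u v) =>
      (⟨g * (z : G) * g⁻¹, h4 z z.2⟩ : ↥(four u v))) (fun z z' e => Subtype.ext
        (mul_left_cancel (mul_right_cancel (congrArg Subtype.val e)))) ⟨_, hy⟩
    exact (mul_left_cancel (mul_right_cancel (congrArg Subtype.val ez)) : z = y) ▸ hz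
  have hJcard := incidence H₀ (a := a) (b := b) (offPairs F)
    (fun g hg p hp => ⟨fun e => hp.1 (smul_left_cancel g e), hmoveF g (hH₀' g hg).1 _ hp.2.1,
      hmoveF g (hH₀' g hg).1 _ hp.2.2⟩)
    (fun p hp => by
      obtain ⟨g, g1, g2, g3, g4⟩ := hc.norm_pairs hp.1 hp.2.1 hp.2.2
      exact ⟨g⁻¹, inv_mem (hnormmem g g3 g4), Prod.ext (inv_smul_eq_iff.2 g1.symm) (inv_smul_eq_iff.2 g2.symm)⟩)
    J (fun g hg x hx => hJconj g (hH₀' g hg).1 (hH₀' g hg).2 x hx) (fun x c d => x • c = d)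
    (fun g _ x c d hx => by rw [mul_smul, mul_smul, inv_smul_smul, hx])
    (Nat.card ↥F - 1) (fun x hx => by
      rw [card_swapped hx.2.1 F (hFu x hx.1)]
      congr 1
      rw [Nat.card_eq_one_iff_unique]
      exact ⟨⟨fun c d => Subtype.ext (huniq x hx c c.2.1 d d.2.1 c.2.2 d.2.2)⟩,
        ⟨⟨(φ ⟨x, hx⟩ : ↥F), (φ ⟨x, hx⟩).2, hφ ⟨x, hx⟩⟩⟩⟩)
  rw [card_offPairs, hswap4] at hJcard
  have hF2 : 2 ≤ Nat.card ↥F := hc.fx_v_ge
  have hJ4 : Nat.card ↥J = Nat.card ↥F * 4 := by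
    refine Nat.eq_of_mul_eq_mul_right (show 0 < Nat.card ↥F - 1 by omega) ?_
    rw [hJcard]; ring
  have hfib : ∀ c : ↥F, Nat.card {x : ↥J // φ x = c} = 4 := by
    intro c
    have h1 := fiber_card (P := F) φ (fun c d => ?_) c
    · rw [hJ4] at h1
      exact Nat.eq_of_mul_eq_mul_left (by omega) h1
    have hg : ∃ g : G, g • (c : Ω) = d ∧ g * u * g⁻¹ = u ∧ ∀ y ∈ four u v, g * y * g⁻¹ ∈ four u v := by
      by_cases hcd : c = d
      · exact ⟨1, by rw [one_smul, hcd], by group, fun y hy => by simpa using hy⟩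
      · obtain ⟨g1, a1, b1, u1, n1⟩ := hc.norm_pairs (fun e => hcd (Subtype.ext e)) c.2 d.2
        obtain ⟨g2, a2, b2, u2, n2⟩ := hc.norm_pairs (fun e => hcd (Subtype.ext e).symm) d.2 c.2
        have hm := H₀.mul_mem (H₀.inv_mem (hnormmem g2 u2 n2)) (hnormmem g1 u1 n1)
        exact ⟨g2⁻¹ * g1, by rw [mul_smul, a1, inv_smul_eq_iff, a2], (hH₀' _ hm).1, (hH₀' _ hm).2⟩
    obtain ⟨g, g1, g2, g3⟩ := hg
    refine ⟨g, g1, fun x hx => ⟨hJconj g g2 g3 x x.2, Subtype.ext ?_⟩⟩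
    refine huniq _ (hJconj g g2 g3 x x.2) _ (φ _).2 _ d.2 (hφ ⟨_, hJconj g g2 g3 x x.2⟩) ?_
    rw [← g1, mul_smul, mul_smul, inv_smul_smul, ← hx, hφ x]
  -- three of them in the conjugate stabiliser
  have hθsq : ∀ d ∈ four u v, θ d * θ d = 1 := fun d hd => by
    rw [← hθmul, hc.four_sq hd]; show k * 1 * k⁻¹ = 1; group
  have hθcomm : ∀ d ∈ pairStab G a b, ∀ y ∈ four u v, θ d * y = y * θ d := fun d hd y hy => by
    rcases hc.mem_four.1 hy with rfl | rfl | rfl | rfl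
    · rw [one_mul, mul_one]
    · exact hθu d hd
    · exact hθv d hd
    · rw [← mul_assoc, hθu d hd, mul_assoc, hθv d hd, mul_assoc]
  have hθJ : ∀ d ∈ four u v, d ≠ 1 → θ d ∈ J := fun d hd hd1 =>
    ⟨hθcomm d (hc.four_le hd), hθsq d hd, fun hm => hd1 (hθinj d (hc.four_le hd) hm)⟩
  have huV : u ∈ four u v := hc.mem_four.2 (by simp)
  have hvV : v ∈ four u v := hc.mem_four.2 (by simp)
  set x₁ : ↥J := ⟨θ u, hθJ u huV hc.u_ne⟩ with hx₁
  set x₂ : ↥J := ⟨θ v, hθJ v hvV hc.v_ne⟩ with hx₂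
  have hsame : φ x₂ = φ x₁ := by
    have h1 : θ u • (θ v • ((φ x₁ : ↥F) : Ω)) = θ v • ((φ x₁ : ↥F) : Ω) := by
      rw [smul_smul, show θ u * θ v = θ v * θ u by rw [← hθmul, hc.comm, hθmul], mul_smul]
      exact congrArg _ (hφ x₁)
    have h2 : θ v • ((φ x₁ : ↥F) : Ω) = φ x₁ :=
      huniq _ x₁.2 _ (hFu _ x₂.2.1 _ (φ x₁).2) _ (φ x₁).2 h1 (hφ x₁)
    exact Subtype.ext (huniq _ x₂.2 _ (φ x₂).2 _ (φ x₁).2 (hφ x₂) h2)
  have hJmul : ∀ x : ↥J, ∀ y ∈ four u v, (x : G) * y ∈ J ∧ ((x : G) * y) • ((φ x : ↥F) : Ω) = φ x := fun x y hy => by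
    refine ⟨⟨fun z hz => ?_, ?_, fun hm => x.2.2.2 ?_⟩, ?_⟩
    · rw [mul_assoc, hc.four_comm hy hz, ← mul_assoc, x.2.1 z hz, mul_assoc]
    · rw [show (x : G) * y * ((x : G) * y) = (x : G) * (y * x) * y by group, ← x.2.1 y hy,
        show (x : G) * ((x : G) * y) * y = (x : G) * x * (y * y) by group, x.2.2.1, hc.four_sq hy, mul_one]
    · have := mul_mem hm (inv_mem hy)
      rwa [mul_inv_cancel_right] at this
    · rw [mul_smul, hc.four_fix (φ x).2 hy, hφ x]
  have h5 : Nat.card (↥(four u v) × Bool) ≤ Nat.card {x : ↥J // φ x = φ x₁} := by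
    refine Nat.card_le_card_of_injective (fun q =>
      if q.2 then ⟨⟨_, (hJmul x₂ q.1 q.1.2).1⟩, Subtype.ext (huniq _ (hJmul x₂ q.1 q.1.2).1 _ (φ _).2 _ (φ x₁).2 (hφ ⟨_, (hJmul x₂ q.1 q.1.2).1⟩)
        (hsame ▸ (hJmul x₂ q.1 q.1.2).2))⟩
      else ⟨⟨_, (hJmul x₁ q.1 q.1.2).1⟩, Subtype.ext (huniq _ (hJmul x₁ q.1 q.1.2).1 _ (φ _).2 _ (φ x₁).2 (hφ ⟨_, (hJmul x₁ q.1 q.1.2).1⟩)
        (hJmul x₁ q.1 q.1.2).2)⟩) ?_
    have hsep : ∀ y y' : ↥(four u v), θ v * (y : G) ≠ θ u * (y' : G) := fun y y' e => by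
      refine hc.uv_ne (hθinj _ (mul_mem hc.u_mem hc.v_mem) ?_)
      rw [hθmul, show θ u * θ v = (y' : G) * (y : G)⁻¹ by
        rw [eq_mul_inv_iff_mul_eq, mul_assoc, e, ← mul_assoc, hθsq u huV, one_mul]]
      exact mul_mem y'.2 (inv_mem y.2)
    rintro ⟨y, i⟩ ⟨y', i'⟩ e
    have e' := congrArg (fun z : {x : ↥J // φ x = φ x₁} => (z.1 : G)) e
    cases i <;> cases i' <;>
      simp only [hx₁, hx₂, Bool.false_eq_true, if_false, if_true] at e'
    · exact Prod.ext (Subtype.ext (mul_left_cancel e')) rfl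
    · exact absurd e'.symm (hsep y' y)
    · exact absurd e' (hsep y y')
    · exact Prod.ext (Subtype.ext (mul_left_cancel e')) rfl
  rw [Nat.card_prod, hc.card_four, Nat.card_eq_fintype_card (α := Bool), Fintype.card_bool, hfib] at h5
  omega

end Swap

end Cfsg.Agent.Perm.TwoStab
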