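import Cfsg.Agent.Lib.Perm.TwoStab.FixAction
import Cfsg.Agent.Lib.Perm.TwoStab.LinOdd
import Cfsg.Agent.Lib.Invol.CyclicZ.Shape

/-!
# Semidihedral Sylow 2-subgroups: `u` fixes four points

A regular normal 2-subgroup on the fixed points has order at most four; a regular normal subgroup of odd order is
excluded by the action of the cyclic subgroup of index two.
-/

set_option autoImplicit false
set_option linter.unusedSectionVars false
set_option linter.style.haveILetI false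

namespace Cfsg.Agent.Perm.TwoStab

open MulAction Subgroup Invol

universe u₁ u₂

variable {G : Type u₁} [Group G] {Ω : Type u₂} [MulAction G Ω] {a b : Ω} {u v : G}

/-- In a semidihedral group a subgroup all of whose elements square into `⟨z⟩` has at most eight elements. -/
theorem qd_small_sq {S : Type*} [Group S] [Finite S] {n : ℕ} {x y : S} (h : QD S n x y) (R : Subgroup S)
    (hR : ∀ r ∈ R, r ^ 4 = 1) : Nat.card ↥R ≤ 8 := by
  have hK : Nat.card ↥(R ⊓ zpowers x : Subgroup S) ≤ 4 := by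
    haveI : IsCyclic ↥(R ⊓ zpowers x : Subgroup S) :=
      isCyclic_of_injective (inclusion (inf_le_right : R ⊓ zpowers x ≤ zpowers x)) (inclusion_injective _)
    obtain ⟨g, hg⟩ := IsCyclic.exists_generator (α := ↥(R ⊓ zpowers x : Subgroup S))
    rw [← orderOf_eq_card_of_forall_mem_zpowers hg]
    exact Nat.le_of_dvd (by norm_num) (orderOf_dvd_of_pow_eq_one (Subtype.ext (hR _ g.2.1)))
  have hidx : (zpowers x).relIndex R ≤ 2 := by
    haveI : (zpowers x).Normal := Subgroup.normal_of_index_eq_two h.index_zpowers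
    exact Nat.le_of_dvd two_pos (h.index_zpowers ▸ Subgroup.relIndex_dvd_index_of_normal _ _)
  have h1 : Nat.card ↥(R ⊓ zpowers x : Subgroup S) * (zpowers x).relIndex R = Nat.card ↥R := by
    rw [← Nat.card_congr (subgroupOfEquivOfLe (inf_le_left : R ⊓ zpowers x ≤ R)).toEquiv, ← inf_relIndex_right,
      inf_comm (zpowers x), relIndex]
    exact card_mul_index _
  calc Nat.card ↥R = _ := h1.symm
    _ ≤ 4 * 2 := Nat.mul_le_mul hK hidx
    _ = 8 := rfl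

namespace Cfg

variable (h : Cfg G a b u v)
include h

/-- The elements of `C(u)` normalising the four group: `g (g - 1)` is not divisible by four. -/
theorem not_four_dvd [Finite G] [Finite Ω] (hS : NoSwap a b u v) :
    ¬ 4 ∣ Nat.card ↥(Fx Ω u ∩ Fx Ω v) * (Nat.card ↥(Fx Ω u ∩ Fx Ω v) - 1) := by
  classical
  haveI : Fact (Nat.Prime 2) := ⟨Nat.prime_two⟩
  intro hdvd
  set M := centralizer ({u} : Set G) ⊓ normalizer (four u v : Set G) with hM
  have hVM : four u v ≤ M := fun x hx => ⟨mem_centralizer_singleton_iff.2 (h.four_comm hx (h.mem_four.2 (by simp))),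
    Subgroup.le_normalizer hx⟩
  have hMD : M ⊓ pairStab G a b = four u v := by
    refine le_antisymm (fun x hx => ?_) (le_inf hVM h.four_le)
    rw [← h.cent_inf]
    exact ⟨hx.1.1, hx.2⟩
  have hcard : Nat.card ↥M = 4 * (Nat.card ↥(Fx Ω u ∩ Fx Ω v) * (Nat.card ↥(Fx Ω u ∩ Fx Ω v) - 1)) := by
    rw [card_eq_pairs M (a := a) (b := b) (offPairs (Fx Ω u ∩ Fx Ω v))
      ⟨h.ne, ⟨h.u_a, h.v_a⟩, h.u_b, h.v_b⟩ (fun g hg => ?_) (fun p hp => ?_), hMD, h.card_four, card_offPairs,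
      mul_comm]
    · have hkeep : ∀ c ∈ Fx Ω u ∩ Fx Ω v, ∀ x ∈ four u v, x • g • c = g • c := fun c hc x hx => by
        have hx' : g⁻¹ * x * g ∈ four u v := by
          have := (Subgroup.mem_normalizer_iff.1 (inv_mem hg.2) x).1 hx
          simpa using this
        calc x • g • c = g • ((g⁻¹ * x * g) • c) := by rw [smul_smul, smul_smul]; group
          _ = _ := by rw [h.four_fix hc hx']
      exact ⟨fun e => h.ne (smul_left_cancel g e),
        ⟨hkeep a ⟨h.u_a, h.v_a⟩ u (h.mem_four.2 (by simp)), hkeep a ⟨h.u_a, h.v_a⟩ v (h.mem_four.2 (by simp))⟩,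
        hkeep b ⟨h.u_b, h.v_b⟩ u (h.mem_four.2 (by simp)), hkeep b ⟨h.u_b, h.v_b⟩ v (h.mem_four.2 (by simp))⟩
    · obtain ⟨g, h1, h2, h3, h4⟩ := h.norm_pairs hp.1 hp.2.1 hp.2.2
      refine ⟨g⁻¹, inv_mem ⟨mem_centralizer_singleton_iff.2 (mul_inv_eq_iff_eq_mul.1 h3), ?_⟩,
        Prod.ext (inv_smul_eq_iff.2 h1.symm) (inv_smul_eq_iff.2 h2.symm)⟩
      refine Subgroup.mem_normalizer_iff.2 fun x => ⟨h4 x, fun hx => ?_⟩
      haveI : Finite ↥(four u v) := inferInstance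
      obtain ⟨⟨z, hz⟩, ez⟩ := Finite.surjective_of_injective (f := fun z : ↥(four u v) =>
        (⟨g * (z : G) * g⁻¹, h4 z z.2⟩ : ↥(four u v))) (fun z z' e => Subtype.ext
          (mul_left_cancel (mul_right_cancel (congrArg Subtype.val e)))) ⟨_, hx⟩
      exact (mul_left_cancel (mul_right_cancel (congrArg Subtype.val ez)) : z = x) ▸ hz
  obtain ⟨P, hP⟩ := ((IsPGroup.of_card (G := ↥(four u v)) (p := 2) (n := 2) h.card_four).of_equiv
    (subgroupOfEquivOfLe hVM).symm).exists_le_sylow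
  have h16 : 16 ≤ Nat.card ↥(P : Subgroup ↥M) := by
    refine Nat.le_of_dvd Nat.card_pos (P.pow_dvd_card_of_pow_dvd_card (n := 4) ?_)
    rw [hcard]
    exact (mul_dvd_mul_left 4 hdvd : 4 * 4 ∣ _)
  have hkey : ∀ q : ↥(P : Subgroup ↥M), (((q : ↥M) : G) * v = v * ((q : ↥M) : G)) →
      ((q : ↥M) : G) ∈ four u v := fun q hq => by
    obtain ⟨k, hk⟩ := P.isPGroup' q
    refine h.mem_four_of_centralizes hS (k := k) (by simpa using congrArg (fun z : ↥(P : Subgroup ↥M) => ((z : ↥M) : G)) hk)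
      fun w hw => ?_
    have hu' : ((q : ↥M) : G) * u = u * ((q : ↥M) : G) := mem_centralizer_singleton_iff.1 (q : ↥M).2.1
    rcases h.mem_four.1 hw with rfl | rfl | rfl | rfl
    · rw [one_mul, mul_one]
    · exact hu'
    · exact hq
    · rw [← mul_assoc, hu', mul_assoc, hq, mul_assoc]
  have himg : ∀ q : ↥(P : Subgroup ↥M), ((q : ↥M) : G) * v * ((q : ↥M) : G)⁻¹ = v ∨
      ((q : ↥M) : G) * v * ((q : ↥M) : G)⁻¹ = u * v := fun q => by
    set g : G := ((q : ↥M) : G) with hg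
    have hu' : g * u = u * g := mem_centralizer_singleton_iff.1 (q : ↥M).2.1
    have hmem := (Subgroup.mem_normalizer_iff.1 (q : ↥M).2.2 v).1 (h.mem_four.2 (by simp) : v ∈ four u v)
    rcases h.mem_four.1 hmem with e | e | e | e
    · exact absurd (by rwa [mul_inv_eq_one, mul_eq_left] at e) h.v_ne
    · exfalso
      rw [mul_inv_eq_iff_eq_mul, ← hu'] at e
      exact h.ne_uv (mul_left_cancel e).symm
    · exact Or.inl e
    · exact Or.inr e
  by_cases hex : ∃ q₁ : ↥(P : Subgroup ↥M), ((q₁ : ↥M) : G) * v * ((q₁ : ↥M) : G)⁻¹ = u * v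
  swap
  · have h4 : Nat.card ↥(P : Subgroup ↥M) ≤ 4 := by
      rw [← h.card_four]
      refine Nat.card_le_card_of_injective (fun q => (⟨((q : ↥M) : G), hkey q (mul_inv_eq_iff_eq_mul.1
        ((himg q).resolve_right fun e => hex ⟨q, e⟩))⟩ : ↥(four u v))) fun q q' e => Subtype.ext (Subtype.ext
          (congrArg (fun z : ↥(four u v) => (z : G)) e))
    omega
  obtain ⟨q₁, hq₁⟩ := hex
  have hmap : ∀ q : ↥(P : Subgroup ↥M), ((q : ↥M) : G) * v * ((q : ↥M) : G)⁻¹ = u * v →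
      ((q₁⁻¹ * q : ↥(P : Subgroup ↥M)) : ↥M).1 * v = v * ((q₁⁻¹ * q : ↥(P : Subgroup ↥M)) : ↥M).1 := fun q hq => by
    show (((q₁ : ↥M) : G))⁻¹ * ((q : ↥M) : G) * v = v * ((((q₁ : ↥M) : G))⁻¹ * ((q : ↥M) : G))
    rw [mul_inv_eq_iff_eq_mul] at hq hq₁
    have e1 : (((q₁ : ↥M) : G))⁻¹ * (u * v) = v * (((q₁ : ↥M) : G))⁻¹ := by
      rw [eq_mul_inv_iff_mul_eq, mul_assoc, ← hq₁, inv_mul_cancel_left]
    rw [mul_assoc, hq, ← mul_assoc, e1, mul_assoc]
  let F : ↥(P : Subgroup ↥M) → ↥(four u v) × Bool := fun q =>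
    if hq : ((q : ↥M) : G) * v * ((q : ↥M) : G)⁻¹ = v then (⟨_, hkey q (mul_inv_eq_iff_eq_mul.1 hq)⟩, false)
    else (⟨_, hkey (q₁⁻¹ * q) (hmap q ((himg q).resolve_left hq))⟩, true)
  have hF : Function.Injective F := by
    intro q q' e
    by_cases hq : ((q : ↥M) : G) * v * ((q : ↥M) : G)⁻¹ = v <;>
      by_cases hq' : ((q' : ↥M) : G) * v * ((q' : ↥M) : G)⁻¹ = v <;>
      simp only [F, hq, hq', dite_true, dite_false, Prod.mk.injEq, Subtype.mk.injEq, Bool.false_eq_true,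
        Bool.true_eq_false, and_false, and_true] at e
    · exact Subtype.ext (Subtype.ext e)
    · exact mul_left_cancel (a := q₁⁻¹) (Subtype.ext (Subtype.ext e))
  have h8 := Nat.card_le_card_of_injective F hF
  rw [Nat.card_prod, h.card_four, Nat.card_eq_fintype_card (α := Bool), Fintype.card_bool] at h8
  omega

end Cfg

theorem pow_add_one_odd {p : ℕ} (hp : Odd p) : ∀ i : ℕ, ∃ o, Odd o ∧ p ^ (2 * i + 1) + 1 = (p + 1) * o := by
  intro i
  induction i with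
  | zero => exact ⟨1, odd_one, by simp⟩
  | succ i ih =>
    obtain ⟨o, ho, e⟩ := ih
    obtain ⟨q, rfl⟩ := hp
    set p' := 2 * q + 1 with hp'
    have h1 : p' ^ (2 * (i + 1) + 1) + 1 + (p' + 1) * (2 * q) = p' ^ 2 * (p' ^ (2 * i + 1) + 1) := by
      have e1 : p' ^ (2 * (i + 1) + 1) = p' ^ 2 * p' ^ (2 * i + 1) := by rw [← pow_add]; congr 1; ring
      rw [e1, hp']; ring
    rw [e] at h1
    have hge : 2 * q ≤ p' ^ 2 * o := by
      obtain ⟨o', rfl⟩ := ho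
      nlinarith
    refine ⟨p' ^ 2 * o - 2 * q, ?_, ?_⟩
    · exact Nat.Odd.sub_even hge ((Odd.pow ⟨q, rfl⟩).mul ho) (even_two_mul q)
    · rw [Nat.mul_sub]
      have : (p' + 1) * (p' ^ 2 * o) = p' ^ 2 * ((p' + 1) * o) := by ring
      omega

theorem Cfg.odd_regular_false [Finite G] [Finite Ω] (h : Cfg G a b u v) (hS : NoSwap a b u v)
    (hmv : ∃ c ∈ Fx Ω u, v • c ≠ c) (T : Sylow 2 G) {n : ℕ} {x y : ↥(T : Subgroup G)}
    (hQ : QD ↥(T : Subgroup G) n x y) (hu : ((x ^ (2 * qq n) : ↥(T : Subgroup G)) : G) = u)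
    (hT : four u v ≤ (T : Subgroup G)) (hTa : ∀ t : ↥(T : Subgroup G), (t : G) • a = a)
    (hTcard : ∃ o, Odd o ∧ Nat.card ↥(centralizer ({u} : Set G)) = Nat.card ↥(T : Subgroup G) * o)
    (R : Subgroup ↥(fixRep Ω u).range) (p k : ℕ) (hR : R.Normal) (hp : p.Prime) (hp2 : p ≠ 2)
    (hf : Nat.card ↥(Fx Ω u) = p ^ k) (hexp : ∀ r ∈ R, r ^ p = 1) (hcomm : ∀ r ∈ R, ∀ s ∈ R, r * s = s * r)
    (htr : ∀ c d : ↥(fixSub Ω u), ∃ n ∈ R, n • c = d)
    (hreg : ∀ n ∈ R, ∀ c : ↥(fixSub Ω u), n • c = c → n = 1) : False := by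
  classical
  haveI := Fact.mk hp
  set ρ := (fixRep Ω u).rangeRestrict with hρ
  have hTC : (T : Subgroup G) ≤ centralizer ({u} : Set G) := fun t ht => mem_centralizer_singleton_iff.2 (by
    rw [← hu]; exact congrArg Subtype.val (hQ.z_central ⟨t, ht⟩))
  let τ : ↥(T : Subgroup G) →* ↥(fixRep Ω u).range := ρ.comp (inclusion hTC)
  set a' : ↥(fixSub Ω u) := ⟨a, h.u_a⟩ with ha'
  have hτa : ∀ t, τ t • a' = a' := fun t => Subtype.ext (hTa t)
  have hτker : ∀ t : ↥(T : Subgroup G), τ t = 1 → t = 1 ∨ t = x ^ (2 * qq n) := fun t ht => by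
    rcases h.fix_kernel hmv (g := inclusion hTC t) ht with e | e
    · exact Or.inl (Subtype.ext e)
    · exact Or.inr (Subtype.ext (e.trans hu.symm))
  have hτu : τ (x ^ (2 * qq n)) = 1 := by
    show ρ (inclusion hTC (x ^ (2 * qq n))) = 1
    rw [show inclusion hTC (x ^ (2 * qq n)) = ⟨u, mem_centralizer_singleton_iff.2 rfl⟩ from Subtype.ext hu]
    exact h.fix_u
  -- powers of `x` fixing a second point
  have hsemi : ∀ i : ℤ, ∀ c : ↥(fixSub Ω u), c ≠ a' → τ (x ^ i) • c = c → x ^ i * x ^ i = 1 := by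
    intro i c hca hc
    have hc' : ((x ^ i : ↥(T : Subgroup G)) : G) • (c : Ω) = c := congrArg Subtype.val hc
    obtain ⟨g, hg, h1, h2⟩ := h.cent_u_pairs (fun e => hca (Subtype.ext e).symm : a ≠ (c : Ω)) h.u_a c.2
    have hcu : ((x ^ i : ↥(T : Subgroup G)) : G) * u = u * ((x ^ i : ↥(T : Subgroup G)) : G) :=
      mem_centralizer_singleton_iff.1 (hTC (x ^ i).2)
    have hm : g * ((x ^ i : ↥(T : Subgroup G)) : G) * g⁻¹ ∈ four u v := by
      refine h.mem_four.2 (h.cent _ ⟨?_, ?_⟩ ?_)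
      · show (g * _ * g⁻¹) • a = a
        rw [← h1, mul_smul, mul_smul, inv_smul_smul, hTa (x ^ i)]
      · show (g * _ * g⁻¹) • b = b
        rw [← h2, mul_smul, mul_smul, inv_smul_smul, hc']
      · exact mem_centralizer_singleton_iff.1 (mul_mem (mul_mem hg (hTC (x ^ i).2)) (inv_mem hg))
    have := h.four_sq hm
    refine Subtype.ext ?_
    rw [Subgroup.coe_mul, Subgroup.coe_one]
    calc ((x ^ i : ↥(T : Subgroup G)) : G) * _ = g⁻¹ * (g * ((x ^ i : ↥(T : Subgroup G)) : G) * g⁻¹ *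
          (g * ((x ^ i : ↥(T : Subgroup G)) : G) * g⁻¹)) * g := by group
      _ = 1 := by rw [this]; group
  -- the orders
  obtain ⟨o, ho, hCo⟩ := hTcard
  rw [h.card_cent, hQ.card] at hCo
  set g := Nat.card ↥(Fx Ω u ∩ Fx Ω v) with hg
  obtain ⟨n', hn'⟩ : ∃ n', n = n' + 3 := ⟨n - 3, by have := hQ.hn; omega⟩
  have hqq : qq n = ((2 ^ (n' + 1) : ℕ) : ℤ) := by
    rw [qq, hn', show n' + 3 - 2 = n' + 1 by omega]; push_cast; ring
  -- the element acting as minus one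
  set Z := τ (x ^ qq n) with hZ
  have hZfix : ∀ r ∈ R, Z * r * Z⁻¹ = r → r = 1 := fun r hr hZr => by
    by_contra hr1
    have hne : r • a' ≠ a' := fun e => hr1 (hreg r hr a' e)
    have hfix : Z • r • a' = r • a' := by
      rw [smul_smul, mul_inv_eq_iff_eq_mul.1 hZr, mul_smul, hτa]
    have h1 := hsemi (qq n) _ hne hfix
    rw [← zpow_add, hQ.zpow_eq_one] at h1
    have := Int.le_of_dvd (by linarith [hQ.qq_pos]) h1
    linarith [hQ.qq_pos]
  have hZ2 : Z * Z = 1 := by rw [hZ, ← map_mul, ← zpow_add, ← two_mul, hτu]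
  have hZinv : ∀ r ∈ R, Z * r * Z⁻¹ = r⁻¹ := fun r hr => by
    have hr' : Z * r * Z⁻¹ ∈ R := hR.conj_mem r hr Z
    have h1 := hZfix (r * (Z * r * Z⁻¹)) (R.mul_mem hr hr') (by
      calc Z * (r * (Z * r * Z⁻¹)) * Z⁻¹ = Z * r * Z⁻¹ * (Z * Z * r * (Z * Z)⁻¹) := by group
        _ = Z * r * Z⁻¹ * r := by rw [hZ2]; group
        _ = _ := hcomm _ hr' _ hr)
    exact (inv_eq_of_mul_eq_one_right h1).symm
  -- `v` and `v z'`
  obtain ⟨j, hj, ej⟩ := h.v_shape hQ hu hT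
  set w : ↥(T : Subgroup G) := x ^ j * y with hw
  set V' := τ w with hV'
  have hV2 : V' * V' = 1 := by
    rw [hV', ← map_mul, show w * w = 1 from Subtype.ext (by rw [Subgroup.coe_mul, ej, h.vv]; rfl), map_one]
  have hgV : Nat.card {r : ↥R // V' * (r : ↥(fixRep Ω u).range) * V'⁻¹ = r} = g := by
    rw [card_comm_eq_fixed R hR htr hreg (hτa w), hg]
    exact Nat.card_congr
      { toFun := fun c => ⟨(c.1 : Ω), c.1.2, show v • (c.1 : Ω) = c.1 by
          have hc : ((w : ↥(T : Subgroup G)) : G) • (c.1 : Ω) = c.1 := congrArg Subtype.val c.2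
          rwa [ej] at hc⟩
        invFun := fun c => ⟨⟨(c : Ω), c.2.1⟩, Subtype.ext (show ((w : ↥(T : Subgroup G)) : G) • (c : Ω) = c by
          rw [ej]; exact c.2.2)⟩
        left_inv := fun c => rfl
        right_inv := fun c => rfl }
  obtain ⟨m, hm⟩ : ∃ m : ℤ, x ^ m * w * (x ^ m)⁻¹ = w * x ^ qq n := by
    obtain ⟨r, hr⟩ := hQ.qq_even
    rw [hw, show x ^ j * y * x ^ qq n = x ^ (j + qq n * (2 * qq n - 1)) * y by
      rw [mul_assoc, hQ.y_mul_zpow, ← mul_assoc, ← zpow_add]]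
    exact hQ.conj_mul_y ⟨r * (2 * qq n - 1), by rw [hr]; ring⟩
  set K := τ (x ^ m) with hK
  have hKV : K * V' * K⁻¹ = V' * Z := by rw [hK, hV', hZ, ← map_inv, ← map_mul, ← map_mul, hm, map_mul]
  have hgI : Nat.card {r : ↥R // V' * (r : ↥(fixRep Ω u).range) * V'⁻¹ = (r : ↥(fixRep Ω u).range)⁻¹} = g := by
    rw [← hgV]
    have hiff : ∀ r : ↥R, V' * (r : ↥(fixRep Ω u).range) * V'⁻¹ = (r : ↥(fixRep Ω u).range)⁻¹ ↔ V' * Z * (r : ↥(fixRep Ω u).range) * (V' * Z)⁻¹ = r := fun r => by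
      rw [show V' * Z * (r : ↥(fixRep Ω u).range) * (V' * Z)⁻¹ = V' * (Z * r * Z⁻¹) * V'⁻¹ by group, hZinv r r.2,
        show V' * (r : ↥(fixRep Ω u).range)⁻¹ * V'⁻¹ = (V' * r * V'⁻¹)⁻¹ by group, inv_eq_iff_eq_inv]
    refine Nat.card_congr
      { toFun := fun r => ⟨⟨K⁻¹ * (r.1 : ↥(fixRep Ω u).range) * K⁻¹⁻¹, hR.conj_mem _ r.1.2 _⟩, ?_⟩
        invFun := fun r => ⟨⟨K * (r.1 : ↥(fixRep Ω u).range) * K⁻¹, hR.conj_mem _ r.1.2 _⟩, ?_⟩
        left_inv := fun r => Subtype.ext (Subtype.ext (show K * (K⁻¹ * (r.1 : ↥(fixRep Ω u).range) * K⁻¹⁻¹) * K⁻¹ = r.1 by group))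
        right_inv := fun r => Subtype.ext (Subtype.ext (show K⁻¹ * (K * (r.1 : ↥(fixRep Ω u).range) * K⁻¹) * K⁻¹⁻¹ = r.1 by group)) }
    · have h1 := (hiff r.1).1 r.2
      rw [← hKV] at h1
      calc V' * (K⁻¹ * (r.1 : ↥(fixRep Ω u).range) * K⁻¹⁻¹) * V'⁻¹
          = K⁻¹ * (K * V' * K⁻¹ * r.1 * (K * V' * K⁻¹)⁻¹) * K := by group
        _ = K⁻¹ * (r.1 : ↥(fixRep Ω u).range) * K := by rw [h1]
        _ = _ := by show _ = K⁻¹ * (r.1 : ↥(fixRep Ω u).range) * K⁻¹⁻¹; rw [inv_inv]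
    · refine (hiff _).2 ?_
      show V' * Z * (K * (r.1 : ↥(fixRep Ω u).range) * K⁻¹) * (V' * Z)⁻¹ = K * (r.1 : ↥(fixRep Ω u).range) * K⁻¹
      rw [← hKV]
      calc K * V' * K⁻¹ * (K * (r.1 : ↥(fixRep Ω u).range) * K⁻¹) * (K * V' * K⁻¹)⁻¹ = K * (V' * r.1 * V'⁻¹) * K⁻¹ := by group
        _ = _ := by rw [r.2]
  have hRf : Nat.card ↥R = Nat.card ↥(Fx Ω u) := Nat.card_eq_of_bijective (fun r : ↥R => (r : ↥(fixRep Ω u).range) • a') ⟨fun r r' e => by
      exact Subtype.ext (inv_mul_eq_one.1 (hreg _ (R.mul_mem (R.inv_mem r.2) r'.2) a'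
        (by rw [mul_smul, inv_smul_eq_iff]; exact e.symm))), fun c => (htr a' c).elim fun r hr => ⟨⟨r, hr.1⟩, hr.2⟩⟩
  have hpodd : Odd p := hp.odd_of_ne_two hp2
  have hsq_eq : ∀ r ∈ R, r = r⁻¹ → r = 1 := fun r hr e => by
    have h2 : r ^ 2 = 1 := by rw [pow_two]; nth_rewrite 2 [e]; rw [mul_inv_cancel]
    have := orderOf_dvd_of_pow_eq_one h2
    have h3 := Nat.dvd_gcd this (orderOf_dvd_of_pow_eq_one (hexp r hr))
    rw [(Nat.coprime_primes Nat.prime_two hp).2 hp2.symm, Nat.dvd_one, orderOf_eq_one_iff] at h3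
    exact h3
  have hprodcard : g * g = Nat.card ↥(Fx Ω u) := by
    rw [← hRf]
    nth_rewrite 1 [← hgV]
    rw [← hgI, ← Nat.card_prod]
    refine Nat.card_eq_of_bijective (fun q => q.1.1 * q.2.1) ⟨fun q q' e => ?_, fun r => ?_⟩
    · obtain ⟨⟨c, hc⟩, ⟨i, hi⟩⟩ := q
      obtain ⟨⟨c', hc'⟩, ⟨i', hi'⟩⟩ := q'
      have e' : (c : ↥(fixRep Ω u).range) * i = c' * i' := congrArg Subtype.val e
      have hd : (c' : ↥(fixRep Ω u).range)⁻¹ * c = i' * (i : ↥(fixRep Ω u).range)⁻¹ := by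
        rw [eq_mul_inv_iff_mul_eq, mul_assoc, e', inv_mul_cancel_left]
      have hd1 : (c' : ↥(fixRep Ω u).range)⁻¹ * c = 1 := hsq_eq _ (R.mul_mem (R.inv_mem c'.2) c.2) (by
        have h1 : V' * ((c' : ↥(fixRep Ω u).range)⁻¹ * c) * V'⁻¹ = (c' : ↥(fixRep Ω u).range)⁻¹ * c := by
          calc V' * ((c' : ↥(fixRep Ω u).range)⁻¹ * c) * V'⁻¹ = (V' * c' * V'⁻¹)⁻¹ * (V' * c * V'⁻¹) := by group
            _ = _ := by rw [hc, hc']
        have h2 : V' * ((c' : ↥(fixRep Ω u).range)⁻¹ * c) * V'⁻¹ = ((c' : ↥(fixRep Ω u).range)⁻¹ * c)⁻¹ := by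
          rw [hd]
          calc V' * ((i' : ↥(fixRep Ω u).range) * (i : ↥(fixRep Ω u).range)⁻¹) * V'⁻¹ = (V' * i' * V'⁻¹) * (V' * i * V'⁻¹)⁻¹ := by group
            _ = (i' : ↥(fixRep Ω u).range)⁻¹ * (i : ↥(fixRep Ω u).range) := by rw [hi, hi', inv_inv]
            _ = (i : ↥(fixRep Ω u).range) * (i' : ↥(fixRep Ω u).range)⁻¹ := hcomm _ (R.inv_mem i'.2) _ i.2
            _ = _ := by group
        exact h1.symm.trans h2)
      rw [inv_mul_eq_one] at hd1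
      refine Prod.ext (Subtype.ext (Subtype.ext hd1.symm)) (Subtype.ext (Subtype.ext ?_))
      exact mul_left_cancel (a := (c : ↥(fixRep Ω u).range)) (by rw [e', hd1])
    · obtain ⟨s, hs⟩ := hpodd
      set r₀ : ↥(fixRep Ω u).range := (r : ↥(fixRep Ω u).range) with hr₀
      set r₁ : ↥(fixRep Ω u).range := V' * r₀ * V'⁻¹ with hr₁
      have hr₁R : r₁ ∈ R := hR.conj_mem _ r.2 _
      set c := (r₀ * r₁) ^ (s + 1) with hc
      have hcR : c ∈ R := R.pow_mem (R.mul_mem r.2 hr₁R) _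
      have hV1 : V' * r₁ * V'⁻¹ = r₀ := by
        rw [hr₁, show V' * (V' * r₀ * V'⁻¹) * V'⁻¹ = V' * V' * r₀ * (V' * V')⁻¹ by group, hV2]; group
      have hcV : V' * c * V'⁻¹ = c := by
        rw [hc, ← conj_pow, show V' * (r₀ * r₁) * V'⁻¹ = V' * r₀ * V'⁻¹ * (V' * r₁ * V'⁻¹) by group, ← hr₁, hV1,
          hcomm _ hr₁R _ r.2]
      have hc2 : c * c = r₀ * r₁ := by
        rw [hc, ← pow_add, show s + 1 + (s + 1) = p + 1 by omega, pow_succ, hexp _ (R.mul_mem r.2 hr₁R), one_mul]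
      refine ⟨⟨⟨⟨c, hcR⟩, hcV⟩, ⟨⟨c⁻¹ * r₀, R.mul_mem (R.inv_mem hcR) r.2⟩, ?_⟩⟩, Subtype.ext ?_⟩
      · show V' * (c⁻¹ * r₀) * V'⁻¹ = (c⁻¹ * r₀)⁻¹
        rw [show V' * (c⁻¹ * r₀) * V'⁻¹ = (V' * c * V'⁻¹)⁻¹ * (V' * r₀ * V'⁻¹) by group, hcV, ← hr₁, mul_inv_rev,
          inv_inv, show r₁ = r₀⁻¹ * (c * c) by rw [hc2, inv_mul_cancel_left],
          hcomm _ (R.inv_mem r.2) _ (R.mul_mem hcR hcR)]
        rw [← mul_assoc, inv_mul_cancel_left, hcomm _ hcR _ (R.inv_mem r.2)]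
      · show c * (c⁻¹ * r₀) = r₀
        rw [mul_inv_cancel_left]
  have hge2 : 2 ≤ g := h.fx_v_ge
  have hgodd : Odd g := Nat.Odd.of_mul_left (hprodcard ▸ hf ▸ hpodd.pow)
  have hg4 : g % 4 = 3 := by
    have := h.not_four_dvd hS
    rw [← hg] at this
    obtain ⟨t, ht⟩ := hgodd
    by_contra hne
    exact this (Dvd.dvd.mul_left ⟨t / 2, by omega⟩ _)
  -- `g = p ^ r` with `r` odd and `p ≡ 3 (mod 4)`
  obtain ⟨r, -, hgr⟩ := (Nat.dvd_prime_pow hp).1 (Dvd.intro g (hprodcard.trans hf) : g ∣ p ^ k)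
  have hpr : p % 4 = 3 ∧ Odd r := by
    rcases (show p % 4 = 1 ∨ p % 4 = 3 by obtain ⟨q, hq⟩ := hpodd; omega) with h1 | h1
    · rw [hgr, Nat.pow_mod, h1] at hg4; simp at hg4
    refine ⟨h1, Nat.not_even_iff_odd.1 fun ⟨i, hi⟩ => ?_⟩
    rw [hgr, hi, ← two_mul, pow_mul, Nat.pow_mod, show p ^ 2 % 4 = 1 by rw [Nat.pow_mod, h1]] at hg4
    simp at hg4
  obtain ⟨hp4, i, rfl⟩ := hpr
  obtain ⟨o₁, ho₁, e₁⟩ := pow_add_one_odd hpodd i
  rw [← hgr] at e₁
  rw [← hprodcard] at hCo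
  -- two-parts: `qq n` is the two-part of `p + 1`
  obtain ⟨t, ht⟩ : ∃ t, g = 2 * (2 * t + 1) + 1 := ⟨g / 4, by omega⟩
  have hgm : g * g - 1 = (g - 1) * (g + 1) := by
    rw [mul_comm (g - 1), ← Nat.sq_sub_sq, one_pow, pow_two]
  have hmain : (p + 1) * (o₁ * (g * g) * (2 * t + 1)) = 2 ^ (n' + 1) * o := by
    have h1 : 8 * ((p + 1) * (o₁ * (g * g) * (2 * t + 1))) = 2 ^ (n + 1) * o := by
      rw [← hCo, hgm, e₁, show g - 1 = 2 * (2 * t + 1) by omega]; ring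
    rw [hn', show n' + 3 + 1 = 3 + (n' + 1) by omega, pow_add, mul_assoc, show (2 : ℕ) ^ 3 = 8 from rfl] at h1
    exact Nat.eq_of_mul_eq_mul_left (by norm_num : 0 < 8) (by simp only [mul_assoc] at h1 ⊢; exact h1)
  obtain ⟨α, β, hβ, hp1⟩ := Nat.exists_eq_two_pow_mul_odd (show p + 1 ≠ 0 by omega)
  have hα : 2 ^ α = 2 ^ (n' + 1) := CyclicZ.two_pow_part
    (u := β * (o₁ * (g * g) * (2 * t + 1))) (hβ.mul ((ho₁.mul (hgodd.mul hgodd)).mul ⟨t, rfl⟩)) ho
    (by rw [← mul_assoc, ← hp1, hmain])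
  rw [hα] at hp1
  have hn4 : 1 ≤ n' := by
    by_contra hlt
    rw [show n' = 0 by omega] at hp1
    obtain ⟨β', rfl⟩ := hβ
    omega
  -- the linear action
  letI : CommGroup ↥R := { (inferInstance : Group ↥R) with mul_comm := fun r s => Subtype.ext (hcomm r r.2 s s.2) }
  haveI : R.Normal := hR
  let Γ : ↥(fixRep Ω u).range →* AddMonoid.End (Additive ↥R) :=
    { toFun := fun q => MonoidHom.toAdditive (MulAut.conjNormal (H := R) q).toMonoidHom
      map_one' := AddMonoidHom.ext fun r => Additive.toMul.injective (Subtype.ext (by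
        show (1 : ↥(fixRep Ω u).range) * ((Additive.toMul r : ↥R) : ↥(fixRep Ω u).range) * (1 : ↥(fixRep Ω u).range)⁻¹ = _; rw [inv_one, mul_one, one_mul]; rfl))
      map_mul' := fun q q' => AddMonoidHom.ext fun r => Additive.toMul.injective (Subtype.ext (by
        show q * q' * ((Additive.toMul r : ↥R) : ↥(fixRep Ω u).range) * (q * q')⁻¹ =
          q * (q' * ((Additive.toMul r : ↥R) : ↥(fixRep Ω u).range) * q'⁻¹) * q⁻¹
        group)) }
  have hΓ : ∀ (q : ↥(fixRep Ω u).range) (r : Additive ↥R),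
      ((Additive.toMul (Γ q r) : ↥R) : ↥(fixRep Ω u).range) = q * ((Additive.toMul r : ↥R) : ↥(fixRep Ω u).range) * q⁻¹ := fun q r => rfl
  have hΓZ : Γ Z = -1 := AddMonoidHom.ext fun r => Additive.toMul.injective (Subtype.ext (by
    exact (hΓ Z r).trans (hZinv _ (Additive.toMul r).2)))
  have hxp : (Γ (τ x)) ^ (p + 1) = -1 := by
    rw [← map_pow, ← map_pow, hp1, pow_mul,
      show x ^ (2 ^ (n' + 1)) = x ^ qq n by rw [hqq, zpow_natCast], map_pow, map_pow, ← hZ, hΓZ, ]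
    obtain ⟨i', rfl⟩ := hβ
    rw [pow_succ, pow_mul, show (-1 : AddMonoid.End (Additive ↥R)) ^ 2 = 1 by rw [pow_two]; exact AddMonoidHom.ext fun m => neg_neg m,
      one_pow, one_mul]
  have hinv : Γ V' * Γ (τ x) * Γ V' * Γ (τ x) = 1 := by
    rw [hV', ← map_mul, ← map_mul, ← map_mul, ← map_mul, ← map_mul, ← map_mul]
    have h1 : w * x * w * x = x ^ (2 * qq n) := by
      have hww : w * w = 1 := Subtype.ext (by rw [Subgroup.coe_mul, ej, h.vv]; rfl)
      have h2 : w * x * w⁻¹ = x ^ (2 * qq n - 1) := by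
        have h3 := hQ.conj_zpow 1
        rw [zpow_one, one_mul] at h3
        rw [hw, show x ^ j * y * x * (x ^ j * y)⁻¹ = x ^ j * (y * x * y⁻¹) * (x ^ j)⁻¹ by group, h3,
          ((Commute.refl x).zpow_zpow j (2 * qq n - 1)).eq, mul_inv_cancel_right]
      rw [inv_eq_of_mul_eq_one_right hww] at h2
      rw [h2, ← zpow_add_one]; congr 1; ring
    rw [h1, hτu, map_one]
  have hfree : ∀ r : Additive ↥R, Γ (τ x) (Γ (τ x) r) = -r → r = 0 := by
    intro r hr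
    by_contra hr0
    set r₀ : ↥(fixRep Ω u).range := ((Additive.toMul r : ↥R) : ↥(fixRep Ω u).range) with hr₀
    have hr₀1 : r₀ ≠ 1 := fun e => hr0 (Additive.toMul.injective (Subtype.ext e))
    have h1 : τ x * (τ x * r₀ * (τ x)⁻¹) * (τ x)⁻¹ = Z * r₀ * Z⁻¹ := by
      rw [hZinv _ (Additive.toMul r).2]
      have := congrArg (fun z : Additive ↥R => ((Additive.toMul z : ↥R) : ↥(fixRep Ω u).range)) hr
      simp only [hΓ] at this
      exact this
    set e : ↥(fixRep Ω u).range := τ (x ^ (qq n - 2)) with he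
    have he' : e = (τ x)⁻¹ * (τ x)⁻¹ * Z := by
      rw [he, hZ, ← map_inv, ← map_mul, ← map_mul, show x ^ (qq n - 2) = x⁻¹ * x⁻¹ * x ^ qq n by group]
    have hfix : e * r₀ * e⁻¹ = r₀ := by
      rw [he', show (τ x)⁻¹ * (τ x)⁻¹ * Z * r₀ * ((τ x)⁻¹ * (τ x)⁻¹ * Z)⁻¹ =
        (τ x)⁻¹ * ((τ x)⁻¹ * (Z * r₀ * Z⁻¹) * τ x) * τ x by simp [mul_inv_rev, mul_assoc], ← h1]
      group
    have hne : r₀ • a' ≠ a' := fun e' => hr₀1 (hreg r₀ (Additive.toMul r).2 a' e')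
    have h3 := hsemi (qq n - 2) _ hne (by
      rw [← he, smul_smul, mul_inv_eq_iff_eq_mul.1 hfix, mul_smul, he, hτa])
    rw [← zpow_add, hQ.zpow_eq_one] at h3
    have h4 : (4 : ℤ) ≤ qq n := by
      rw [hqq]; exact_mod_cast (Nat.pow_le_pow_right two_pos (show 2 ≤ n' + 1 by omega) : 2 ^ 2 ≤ 2 ^ (n' + 1))
    have := Int.le_of_dvd (by linarith) h3
    linarith
  have hVV : Γ V' * Γ V' = 1 := by rw [← map_mul, hV2, map_one]
  have hM : ∀ m' : Additive ↥R, p • m' = 0 := fun m' =>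
    Additive.toMul.injective (Subtype.ext (hexp _ (Additive.toMul m').2))
  have hfin := fixed_card_mod_four hp4 hM (Γ (τ x)) (Γ V') hxp hinv hVV hfree
  have hfixcard : Nat.card {m' : Additive ↥R // Γ V' m' = m'} = g := by
    rw [← hgV]
    refine Nat.card_congr (Additive.toMul.subtypeEquiv fun m' => ?_)
    constructor
    · intro e
      have := congrArg (fun z : Additive ↥R => ((Additive.toMul z : ↥R) : ↥(fixRep Ω u).range)) e
      simpa only [hΓ] using this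
    · intro e
      exact Additive.toMul.injective (Subtype.ext ((hΓ _ _).trans e))
  omega

end Cfsg.Agent.Perm.TwoStab
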