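import Cfsg.Agent.Lib.Perm.TwoStab.TypeS
import Cfsg.Agent.Lib.Perm.TwoStab.TransferTwo
import Cfsg.Agent.Lib.Invol.QuasiDihedral

/-!
# Semidihedral Sylow 2-subgroups: one class of involutions, and the action on the fixed points of `u`

The centre of a Sylow subgroup may be taken to be `u`, the element `v` moves a fixed point of `u`, and by transfer the
group induced on the fixed points of `u` has a regular normal subgroup.
-/

set_option autoImplicit false
set_option linter.unusedSectionVars false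
set_option linter.style.haveILetI false

namespace Cfsg.Agent.Perm.TwoStab

open MulAction Subgroup Invol

universe u₁ u₂

variable {G : Type u₁} [Group G] {Ω : Type u₂} [MulAction G Ω] {a b : Ω} {u v : G}

theorem qd_map {S : Type*} [Group S] {S' : Type*} [Group S'] {n : ℕ} {x y : S} (h : QD S n x y) (e : S ≃* S') :
    QD S' n (e x) (e y) :=
  ⟨h.hn, by rw [← Nat.card_congr e.toEquiv, h.card], by rw [e.orderOf_eq, h.ox], by rw [e.orderOf_eq, h.oy],
    by rw [← map_inv, ← map_mul, ← map_mul, h.conj, map_pow]⟩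

theorem qd_qq_four {S : Type*} [Group S] {n : ℕ} {x y : S} (h : QD S n x y) : 2 ≤ qq n := by
  obtain ⟨r, hr⟩ := h.qq_even
  have := h.qq_pos
  omega

theorem qd_no_two {S : Type*} [Group S] {n : ℕ} {x y : S} (h : QD S n x y) {k : ℤ}
    (hk : 4 * qq n ∣ 2 - k * qq n) : ¬ 2 ∣ k := by
  rintro ⟨m, rfl⟩
  obtain ⟨c, hc⟩ := hk
  obtain ⟨r, hr⟩ := h.qq_even
  have h1 : (2 : ℤ) = r * (8 * c + 4 * m) := by rw [hr] at hc; linear_combination hc
  have h2 : (4 : ℤ) ∣ 2 := ⟨r * (2 * c + m), by linear_combination h1⟩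
  omega

/-- The central involution is the only involution commuting with the generator. -/
theorem qd_central {S : Type*} [Group S] {n : ℕ} {x y : S} (h : QD S n x y) {s : S} (hs : orderOf s = 2)
    (hc : x * s = s * x) : s = x ^ (2 * qq n) := by
  rcases h.involution_cases hs with e | ⟨i, -, e⟩
  · exact e
  exfalso
  have h1 : x ^ (1 : ℤ) * s * (x ^ (1 : ℤ))⁻¹ = s := by rw [zpow_one, hc, mul_inv_cancel_right]
  rw [e, h.conj_x, h.mul_y_eq] at h1
  refine qd_no_two h (k := 2) ?_ (dvd_refl 2)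
  obtain ⟨c, hc'⟩ := h1
  exact ⟨c, by linarith⟩

namespace Cfg

variable (h : Cfg G a b u v)
include h

/-- A Sylow subgroup above the four group with centre generated by `u`. -/
theorem exists_center [Finite G] (hS : NoSwap a b u v) (T₀ : Sylow 2 G) (hT₀ : four u v ≤ (T₀ : Subgroup G))
    (hqd : Cfsg.IsQuasiDihedral ↥(T₀ : Subgroup G)) :
    ∃ (T : Sylow 2 G) (n : ℕ) (x y : ↥(T : Subgroup G)), four u v ≤ (T : Subgroup G) ∧ QD ↥(T : Subgroup G) n x y ∧
      ((x ^ (2 * qq n) : ↥(T : Subgroup G)) : G) = u := by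
  haveI : Fact (Nat.Prime 2) := ⟨Nat.prime_two⟩
  obtain ⟨n, x₀, y₀, hQ⟩ := exists_qd hqd
  set z₀ : G := ((x₀ ^ (2 * qq n) : ↥(T₀ : Subgroup G)) : G) with hz₀
  have hz2 : orderOf z₀ = 2 := by rw [hz₀, Subgroup.orderOf_coe, hQ.orderOf_z]
  have hzV : z₀ ∈ four u v := h.mem_four_of_centralizes hS (k := 1)
    (by rw [pow_one, pow_two]; exact (orderOf_two_iff.1 hz2).1) fun w hw => by
    have := congrArg Subtype.val (hQ.z_central ⟨w, hT₀ hw⟩)
    simpa [hz₀] using this.symm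
  obtain ⟨d, -, hdu, hdV⟩ := h.four_trans hzV (orderOf_two_iff.1 hz2).2
  have hf : Function.Surjective (MulAut.conj d).toMonoidHom := (MulAut.conj d).surjective
  set T := T₀.mapSurjective hf with hT
  let e : ↥(T₀ : Subgroup G) ≃* ↥(T : Subgroup G) :=
    ((T₀ : Subgroup G).equivMapOfInjective (MulAut.conj d).toMonoidHom (MulAut.conj d).injective).trans
      (MulEquiv.subgroupCongr (Sylow.coe_mapSurjective hf T₀).symm)
  refine ⟨T, n, e x₀, e y₀, fun w hw => ?_, qd_map hQ e, ?_⟩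
  · haveI : Finite ↥(four u v) := inferInstance
    obtain ⟨⟨w', hw'⟩, ew⟩ := Finite.surjective_of_injective (f := fun z : ↥(four u v) =>
      (⟨d * (z : G) * d⁻¹, hdV z z.2⟩ : ↥(four u v))) (fun z z' e' => Subtype.ext
        (mul_left_cancel (mul_right_cancel (congrArg Subtype.val e')))) ⟨w, hw⟩
    rw [hT, Sylow.coe_mapSurjective]
    exact ⟨w', hT₀ hw', congrArg Subtype.val ew⟩
  · rw [← map_zpow, ← hdu]
    rfl

/-- In that situation `v` is `x ^ j y` with `j` even. -/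
theorem v_shape {T : Sylow 2 G} {n : ℕ} {x y : ↥(T : Subgroup G)} (hQ : QD ↥(T : Subgroup G) n x y)
    (hu : ((x ^ (2 * qq n) : ↥(T : Subgroup G)) : G) = u) (hT : four u v ≤ (T : Subgroup G)) :
    ∃ j : ℤ, 2 ∣ j ∧ ((x ^ j * y : ↥(T : Subgroup G)) : G) = v := by
  have hv : v ∈ (T : Subgroup G) := hT (h.mem_four.2 (by simp))
  rcases hQ.involution_cases (t := (⟨v, hv⟩ : ↥(T : Subgroup G))) (by rw [Subgroup.orderOf_mk, h.v_ord]) with
    e | ⟨j, hj, e⟩
  · exact absurd ((congrArg Subtype.val e).trans hu).symm h.ne_uv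
  · exact ⟨j, hj, (congrArg Subtype.val e).symm⟩

/-- One class of involutions. -/
theorem one_class [Finite G] {T : Sylow 2 G} {n : ℕ} {x y : ↥(T : Subgroup G)} (hQ : QD ↥(T : Subgroup G) n x y)
    (hu : ((x ^ (2 * qq n) : ↥(T : Subgroup G)) : G) = u) (hT : four u v ≤ (T : Subgroup G)) {i : G}
    (hi : orderOf i = 2) : i ∈ cls u := by
  haveI : Fact (Nat.Prime 2) := ⟨Nat.prime_two⟩
  obtain ⟨P, hP⟩ := (IsPGroup.of_card (G := ↥(zpowers i)) (p := 2) (n := 1)
    (by rw [Nat.card_zpowers, hi, pow_one])).exists_le_sylow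
  obtain ⟨g, hg⟩ := MulAction.exists_smul_eq G P T
  have hiT : g * i * g⁻¹ ∈ (T : Subgroup G) := by
    rw [← hg, Sylow.coe_subgroup_smul]
    exact Subgroup.smul_mem_pointwise_smul i (MulAut.conj g) _ (hP (mem_zpowers i))
  rw [← cls_conj_iff g]
  rcases hQ.involution_cases (t := (⟨_, hiT⟩ : ↥(T : Subgroup G)))
    (by rw [Subgroup.orderOf_mk, ← MulAut.conj_apply, MulEquiv.orderOf_eq, hi]) with e | ⟨k, hk, e⟩
  · rw [show g * i * g⁻¹ = u from (congrArg Subtype.val e).trans hu]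
    exact h.cls_four (h.mem_four.2 (by simp)) h.u_ne
  · obtain ⟨j, hj, ej⟩ := h.v_shape hQ hu hT
    obtain ⟨m, hm⟩ := hQ.conj_mul_y (show 2 ∣ j - k from dvd_sub hj hk)
    have h1 := congrArg Subtype.val hm
    simp only [Subgroup.coe_mul, Subgroup.coe_inv] at h1 ej
    have e' : g * i * g⁻¹ = ((x ^ k * y : ↥(T : Subgroup G)) : G) := congrArg Subtype.val e
    rw [e', ← cls_conj_iff ((x ^ m : ↥(T : Subgroup G)) : G), Subgroup.coe_mul, h1, ej]
    exact h.cls_four (h.mem_four.2 (by simp)) h.v_ne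

/-- `v` moves a fixed point of `u`. -/
theorem exists_moved {T : Sylow 2 G} {n : ℕ} {x y : ↥(T : Subgroup G)} (hQ : QD ↥(T : Subgroup G) n x y)
    (hu : ((x ^ (2 * qq n) : ↥(T : Subgroup G)) : G) = u) (hT : four u v ≤ (T : Subgroup G)) :
    ∃ c ∈ Fx Ω u, v • c ≠ c := by
  by_contra hall
  push Not at hall
  obtain ⟨j, hj, ej⟩ := h.v_shape hQ hu hT
  have hxu : (x : G) * u = u * (x : G) := by rw [← hu]; exact congrArg Subtype.val (hQ.z_central x)
  have hc : ∀ c : Ω, u • c = c → u • ((x : G)⁻¹ • c) = (x : G)⁻¹ • c := fun c hc => by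
    rw [← mul_smul, ← ((show Commute (x : G) u from hxu).inv_left).eq, mul_smul, hc]
  have hfix : ∀ c : Ω, u • c = c → ((x : G) * v * (x : G)⁻¹) • c = c := fun c hc' => by
    rw [mul_smul, mul_smul, hall _ (hc c hc'), smul_inv_smul]
  have hcent : (x : G) * v * (x : G)⁻¹ * u = u * ((x : G) * v * (x : G)⁻¹) := by
    have hi := ((show Commute (x : G) u from hxu).inv_left).eq
    rw [mul_assoc, hi, ← mul_assoc, mul_assoc (x : G) v u, ← h.comm, ← mul_assoc, hxu]
    group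
  have key := h.cent _ ⟨hfix a h.u_a, hfix b h.u_b⟩ hcent
  have e1 : ((x ^ (1 : ℤ) * (x ^ j * y) * (x ^ (1 : ℤ))⁻¹ : ↥(T : Subgroup G)) : G) = (x : G) * v * (x : G)⁻¹ := by
    rw [Subgroup.coe_mul, Subgroup.coe_mul, Subgroup.coe_inv, zpow_one, ej]
  rw [hQ.conj_x] at e1
  rw [← e1] at key
  have hne : ∀ (i : ℤ) (s : ↥(T : Subgroup G)), (∃ k : ℤ, s = x ^ k) → ((x ^ i * y : ↥(T : Subgroup G)) : G) ≠ s :=
    fun i s ⟨k, hk⟩ e => hQ.zpow_mul_y_ne i k (hk ▸ Subtype.ext e)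
  rcases key with e | e | e | e
  · exact hne _ 1 ⟨0, (zpow_zero x).symm⟩ e
  · exact hne _ (x ^ (2 * qq n)) ⟨_, rfl⟩ (e.trans hu.symm)
  · obtain ⟨c, hc'⟩ := hQ.mul_y_eq.1 (Subtype.ext (e.trans ej.symm))
    exact qd_no_two hQ (k := 2) ⟨c, by linarith⟩ (dvd_refl 2)
  · have e' : u * v = ((x ^ (2 * qq n + j) * y : ↥(T : Subgroup G)) : G) := by
      rw [zpow_add, mul_assoc, Subgroup.coe_mul, ej, hu]
    obtain ⟨c, hc'⟩ := hQ.mul_y_eq.1 (Subtype.ext (e.trans e'))
    exact qd_no_two hQ (k := 4) ⟨c, by linarith⟩ ⟨2, rfl⟩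

end Cfg

/-- Transfer: the centraliser of `u` has a normal subgroup of index two without `v`. -/
theorem Cfg.exists_half [Finite G] (h : Cfg G a b u v) {T : Sylow 2 G} {n : ℕ} {x y : ↥(T : Subgroup G)}
    (hQ : QD ↥(T : Subgroup G) n x y) (hu : ((x ^ (2 * qq n) : ↥(T : Subgroup G)) : G) = u)
    (hT : four u v ≤ (T : Subgroup G)) :
    ∃ N : Subgroup ↥(centralizer ({u} : Set G)), N.Normal ∧ N.index = 2 ∧
      ∀ g : ↥(centralizer ({u} : Set G)), (g : G) ∈ four u v → g ∈ N → (g : G) = 1 ∨ (g : G) = u := by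
  haveI : Fact (Nat.Prime 2) := ⟨Nat.prime_two⟩
  set C := centralizer ({u} : Set G) with hC
  have hTC : (T : Subgroup G) ≤ C := fun t ht => mem_centralizer_singleton_iff.2 (by
    rw [← hu]; exact congrArg Subtype.val (hQ.z_central ⟨t, ht⟩))
  set T₁ : Sylow 2 ↥C := T.subtype hTC with hT₁
  have hmem : ∀ {g : ↥C}, g ∈ (T₁ : Subgroup ↥C) ↔ (g : G) ∈ (T : Subgroup G) := fun {g} => by
    rw [hT₁, Sylow.coe_subtype, mem_subgroupOf]
  set D : Subgroup ↥C := ((zpowers x).map (T : Subgroup G).subtype).subgroupOf C with hD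
  have hDi : D.relIndex (T₁ : Subgroup ↥C) = 2 := by
    rw [hT₁, Sylow.coe_subtype, hD, relIndex_subgroupOf hTC]
    show (((zpowers x).map (T : Subgroup G).subtype).comap (T : Subgroup G).subtype).index = 2
    rw [comap_map_eq_self_of_injective (T : Subgroup G).subtype_injective, hQ.index_zpowers]
  have hvC : v ∈ C := mem_centralizer_singleton_iff.2 h.comm.symm
  set v' : ↥C := ⟨v, hvC⟩ with hv'
  have hv2 : ∀ i : ℕ, 1 ≤ i → v' ^ (2 ^ i) = 1 := fun i hi => Subtype.ext (by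
    obtain ⟨k, rfl⟩ : ∃ k, i = k + 1 := ⟨i - 1, by omega⟩
    rw [SubmonoidClass.coe_pow, hv', pow_succ', pow_mul, pow_two, h.vv, one_pow]; rfl)
  obtain ⟨N, hN, hNi, hvN⟩ := exists_index_two_notMem T₁ D hDi v' (hmem.2 (hT (show v ∈ four u v from h.mem_four.2 (by simp))))
    (fun g hg hgD => by
      rw [hD, mem_subgroupOf] at hgD
      obtain ⟨s, hs, es⟩ := hgD
      obtain ⟨i, rfl⟩ := Subgroup.mem_zpowers_iff.1 hs
      have hgo : orderOf ((g⁻¹ * v' * g : ↥C) : G) = 2 := by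
        rw [Subgroup.coe_mul, Subgroup.coe_mul, Subgroup.coe_inv,
          show ((g : G))⁻¹ * (v' : G) * g = MulAut.conj (g : G)⁻¹ v by simp [hv'], MulEquiv.orderOf_eq, h.v_ord]
      rw [← es, Subgroup.coe_subtype, Subgroup.orderOf_coe] at hgo
      have hi2 : x ^ i = x ^ (2 * qq n) := qd_central hQ hgo ((Commute.refl x).zpow_right i).eq
      rw [Subgroup.coe_subtype, hi2, hu, Subgroup.coe_mul, Subgroup.coe_mul, Subgroup.coe_inv] at es
      have hgu : (g : G) * u = u * g := mem_centralizer_singleton_iff.1 g.2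
      apply h.ne_uv
      calc u = (g : G) * u * (g : G)⁻¹ := by rw [hgu, mul_inv_cancel_right]
        _ = v := by rw [es]; simp [hv', mul_assoc])
    (fun g i hi _ => by rw [hv2 i hi, mul_one, inv_mul_cancel]; exact one_mem D)
  haveI := hN
  refine ⟨N, hN, hNi, fun g hgV hgN => ?_⟩
  rcases h.mem_four.1 hgV with e | e | e | e
  · exact Or.inl e
  · exact Or.inr e
  · exact absurd ((show g = v' from Subtype.ext e) ▸ hgN) hvN
  · exfalso
    have huC : u ∈ C := mem_centralizer_singleton_iff.2 rfl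
    have hw : ((x ^ qq n : ↥(T : Subgroup G)) : G) ∈ C := hTC (x ^ qq n).2
    have huN : (⟨u, huC⟩ : ↥C) ∈ N := by
      rw [show (⟨u, huC⟩ : ↥C) = ⟨_, hw⟩ * ⟨_, hw⟩ from Subtype.ext (by
        show u = ((x ^ qq n : ↥(T : Subgroup G)) : G) * ((x ^ qq n : ↥(T : Subgroup G)) : G)
        rw [← Subgroup.coe_mul, ← zpow_add, ← two_mul, hu])]
      exact (Subgroup.mul_mem_iff_of_index_two hNi).2 Iff.rfl
    apply hvN
    rw [show v' = ⟨u, huC⟩ * g from Subtype.ext (by
      rw [Subgroup.coe_mul, e, ← mul_assoc, h.uu, one_mul])]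
    exact N.mul_mem huN hgN

end Cfsg.Agent.Perm.TwoStab
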