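import Cfsg.Agent.Lib.Perm.TwoStab.EvenFour
import Cfsg.Agent.Lib.Fus.SmallSimple

/-!
# Sixteen points: a regular normal subgroup

The core of a point stabiliser has order three.  If every normal subgroup contained `u`, the transfer to a Sylow
3-subgroup would leave a normal subgroup of order 960, and such a group has a normal 2-subgroup, which cannot contain `u`.
-/

set_option autoImplicit false
set_option linter.unusedSectionVars false
set_option linter.style.haveILetI false

namespace Cfsg.Agent.Perm.TwoStab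

open MulAction Subgroup

universe u₁ u₂

/-- A group of order 960 with a simple subgroup of order 60 has a normal 2-subgroup. -/
theorem two_core_ne_bot {K : Type u₁} [Group K] [Finite K] (hK : Nat.card K = 960) (A : Subgroup K)
    [IsSimpleGroup ↥A] (hA : Nat.card ↥A = 60) : Cfsg.pCore 2 K ≠ ⊥ := by
  classical
  haveI : Fact (Nat.Prime 2) := ⟨Nat.prime_two⟩
  intro hbot
  have hno : ∀ M : Subgroup K, M.Normal → IsPGroup 2 ↥M → M = ⊥ := fun M hM hp =>
    le_bot_iff.1 (hbot ▸ Grp.le_pCore hM hp)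
  -- no subgroup of index three or five
  have hsmall : ∀ M₀ : Subgroup K, M₀.index ≠ 3 ∧ M₀.index ≠ 5 := by
    suffices ∀ M₀ : Subgroup K, M₀.index = 3 ∨ M₀.index = 5 → False from
      fun M₀ => ⟨fun e => this M₀ (Or.inl e), fun e => this M₀ (Or.inr e)⟩
    intro M₀ hm
    set M := M₀.normalCore with hM
    have hdvd : M.index ∣ Nat.factorial M₀.index := by
      rw [hM, normalCore_eq_ker, index_ker]
      refine (Subgroup.card_subgroup_dvd_card _).trans ?_
      rw [Nat.card_perm, index]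
    have hmdvd : M₀.index ∣ M.index := index_dvd_of_le M₀.normalCore_le
    have hMK := M.card_mul_index
    rw [hK] at hMK
    haveI : (M.subgroupOf A).Normal := inferInstance
    rcases (inferInstance : (M.subgroupOf A).Normal).eq_bot_or_eq_top with e | e
    · have hinf : M ⊓ A = ⊥ := by
        rw [eq_bot_iff]
        intro x hx
        have h1 : (⟨x, hx.2⟩ : ↥A) ∈ M.subgroupOf A := mem_subgroupOf.2 hx.1
        rw [e, mem_bot] at h1
        exact mem_bot.2 (congrArg Subtype.val h1)
      have h1 := Grp.card_sup_mul_card_inf_normal (H := A) (N := M)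
      rw [inf_comm, hinf, Subgroup.card_bot, mul_one, hA] at h1
      have h2 := Subgroup.card_subgroup_dvd_card (A ⊔ M)
      rw [h1, hK, show (960 : ℕ) = 60 * 16 by norm_num] at h2
      have h3 : Nat.card ↥M ∣ 2 ^ 4 := Nat.dvd_of_mul_dvd_mul_left (show 0 < 60 by norm_num) h2
      obtain ⟨i, -, hi⟩ := (Nat.dvd_prime_pow Nat.prime_two).1 h3
      have hM1 := hno M inferInstance (IsPGroup.of_card hi)
      rw [hM1, Subgroup.card_bot, one_mul] at hMK
      have h4 := Nat.le_of_dvd (Nat.factorial_pos _) hdvd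
      rw [hM1, hMK] at h4
      rcases hm with e' | e' <;> rw [e'] at h4 <;> simp [Nat.factorial] at h4
    · have h1 : A ≤ M := subgroupOf_eq_top.1 e
      have h2 := card_dvd_of_le h1
      rw [hA] at h2
      obtain ⟨c, hc⟩ := h2
      obtain ⟨d, hd⟩ := hmdvd
      rw [hc, hd] at hMK
      rcases hm with e' | e' <;> rw [e'] at hMK
      · have h5 : 180 * (c * d) = 960 := by rw [← hMK]; ring
        omega
      · have h5 : 300 * (c * d) = 960 := by rw [← hMK]; ring
        omega
  obtain ⟨T⟩ := (inferInstance : Nonempty (Sylow 2 K))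
  have hT : Nat.card ↥(T : Subgroup K) = 64 := by
    rw [T.card_eq_multiplicity, hK, show (960 : ℕ) = 2 ^ 6 * 15 by norm_num,
      Nat.factorization_mul (by norm_num) (by norm_num), Finsupp.add_apply, Nat.Prime.factorization_pow Nat.prime_two,
      Finsupp.single_eq_same, Nat.factorization_eq_zero_of_not_dvd (by norm_num)]
    norm_num
  have hTi : (T : Subgroup K).index = 15 := by
    have h1 := (T : Subgroup K).card_mul_index
    rw [hT, hK] at h1
    omega
  have hn2 := T.card_eq_index_normalizer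
  have hdvd := T.card_dvd_index
  rw [hTi] at hdvd
  have h15 : Nat.card (Sylow 2 K) = 15 := by
    have hle := Nat.le_of_dvd (by norm_num) hdvd
    have h35 := hsmall (normalizer (T : Set K))
    rw [← hn2] at h35
    have h1 : Nat.card (Sylow 2 K) ≠ 1 := by
      intro h1
      rw [hn2] at h1
      have hTn : (T : Subgroup K).Normal := normalizer_eq_top_iff.1 (index_eq_one.1 h1)
      rw [hno _ hTn T.isPGroup', Subgroup.card_bot] at hT
      norm_num at hT
    obtain ⟨c, hc⟩ := hdvd
    generalize Nat.card (Sylow 2 K) = N at *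
    interval_cases N <;> omega
  -- two Sylow subgroups meet in a subgroup of order 32
  obtain ⟨T', hne, h32⟩ : ∃ T' : Sylow 2 K, T' ≠ T ∧
      32 ≤ Nat.card ↥((T : Subgroup K) ⊓ (T' : Subgroup K) : Subgroup K) := by
    by_contra hall
    push Not at hall
    haveI := Fintype.ofFinite (Sylow 2 K)
    haveI : Finite (Quotient (orbitRel ↥(T : Subgroup K) (Sylow 2 K))) := inferInstance
    haveI := Fintype.ofFinite (Quotient (orbitRel ↥(T : Subgroup K) (Sylow 2 K)))
    have horb : ∀ T' : Sylow 2 K, (T' = T → Nat.card ↥(orbit ↥(T : Subgroup K) T') = 1) ∧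
        (T' ≠ T → 4 ∣ Nat.card ↥(orbit ↥(T : Subgroup K) T')) := by
      intro T'
      have h1 : Nat.card ↥(orbit ↥(T : Subgroup K) T') * Nat.card ↥(stabilizer ↥(T : Subgroup K) T') = 64 := by
        rw [← hT, ← Nat.card_prod]
        exact Nat.card_congr (orbitProdStabilizerEquivGroup ↥(T : Subgroup K) T')
      refine ⟨fun e => ?_, fun hne => ?_⟩
      · subst e
        rw [Nat.card_eq_one_iff_unique]
        refine ⟨⟨fun x y => Subtype.ext ?_⟩, ⟨⟨T', mem_orbit_self _⟩⟩⟩
        have key : ∀ z : ↥(orbit ↥(T' : Subgroup K) T'), (z : Sylow 2 K) = T' := fun z => by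
          obtain ⟨g, hg⟩ := z.2
          rw [← hg]
          show (g : K) • T' = T'
          exact Sylow.smul_eq_iff_mem_normalizer.2 (le_normalizer g.2)
        rw [key x, key y]
      · have h2 : Nat.card ↥(stabilizer ↥(T : Subgroup K) T') ∣
            Nat.card ↥((T : Subgroup K) ⊓ (T' : Subgroup K) : Subgroup K) := by
          have hle : (stabilizer ↥(T : Subgroup K) T').map (T : Subgroup K).subtype ≤
              (T : Subgroup K) ⊓ (T' : Subgroup K) := by
            rintro _ ⟨g, hg, rfl⟩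
            refine ⟨g.2, ?_⟩
            have hN : (g : K) ∈ normalizer ((T' : Subgroup K) : Set K) := Sylow.smul_eq_iff_mem_normalizer.1 hg
            have hp : IsPGroup 2 ↥(zpowers (g : K)) :=
              T.isPGroup'.to_le (zpowers_le.2 g.2)
            have hsup : IsPGroup 2 ↥(zpowers (g : K) ⊔ (T' : Subgroup K) : Subgroup K) :=
              hp.to_sup_of_normal_right' T'.isPGroup' (zpowers_le.2 hN)
            have heq := T'.is_maximal' hsup le_sup_right
            exact heq ▸ mem_sup_left (mem_zpowers (g : K))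
          have := card_dvd_of_le hle
          rwa [← Nat.card_congr (Subgroup.equivMapOfInjective _ _ (subtype_injective _)).toEquiv] at this
        have h3 := Nat.le_of_dvd Nat.card_pos h2
        have h4 := hall T' hne
        have hs : Nat.card ↥(stabilizer ↥(T : Subgroup K) T') ∣ 2 ^ 6 := ⟨_, h1.symm.trans (mul_comm _ _)⟩
        obtain ⟨i, hi, hsi⟩ := (Nat.dvd_prime_pow Nat.prime_two).1 hs
        rw [hsi] at h1 h3
        have hi4 : i ≤ 4 := by
          by_contra hlt
          have : 2 ^ 5 ≤ 2 ^ i := Nat.pow_le_pow_right two_pos (by omega)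
          omega
        refine ⟨2 ^ (4 - i), Nat.eq_of_mul_eq_mul_right (show 0 < 2 ^ i by positivity) ?_⟩
        rw [h1, mul_assoc, ← pow_add, Nat.sub_add_cancel hi4]
        norm_num
    have hsum : Nat.card (Sylow 2 K) =
        ∑ ω : Quotient (orbitRel ↥(T : Subgroup K) (Sylow 2 K)), Nat.card ↥(orbit ↥(T : Subgroup K) ω.out) := by
      rw [Nat.card_congr (selfEquivSigmaOrbits ↥(T : Subgroup K) (Sylow 2 K)), Nat.card_sigma]
    set ω₀ : Quotient (orbitRel ↥(T : Subgroup K) (Sylow 2 K)) := Quotient.mk'' T with hω₀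
    rw [← Finset.add_sum_erase _ _ (Finset.mem_univ ω₀)] at hsum
    have h4 : 4 ∣ ∑ ω ∈ Finset.univ.erase ω₀, Nat.card ↥(orbit ↥(T : Subgroup K) ω.out) :=
      Finset.dvd_sum fun ω hω => (horb ω.out).2 fun e => (Finset.mem_erase.1 hω).1 (by
        exact (Quotient.out_eq ω).symm.trans (congrArg Quotient.mk'' e))
    have hout : ω₀.out = T := by
      have h1 : ω₀.out ∈ orbit ↥(T : Subgroup K) T := Quotient.mk_out (s := orbitRel ↥(T : Subgroup K) (Sylow 2 K)) T
      obtain ⟨g, hg⟩ := h1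
      rw [← hg]
      show (g : K) • T = T
      exact Sylow.smul_eq_iff_mem_normalizer.2 (le_normalizer g.2)
    rw [(horb ω₀.out).1 hout, h15] at hsum
    obtain ⟨c, hc⟩ := h4
    rw [hc] at hsum
    omega
  set I := (T : Subgroup K) ⊓ (T' : Subgroup K) with hI
  have hIc : Nat.card ↥I = 32 := by
    have h1 := card_dvd_of_le (inf_le_left : I ≤ (T : Subgroup K))
    rw [hT, show (64 : ℕ) = 2 ^ 6 by norm_num] at h1
    obtain ⟨i, hi, hi'⟩ := (Nat.dvd_prime_pow Nat.prime_two).1 h1
    have h2 : i ≠ 6 := fun e => by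
      have h3 : I = (T : Subgroup K) := Subgroup.eq_of_le_of_card_ge inf_le_left (by rw [hi', e, hT]; norm_num)
      exact hne (Sylow.ext (T.is_maximal' T'.isPGroup' (h3 ▸ inf_le_right)))
    have hi5 : 5 ≤ i := by
      by_contra hlt
      have : 2 ^ i ≤ 2 ^ 4 := Nat.pow_le_pow_right two_pos (by omega)
      rw [← hi', ← hI] at this
      omega
    rw [hi', show i = 5 by omega]; rfl
  have hnorm : ∀ S : Sylow 2 K, I ≤ (S : Subgroup K) → (S : Subgroup K) ≤ normalizer (I : Set K) := by
    intro S hS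
    have hSc : Nat.card ↥(S : Subgroup K) = 64 := by rw [S.card_eq_multiplicity, ← T.card_eq_multiplicity, hT]
    have hidx : (I.subgroupOf (S : Subgroup K)).index = 2 := by
      have h1 := (I.subgroupOf (S : Subgroup K)).card_mul_index
      rw [Nat.card_congr (subgroupOfEquivOfLe hS).toEquiv, hIc, hSc] at h1
      omega
    haveI := normal_of_index_eq_two hidx
    exact normal_subgroupOf_iff_le_normalizer hS |>.1 inferInstance
  set M₀ := normalizer (I : Set K) with hM₀
  have hTM : (T : Subgroup K) ≤ M₀ := hnorm T inf_le_left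
  have hT'M : (T' : Subgroup K) ≤ M₀ := hnorm T' inf_le_right
  have h1 := M₀.card_mul_index
  rw [hK] at h1
  obtain ⟨c, hc⟩ := card_dvd_of_le hTM
  rw [hT] at hc
  have hc1 : c ≠ 1 := fun e => by
    have h2 : (T : Subgroup K) = M₀ := Subgroup.eq_of_le_of_card_ge hTM (by rw [hc, e, hT])
    exact hne (Sylow.ext (T'.is_maximal' T.isPGroup' (h2 ▸ hT'M)).symm)
  rw [hc, mul_assoc] at h1
  have h15' : c * M₀.index = 15 := by omega
  have hd : M₀.index ∣ 15 := ⟨c, by rw [← h15', mul_comm]⟩
  have hle := Nat.le_of_dvd (by norm_num) hd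
  obtain ⟨h3, h5⟩ := hsmall M₀
  have h1' : M₀.index = 1 := by
    by_contra hne1
    have : c = 1 ∨ M₀.index = 1 ∨ M₀.index = 3 ∨ M₀.index = 5 := by
      obtain ⟨d, hd'⟩ := hd
      interval_cases hx : M₀.index <;> omega
    omega
  have hIn : I.Normal := normalizer_eq_top_iff.1 (index_eq_one.1 h1')
  rw [hno I hIn (T.isPGroup'.to_le inf_le_left), Subgroup.card_bot] at hIc
  norm_num at hIc

variable {G : Type u₁} [Group G] {Ω : Type u₂} [MulAction G Ω] {a b : Ω} {u v w : G}

/-- The point stabiliser has a central subgroup of order three with simple quotient of order sixty. -/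
theorem Four.sixteen_stab [Finite G] [Finite Ω] (h : Four G a b u v) (hn : Nat.card Ω = 16)
    {O : Subgroup ↥(stabilizer G a)} [O.Normal] (hO : O = Cfsg.oddCore ↥(stabilizer G a))
    {L : Subgroup (↥(stabilizer G a) ⧸ O)} [L.Normal] (hLs : IsSimpleGroup ↥L)
    (hLc : centralizer (L : Set (↥(stabilizer G a) ⧸ O)) = ⊥) (h60 : Nat.card ↥L = 60) :
    IsSimpleGroup (↥(stabilizer G a) ⧸ O) ∧ Nat.card (↥(stabilizer G a) ⧸ O) = 60 ∧
      (⟨u, h.u_mem.1⟩ : ↥(stabilizer G a)) ∉ O ∧
      ∃ z : G, z * z * z = 1 ∧ z ≠ 1 ∧ z • a = a ∧ (∀ g : G, g • a = a → g * z = z * g) ∧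
        (∀ c : Ω, z • c = c → c = a) ∧ ∀ x ∈ O, (x : G) = 1 ∨ (x : G) = z ∨ (x : G) = z * z := by
  classical
  haveI : Fact (Nat.Prime 2) := ⟨Nat.prime_two⟩
  have hH : Nat.card ↥(stabilizer G a) = 180 := by
    obtain ⟨-, h1, -⟩ := h.toCfg.stab_cards (by rw [hn]; decide) ⟨3, by decide, h.card_D⟩
    rw [h1, hn, h.card_D]
  have hQO : Nat.card (↥(stabilizer G a) ⧸ O) * Nat.card ↥O = 180 := by
    rw [← hH]; exact O.card_eq_card_quotient_mul_card_subgroup.symm
  obtain ⟨e₅⟩ := Fus.alternating_five_of_card (G := ↥L) h60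
  have haut : Nat.card (MulAut ↥L) ≤ 120 := by
    rw [Nat.card_congr (MulAut.congr e₅).toEquiv]
    refine (Nat.card_le_card_of_surjective _ (Cfsg.Agent.S2119.result 5 (by norm_num) (by norm_num)).2).trans ?_
    rw [Nat.card_perm, Nat.card_eq_fintype_card, Fintype.card_fin]
    decide
  haveI : Finite (MulAut ↥L) := inferInstance
  have hle : Nat.card (↥(stabilizer G a) ⧸ O) ≤ 120 := by
    refine (Nat.card_le_card_of_injective (MulAut.conjNormal (H := L)) ?_).trans haut
    rw [← MonoidHom.ker_eq_bot_iff, eq_bot_iff, ← hLc]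
    intro g hg
    refine mem_centralizer_iff.2 fun l hl => ?_
    have := congrArg Subtype.val (DFunLike.congr_fun (MonoidHom.mem_ker.1 hg) ⟨l, hl⟩)
    rw [MulAut.conjNormal_apply] at this
    exact (mul_inv_eq_iff_eq_mul.1 this).symm
  have hQ : Nat.card (↥(stabilizer G a) ⧸ O) = 60 := by
    obtain ⟨c, hc⟩ := h60 ▸ Subgroup.card_subgroup_dvd_card L
    rw [hc] at hle hQO ⊢
    have : c * Nat.card ↥O = 3 := by
      rw [mul_assoc] at hQO; omega
    have hc3 : c ∣ 3 := ⟨_, this.symm⟩
    rcases (Nat.dvd_prime Nat.prime_three).1 hc3 with e | e <;> omega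
  have hO3 : Nat.card ↥O = 3 := by rw [hQ] at hQO; omega
  have hLtop : L = ⊤ := Subgroup.eq_top_of_card_eq L (by rw [h60, hQ])
  have hsimple : IsSimpleGroup (↥(stabilizer G a) ⧸ O) := by
    subst hLtop
    exact Subgroup.topEquiv.symm.isSimpleGroup
  have huO : (⟨u, h.u_mem.1⟩ : ↥(stabilizer G a)) ∉ O := fun hm => by
    have h1 := Subgroup.orderOf_dvd_natCard _ hm
    rw [Subgroup.orderOf_mk, h.u_ord, hO3] at h1
    norm_num at h1
  refine ⟨hsimple, hQ, huO, ?_⟩
  haveI : Fact (Nat.Prime 3) := ⟨Nat.prime_three⟩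
  obtain ⟨z, hz⟩ := exists_prime_orderOf_dvd_card' (G := ↥O) 3 (by rw [hO3])
  have hz3 : z ^ 3 = 1 := hz ▸ pow_orderOf_eq_one z
  have hz1 : z ≠ 1 := fun e => by rw [e, orderOf_one] at hz; norm_num at hz
  have hzpow : ∀ x : ↥O, x = 1 ∨ x = z ∨ x = z * z := fun x => by
    have hm : x ∈ Submonoid.powers z := by
      exact mem_powers_iff_mem_zpowers.2 (by
        rw [Subgroup.eq_top_of_card_eq (zpowers z) (by rw [Nat.card_zpowers, hz, hO3])]; exact mem_top _)
    obtain ⟨i, rfl⟩ : ∃ i : ℕ, z ^ i = x := hm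
    obtain ⟨r, hr, hri⟩ : ∃ r, r < 3 ∧ z ^ i = z ^ r := ⟨i % 3, Nat.mod_lt _ (by norm_num), by
      rw [← hz, pow_mod_orderOf]⟩
    rw [hri]
    interval_cases r
    · exact Or.inl (pow_zero z)
    · exact Or.inr (Or.inl (pow_one z))
    · exact Or.inr (Or.inr (pow_two z))
  -- the stabiliser centralises it
  let χ : ↥(stabilizer G a) →* MulAut ↥O := MulAut.conjNormal
  have hker : χ.ker = ⊤ := by
    haveI : IsCyclic ↥O := isCyclic_of_prime_card hO3
    have h2 : Nat.card ↥χ.range ∣ 2 := by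
      refine (Subgroup.card_subgroup_dvd_card _).trans ?_
      rw [IsCyclic.card_mulAut, hO3]
      decide
    have hOk : O ≤ χ.ker := fun x hx => by
      rw [MonoidHom.mem_ker]
      refine MulEquiv.ext fun y => Subtype.ext ?_
      simp only [χ, MulAut.conjNormal_apply, MulAut.one_apply]
      have := congrArg Subtype.val (IsCyclic.commGroup.mul_comm (⟨x, hx⟩ : ↥O) y)
      exact mul_inv_eq_iff_eq_mul.2 this
    rcases hsimple.eq_bot_or_eq_top_of_normal ((χ.ker).map (QuotientGroup.mk' O))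
        ((inferInstance : χ.ker.Normal).map _ (QuotientGroup.mk'_surjective O)) with e | e
    · exfalso
      rw [Subgroup.map_eq_bot_iff, QuotientGroup.ker_mk'] at e
      have h3 := card_dvd_of_le e
      rw [← le_antisymm hOk e] at h3
      have h4 := χ.ker.card_mul_index
      rw [index_ker, hH, ← le_antisymm hOk e, hO3] at h4
      have := Nat.le_of_dvd two_pos h2
      omega
    · have h1 := congrArg (Subgroup.comap (QuotientGroup.mk' O)) e
      rwa [comap_map_eq, QuotientGroup.ker_mk', sup_eq_left.2 hOk, comap_top] at h1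
  refine ⟨((z : ↥(stabilizer G a)) : G), congrArg (fun y : ↥O => ((y : ↥(stabilizer G a)) : G)) (show z * z * z = 1 by rw [← hz3, pow_succ, pow_two]),
    fun e => hz1 (Subtype.ext (Subtype.ext e)), (z : ↥(stabilizer G a)).2, fun g hg => ?_, fun c hc => ?_, fun x hx => ?_⟩
  · have h1 : χ ⟨g, hg⟩ = 1 := MonoidHom.mem_ker.1 (hker ▸ mem_top _)
    have h2 := congrArg Subtype.val (DFunLike.congr_fun h1 z)
    simp only [χ, MulAut.conjNormal_apply, MulAut.one_apply] at h2
    exact congrArg Subtype.val (mul_inv_eq_iff_eq_mul.1 h2)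
  · by_contra hca
    refine hz1 (Subtype.ext (Subtype.ext (h.faithful _ fun d => ?_)))
    by_cases hda : d = a
    · rw [hda]; exact (z : ↥(stabilizer G a)).2
    obtain ⟨g, h1, h2⟩ := h.toCfg.move a c a d (fun e => hca e.symm) (fun e => hda e.symm)
    have h3 : χ ⟨g, h1⟩ = 1 := MonoidHom.mem_ker.1 (hker ▸ mem_top _)
    have h4 := congrArg Subtype.val (DFunLike.congr_fun h3 z)
    simp only [χ, MulAut.conjNormal_apply, MulAut.one_apply] at h4
    have h5 : g * ((z : ↥(stabilizer G a)) : G) = ((z : ↥(stabilizer G a)) : G) * g := congrArg Subtype.val (mul_inv_eq_iff_eq_mul.1 h4)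
    rw [← h2, smul_smul, ← h5, mul_smul, hc]
  · rcases hzpow ⟨x, hx⟩ with e | e | e
    · exact Or.inl (congrArg (fun y : ↥O => ((y : ↥(stabilizer G a)) : G)) e)
    · exact Or.inr (Or.inl (congrArg (fun y : ↥O => ((y : ↥(stabilizer G a)) : G)) e))
    · exact Or.inr (Or.inr (congrArg (fun y : ↥O => ((y : ↥(stabilizer G a)) : G)) e))

/-- The regular normal subgroup. -/
theorem Four.sixteen_regular [Finite G] [Finite Ω] (h : Four G a b u v) (hn : Nat.card Ω = 16)
    {O : Subgroup ↥(stabilizer G a)} [O.Normal] (hO : O = Cfsg.oddCore ↥(stabilizer G a))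
    {L : Subgroup (↥(stabilizer G a) ⧸ O)} [L.Normal] (hLs : IsSimpleGroup ↥L)
    (hLc : centralizer (L : Set (↥(stabilizer G a) ⧸ O)) = ⊥) (h60 : Nat.card ↥L = 60) :
    ∃ R : Subgroup G, R.Normal ∧ (∀ x ∈ R, x * x = 1) ∧ (∀ x ∈ R, ∀ y ∈ R, x * y = y * x) ∧
      (∀ x y : Ω, ∃ r ∈ R, r • x = y) ∧ ∀ r ∈ R, ∀ x : Ω, r • x = x → r = 1 := by
  classical
  have hc := h.toCfg
  by_cases hex : ∃ N : Subgroup G, N.Normal ∧ N ≠ ⊥ ∧ u ∉ N
  · obtain ⟨N, hN, hN1, huN⟩ := hex
    haveI := hN
    have hbot : N.subgroupOf (pairStab G a b) = ⊥ := by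
      by_contra e
      exact huN (mem_subgroupOf.1 (h.toStab.normal_mem _ inferInstance e))
    obtain ⟨K, hK, -, hKt, hKf⟩ := exists_regular_normal (a := a) N (hc.transitive_of_normal N hN1)
      fun n hn hn1 c d hcn hd => by
        by_contra hcd
        obtain ⟨g, h1, h2⟩ := hc.move c d a b hcd h.ne
        have hm : g * n * g⁻¹ ∈ pairStab G a b := by
          refine ⟨?_, ?_⟩
          · show (g * n * g⁻¹) • a = a
            rw [← h1, mul_smul, mul_smul, inv_smul_smul, hcn]
          · show (g * n * g⁻¹) • b = b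
            rw [← h2, mul_smul, mul_smul, inv_smul_smul, hd]
        have h3 : (⟨_, hm⟩ : ↥(pairStab G a b)) ∈ N.subgroupOf (pairStab G a b) :=
          mem_subgroupOf.2 ((inferInstance : N.Normal).conj_mem n hn g)
        rw [hbot, mem_bot] at h3
        refine hn1 ?_
        have h4 : g * n * g⁻¹ = 1 := congrArg Subtype.val h3
        rwa [mul_inv_eq_one, mul_eq_left] at h4
    obtain ⟨p, k, hp, hk, hpk, -, hexp, hcomm⟩ := regular_elem (fun c d c' d' hcd hcd' => hc.move c d c' d' hcd hcd')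
      h.ne K hK hKt hKf
    have hp2 : p = 2 := by
      rw [hn] at hpk
      exact ((Nat.prime_dvd_prime_iff_eq hp Nat.prime_two).1 (hp.dvd_of_dvd_pow (n := 4) (by
        rw [show (2 : ℕ) ^ 4 = p ^ k from hpk]; exact dvd_pow_self p (by omega))))
    exact ⟨K, hK, fun x hx => by rw [← pow_two, ← hp2]; exact hexp x hx, hcomm, hKt, hKf⟩
  exfalso
  push Not at hex
  obtain ⟨hsimple, hQ, huO, z, hz3, hz1, hza, hzc, hzfix, hOz⟩ := h.sixteen_stab hn hO hLs hLc h60
  haveI := hsimple
  haveI : Fact (Nat.Prime 3) := ⟨Nat.prime_three⟩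
  haveI : Fact (Nat.Prime 2) := ⟨Nat.prime_two⟩
  have hG : Nat.card G = 2880 := by rw [hc.card_group, h.card_D, hn]
  have hzo : orderOf z = 3 := orderOf_eq_prime (by rw [pow_succ, pow_two, hz3]) hz1
  obtain ⟨P, hP⟩ := (IsPGroup.of_card (G := ↥(zpowers z)) (p := 3) (n := 1)
    (by rw [Nat.card_zpowers, hzo, pow_one])).exists_le_sylow
  have hzP : z ∈ (P : Subgroup G) := hP (mem_zpowers z)
  have hPc : Nat.card ↥(P : Subgroup G) = 3 ^ 2 := by
    rw [P.card_eq_multiplicity, hG, show (2880 : ℕ) = 3 ^ 2 * 320 by norm_num,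
      Nat.factorization_mul (by norm_num) (by norm_num), Finsupp.add_apply, Nat.Prime.factorization_pow Nat.prime_three,
      Finsupp.single_eq_same, Nat.factorization_eq_zero_of_not_dvd (by norm_num)]
  letI : CommGroup ↥(P : Subgroup G) := IsPGroup.commGroupOfCardEqPrimeSq hPc
  haveI : IsMulCommutative ↥(P : Subgroup G) := ⟨⟨mul_comm⟩⟩
  obtain ⟨c, hcfix⟩ := (IsPGroup.of_card hPc).nonempty_fixed_point_of_prime_not_dvd_card Ω (by rw [hn]; norm_num)
  obtain rfl : c = a := hzfix c (congrArg id (hcfix ⟨z, hzP⟩))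
  have hNc : ∀ g ∈ normalizer ((P : Subgroup G) : Set G), g * z = z * g := by
    intro g hg
    refine hzc g (hzfix _ ?_)
    have hm : g⁻¹ * z * g ∈ (P : Subgroup G) := (mem_normalizer_iff''.1 hg z).1 hzP
    have h1 : (g⁻¹ * z * g) • c = c := congrArg id (hcfix ⟨_, hm⟩)
    rwa [mul_smul, mul_smul, inv_smul_eq_iff] at h1
  let φ : G →* ↥(P : Subgroup G) := MonoidHom.transfer (MonoidHom.id ↥(P : Subgroup G))
  have hkey : ∀ (k : ℕ) (g₀ : G), g₀⁻¹ * z ^ k * g₀ ∈ (P : Subgroup G) → g₀⁻¹ * z ^ k * g₀ = z ^ k := by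
    intro k g₀ hm
    obtain ⟨n, hn', e⟩ := P.conj_eq_normalizer_conj_of_mem (z ^ k) g₀ (pow_mem hzP k) hm
    rw [e, mul_assoc, ← ((show Commute n z from hNc n hn').pow_right k).eq, inv_mul_cancel_left]
  have hφz : φ z ≠ 1 := by
    intro e
    have h1 : φ z = ⟨z ^ (P : Subgroup G).index, MonoidHom.transfer_eq_pow_aux z hkey⟩ :=
      MonoidHom.transfer_eq_pow (MonoidHom.id ↥(P : Subgroup G)) z hkey
    rw [e] at h1
    have h2 : z ^ (P : Subgroup G).index = 1 := (congrArg Subtype.val h1).symm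
    have h3 := orderOf_dvd_of_pow_eq_one h2
    rw [hzo] at h3
    exact P.not_dvd_index h3
  set K := φ.ker with hK
  have hzK : z ∉ K := fun hm => hφz (MonoidHom.mem_ker.1 hm)
  have hK1 : K ≠ ⊥ := fun e => by
    have h2 : φ u * φ u = 1 := by rw [← map_mul, hc.uu, map_one]
    have h3 : φ u = 1 := by
      by_contra hne
      have h4 := orderOf_dvd_natCard (φ u)
      rw [orderOf_two_iff.2 ⟨h2, hne⟩, hPc] at h4
      norm_num at h4
    exact hc.u_ne (mem_bot.1 (e ▸ MonoidHom.mem_ker.2 h3))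
  have huK : u ∈ K := hex K inferInstance hK1
  set KH := K.subgroupOf (stabilizer G c) with hKH
  haveI : KH.Normal := inferInstance
  have hKO : Disjoint KH O := by
    rw [disjoint_iff, eq_bot_iff]
    rintro x ⟨hxK, hxO⟩
    have hxK' : (x : G) ∈ K := mem_subgroupOf.1 hxK
    rcases hOz x hxO with e | e | e
    · exact mem_bot.2 (Subtype.ext e)
    · exact absurd (e ▸ hxK') hzK
    · exfalso
      refine hzK ?_
      have : z = z * z * (z * z) := by
        rw [show z * z * (z * z) = z * z * z * z by group, hz3, one_mul]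
      rw [this, ← e]
      exact mul_mem hxK' hxK'
  set f : ↥KH →* ↥(stabilizer G c) ⧸ O := (QuotientGroup.mk' O).comp KH.subtype with hf
  have hfinj : Function.Injective f := (injective_iff_map_eq_one f).2 fun x hx => by
    have h1 : (x : ↥(stabilizer G c)) ∈ KH ⊓ O := ⟨x.2, (QuotientGroup.eq_one_iff _).1 hx⟩
    rw [disjoint_iff.1 hKO, mem_bot] at h1
    exact Subtype.ext h1
  have hfsurj : Function.Surjective f := by
    have hr : f.range = KH.map (QuotientGroup.mk' O) := by
      rw [hf, MonoidHom.range_eq_map, ← Subgroup.map_map, ← MonoidHom.range_eq_map, Subgroup.range_subtype]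
    rw [← MonoidHom.range_eq_top, hr]
    refine (((inferInstance : KH.Normal).map _ (QuotientGroup.mk'_surjective O)).eq_bot_or_eq_top).resolve_left fun e => ?_
    rw [Subgroup.map_eq_bot_iff, QuotientGroup.ker_mk'] at e
    exact huO (e (mem_subgroupOf.2 huK))
  let ef := MulEquiv.ofBijective f ⟨hfinj, hfsurj⟩
  haveI : IsSimpleGroup ↥KH := ef.isSimpleGroup
  have hKH60 : Nat.card ↥KH = 60 := by rw [Nat.card_congr ef.toEquiv, hQ]
  set A := (stabilizer G c).subgroupOf K with hA
  let eA : ↥A ≃* ↥KH :=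
    { toFun := fun x => ⟨⟨((x : ↥K) : G), mem_subgroupOf.1 x.2⟩, mem_subgroupOf.2 (x : ↥K).2⟩
      invFun := fun x => ⟨⟨((x : ↥(stabilizer G c)) : G), mem_subgroupOf.1 x.2⟩, mem_subgroupOf.2 (x : ↥(stabilizer G c)).2⟩
      left_inv := fun x => rfl
      right_inv := fun x => rfl
      map_mul' := fun x y => rfl }
  haveI : IsSimpleGroup ↥A := eA.isSimpleGroup
  have hA60 : Nat.card ↥A = 60 := by rw [Nat.card_congr eA.toEquiv, hKH60]
  have htr := hc.transitive_of_normal K hK1
  haveI : IsPretransitive ↥K Ω := ⟨fun x y => by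
    obtain ⟨k, hk, e'⟩ := htr x y
    exact ⟨⟨k, hk⟩, e'⟩⟩
  have hK960 : Nat.card ↥K = 960 := by
    have h1 := (stabilizer ↥K c).card_mul_index
    rw [index_stabilizer_of_transitive, hn, show stabilizer ↥K c = A by ext x; rfl, hA60] at h1
    exact h1.symm
  have hP2 := two_core_ne_bot hK960 A hA60
  set M := (Cfsg.pCore 2 ↥K).map K.subtype with hM
  haveI : M.Normal := inferInstance
  have hM1 : M ≠ ⊥ := fun e => hP2 ((map_eq_bot_iff_of_injective _ K.subtype_injective).1 e)
  obtain ⟨m, hm, hmu⟩ := hex M inferInstance hM1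
  have hmA : m ∈ A := by
    refine mem_subgroupOf.2 ?_
    show (m : G) ∈ (stabilizer G c)
    rw [show (m : G) = u from hmu]
    exact h.u_mem.1
  haveI : (Cfsg.pCore 2 ↥K).Normal := Grp.pCore_isNormal
  rcases (inferInstance : ((Cfsg.pCore 2 ↥K).subgroupOf A).Normal).eq_bot_or_eq_top with e | e
  · have h1 : (⟨m, hmA⟩ : ↥A) ∈ (Cfsg.pCore 2 ↥K).subgroupOf A := mem_subgroupOf.2 hm
    rw [e, mem_bot] at h1
    have h2 : u = 1 := by
      rw [← show (m : G) = u from hmu]
      exact congrArg (fun x : ↥A => ((x : ↥K) : G)) h1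
    exact hc.u_ne h2
  · obtain ⟨i, hi⟩ := (Grp.pCore_isPGroup (p := 2) (G := ↥K)).to_le (subgroupOf_eq_top.1 e) |>.exists_card_eq
    rw [hA60] at hi
    have h15 : 3 ∣ 2 ^ i := hi ▸ (by norm_num : 3 ∣ 60)
    exact absurd (Nat.prime_three.dvd_of_dvd_pow h15) (by norm_num)

end Cfsg.Agent.Perm.TwoStab
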