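import Cfsg.Agent.Lib.Perm.TwoStab.Count
import Cfsg.Agent.Lib.Grp.ZNGroups.Local2

/-!
# No element centralising the four group interchanges the two points

Then the four group is self-centralising in every 2-group above it, so the Sylow 2-subgroups are dihedral or
semidihedral.
-/

set_option autoImplicit false
set_option linter.unusedSectionVars false
set_option linter.style.haveILetI false

namespace Cfsg.Agent.Perm.TwoStab

open MulAction Subgroup

universe u₁ u₂

variable {G : Type u₁} [Group G] {Ω : Type u₂} [MulAction G Ω] {a b : Ω} {u v : G}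

/-- No element centralising the four group interchanges the points. -/
def NoSwap (a b : Ω) (u v : G) : Prop :=
  ∀ g : G, g • a = b → g • b = a → g * u = u * g → g * v = v * g → False

namespace Cfg

variable (h : Cfg G a b u v)
include h

/-- Transporting an element that moves a common fixed point of the four group to the two points. -/
theorem transport {y : G} (hy : ∀ x ∈ four u v, y * x = x * y) {c : Ω} (hc : c ∈ Fx Ω u ∩ Fx Ω v) (hne : y • c ≠ c)
    (hyy : y • y • c = c) :
    ∃ g : G, (g * y * g⁻¹) • a = b ∧ (g * y * g⁻¹) • b = a ∧ ∀ x ∈ four u v, g * y * g⁻¹ * x = x * (g * y * g⁻¹) := by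
  have hd : y • c ∈ Fx Ω u ∩ Fx Ω v := by
    constructor
    · show u • y • c = y • c
      rw [← mul_smul, ← hy u (h.mem_four.2 (by simp)), mul_smul, hc.1]
    · show v • y • c = y • c
      rw [← mul_smul, ← hy v (h.mem_four.2 (by simp)), mul_smul, hc.2]
  obtain ⟨g, h1, h2, h3, h4⟩ := h.norm_pairs (fun e => hne e.symm) hc hd
  refine ⟨g, by rw [← h1, mul_smul, mul_smul, inv_smul_smul, h2],
    by rw [← h2, mul_smul, mul_smul, inv_smul_smul, hyy, h1], fun x hx => ?_⟩
  haveI : Finite ↥(four u v) := Nat.finite_of_card_ne_zero (by rw [h.card_four]; norm_num)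
  obtain ⟨⟨z, hz⟩, ez⟩ := Finite.surjective_of_injective (f := fun z : ↥(four u v) =>
    (⟨g * (z : G) * g⁻¹, h4 z z.2⟩ : ↥(four u v))) (fun z z' e => Subtype.ext
      (mul_left_cancel (mul_right_cancel (congrArg Subtype.val e)))) ⟨x, hx⟩
  have ez' : g * z * g⁻¹ = x := congrArg Subtype.val ez
  rw [← ez', show g * y * g⁻¹ * (g * z * g⁻¹) = g * (y * z) * g⁻¹ by group, hy z hz]
  group

/-- An element of 2-power order centralising the four group lies in it. -/
theorem mem_four_of_centralizes (hS : NoSwap a b u v) {x : G} {k : ℕ} (hxk : x ^ 2 ^ k = 1)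
    (hx : ∀ y ∈ four u v, x * y = y * x) : x ∈ four u v := by
  induction k generalizing x with
  | zero =>
    rw [pow_zero, pow_one] at hxk
    rw [hxk]
    exact one_mem _
  | succ k ih =>
    have hx2 : x * x ∈ four u v := by
      refine ih (x := x * x) (by rw [← pow_two, ← pow_mul, ← pow_succ']; exact hxk) fun y hy => ?_
      rw [mul_assoc, hx y hy, ← mul_assoc, hx y hy, mul_assoc]
    by_cases hfix : x • a = a ∧ x • b = b
    · exact h.mem_four.2 (h.cent x hfix (hx u (h.mem_four.2 (by simp))))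
    exfalso
    obtain ⟨c, hc, hne⟩ : ∃ c, c ∈ Fx Ω u ∩ Fx Ω v ∧ x • c ≠ c := by
      by_cases hxa : x • a = a
      · exact ⟨b, ⟨h.u_b, h.v_b⟩, fun e => hfix ⟨hxa, e⟩⟩
      · exact ⟨a, ⟨h.u_a, h.v_a⟩, hxa⟩
    obtain ⟨g, h1, h2, h3⟩ := h.transport hx hc hne (by rw [← mul_smul]; exact h.four_fix hc hx2)
    exact hS _ h1 h2 (h3 u (h.mem_four.2 (by simp))) (h3 v (h.mem_four.2 (by simp)))

/-- The Sylow 2-subgroups above the four group. -/
theorem sylow_shape [Finite G] (hS : NoSwap a b u v) (T : Sylow 2 G) (hT : four u v ≤ (T : Subgroup G)) :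
    (∃ m : ℕ, 2 ≤ m ∧ Nonempty (↥(T : Subgroup G) ≃* DihedralGroup m)) ∨ Cfsg.IsQuasiDihedral ↥(T : Subgroup G) := by
  refine Grp.ZN.dihedral_or_quasiDihedral T.isPGroup' ((four u v).subgroupOf T)
    (by rw [Nat.card_congr (subgroupOfEquivOfLe hT).toEquiv, h.card_four])
    (fun x hx => Subtype.ext (h.four_sq (mem_subgroupOf.1 hx))) (le_antisymm (fun x hx => ?_) fun x hx => ?_)
  · obtain ⟨k, hk⟩ := T.isPGroup' x
    refine mem_subgroupOf.2 (h.mem_four_of_centralizes hS (k := k) ?_ fun y hy => ?_)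
    · simpa using congrArg Subtype.val hk
    · exact (congrArg Subtype.val (mem_centralizer_iff.1 hx ⟨y, hT hy⟩ (mem_subgroupOf.2 hy))).symm
  · exact mem_centralizer_iff.2 fun y hy =>
      Subtype.ext (h.four_comm (mem_subgroupOf.1 hy) (mem_subgroupOf.1 hx))

theorem exists_sylow [Finite G] : ∃ T : Sylow 2 G, four u v ≤ (T : Subgroup G) := by
  haveI : Fact (Nat.Prime 2) := ⟨Nat.prime_two⟩
  exact (IsPGroup.of_card (G := ↥(four u v)) (p := 2) (n := 2) h.card_four).exists_le_sylow

end Cfg

end Cfsg.Agent.Perm.TwoStab
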